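import Mathlib
import Cfsg.Agent.Lib.H20.Basic
import Cfsg.Agent.Lib.H18.Syl
import Cfsg.Agent.Lib.H01.Coprime3

/-! The product formula for the number of Sylow subgroups (helper20). -/

set_option autoImplicit false

namespace Cfsg.Agent.H20

open Subgroup

universe u

variable {G : Type*} [Group G] [Finite G]

/-- Relative index and a "Frattini factorisation". -/
theorem relIndex_of_sup_le {T H K : Subgroup G} (hKT : K ≤ T) (hn : T ≤ normalizer (K : Set G))
    (hsup : T ≤ H ⊔ K) (hHT : H ≤ T) : H.relIndex T = H.relIndex K := by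
  let H' : Subgroup T := H.subgroupOf T
  let K' : Subgroup T := K.subgroupOf T
  have hK' : K'.Normal := (Subgroup.normal_subgroupOf_iff_le_normalizer hKT).mpr hn
  have hs : H' ⊔ K' = ⊤ := by
    apply Subgroup.map_injective T.subtype_injective
    rw [Subgroup.map_sup, Subgroup.subgroupOf_map_subtype, Subgroup.subgroupOf_map_subtype,
      ← MonoidHom.range_eq_map, Subgroup.range_subtype, inf_of_le_left hHT, inf_of_le_left hKT]
    exact le_antisymm (sup_le hHT hKT) hsup
  have h1 := H20.relIndex_sup_of_normal H' K'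
  rw [hs, Subgroup.relIndex_top_right] at h1
  have h2 : H'.index = H.relIndex T := rfl
  rw [← h2, h1]
  have h3 : H' = H.comap T.subtype := rfl
  rw [h3, Subgroup.relIndex_comap]
  show H.relIndex ((K.subgroupOf T).map T.subtype) = _
  rw [Subgroup.subgroupOf_map_subtype, inf_of_le_left hKT]

variable {p : ℕ} [Fact p.Prime]

omit [Finite G] [Fact p.Prime] in
theorem card_sylow_eq [Finite G] [Fact p.Prime] (P : Sylow p G) :
    Nat.card (Sylow p G) = (normalizer ((P : Subgroup G) : Set G)).index :=
  Sylow.card_eq_index_normalizer P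

theorem card_sylow_quot (K : Subgroup G) [K.Normal] (P : Sylow p G) :
    Nat.card (Sylow p (G ⧸ K)) =
      (normalizer (((P : Subgroup G) ⊔ K : Subgroup G) : Set G)).index := by
  let Pb : Sylow p (G ⧸ K) := P.mapSurjective (QuotientGroup.mk'_surjective K)
  rw [card_sylow_eq Pb]
  rw [← Subgroup.index_comap_of_surjective _ (QuotientGroup.mk'_surjective K)]
  congr 1
  rw [Subgroup.comap_normalizer_eq_of_surjective _ (QuotientGroup.mk'_surjective K)]
  congr 2
  rw [Sylow.coe_mapSurjective, Subgroup.comap_map_eq, QuotientGroup.ker_mk']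

theorem card_sylow_sub (L : Subgroup G) (P : Sylow p G) (h : (P : Subgroup G) ≤ L) :
    Nat.card (Sylow p L) = (normalizer ((P : Subgroup G) : Set G)).relIndex L := by
  rw [card_sylow_eq (P.subtype h), Subgroup.relIndex]
  congr 1
  rw [Sylow.coe_subtype]
  exact (Subgroup.subgroupOf_normalizer_eq h).symm

theorem card_sylow_normal_sub (K : Subgroup G) [K.Normal] (P : Sylow p G) :
    Nat.card (Sylow p K) = (normalizer (((P : Subgroup G) ⊓ K : Subgroup G) : Set G)).relIndex K := by
  rw [card_sylow_eq (H18.sylowOfNormal P K), Subgroup.relIndex]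
  congr 1
  rw [H18.coe_sylowOfNormal]
  rw [← Subgroup.inf_subgroupOf_right (P : Subgroup G) K]
  exact (Subgroup.subgroupOf_normalizer_eq inf_le_right).symm

/-- A normal `p`-subgroup contained in a Sylow subgroup does not change the number of Sylow subgroups. -/
theorem card_sylow_quot_of_le (D : Subgroup G) [D.Normal] (P : Sylow p G) (h : D ≤ P) :
    Nat.card (Sylow p (G ⧸ D)) = Nat.card (Sylow p G) := by
  rw [card_sylow_quot D P, sup_of_le_left h, card_sylow_eq P]

omit [Fact p.Prime] in
theorem le_normalizer_sup (K : Subgroup G) [K.Normal] (P : Sylow p G) :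
    normalizer ((P : Subgroup G) : Set G) ≤ normalizer (((P : Subgroup G) ⊔ K : Subgroup G) : Set G) := by
  intro x hx
  apply H20.mem_normalizer_of_conj_le
  intro y hy
  rw [← SetLike.mem_coe, Subgroup.mul_normal] at hy
  obtain ⟨a, ha, b, hb, rfl⟩ := hy
  have h1 : x * a * x⁻¹ ∈ (P : Subgroup G) := (Subgroup.mem_normalizer_iff.mp hx a).mp ha
  have h2 : x * b * x⁻¹ ∈ K := ‹K.Normal›.conj_mem b hb x
  have : x * (a * b) * x⁻¹ = (x * a * x⁻¹) * (x * b * x⁻¹) := by group
  rw [this]
  exact Subgroup.mul_mem_sup h1 h2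

/-- The product formula, indices. -/
theorem sylow_number_formula (K : Subgroup G) [K.Normal] (P : Sylow p G) :
    Nat.card (Sylow p G) = Nat.card (Sylow p (G ⧸ K)) * Nat.card (Sylow p K) *
      Nat.card (Sylow p (((P : Subgroup G) ⊔ K) ⊓
        normalizer (((P : Subgroup G) ⊓ K : Subgroup G) : Set G) : Subgroup G)) := by
  set L : Subgroup G := (P : Subgroup G) ⊔ K with hL
  set D : Subgroup G := (P : Subgroup G) ⊓ K with hD
  set N : Subgroup G := L ⊓ normalizer (D : Set G) with hN
  set NP := normalizer ((P : Subgroup G) : Set G) with hNP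
  set T := normalizer (L : Set G) with hT
  have hPL : (P : Subgroup G) ≤ L := le_sup_left
  have hKL : K ≤ L := le_sup_right
  have hNL : N ≤ L := inf_le_left
  have hPD : (P : Subgroup G) ≤ normalizer (D : Set G) := by
    intro x hx
    apply H20.mem_normalizer_of_conj_le
    intro y hy
    exact ⟨(P : Subgroup G).mul_mem ((P : Subgroup G).mul_mem hx hy.1) ((P : Subgroup G).inv_mem hx),
      ‹K.Normal›.conj_mem y hy.2 x⟩
  have hPN : (P : Subgroup G) ≤ N := le_inf hPL hPD
  have hNPT : NP ≤ T := le_normalizer_sup K P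
  have hLT : L ≤ T := Subgroup.le_normalizer
  -- the four numbers
  have e1 : Nat.card (Sylow p G) = NP.index := card_sylow_eq P
  have e2 : Nat.card (Sylow p (G ⧸ K)) = T.index := card_sylow_quot K P
  have e3 : Nat.card (Sylow p K) = (normalizer (D : Set G)).relIndex K := card_sylow_normal_sub K P
  have e4 : Nat.card (Sylow p N) = NP.relIndex N := card_sylow_sub N P hPN
  -- Frattini for T
  have hT' : T ≤ NP ⊔ L := by
    intro x hx
    have hle : (H18.sylowConj P x : Subgroup G) ≤ L := by
      rw [H18.coe_sylowConj]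
      rintro _ ⟨y, hy, rfl⟩
      exact (Subgroup.mem_normalizer_iff.mp hx y).mp (hPL hy)
    obtain ⟨m, hm, hme⟩ := H18.exists_conj_of_sylows_le P (H18.sylowConj P x) L hPL hle
    rw [H18.coe_sylowConj] at hme
    have hmx : m⁻¹ * x ∈ NP := by
      apply H20.mem_normalizer_of_map_eq
      ext y
      simp only [Subgroup.mem_map]
      constructor
      · rintro ⟨z, hz, rfl⟩
        have h1 : (MulAut.conj x).toMonoidHom z ∈ (P : Subgroup G).map (MulAut.conj m).toMonoidHom :=
          hme ▸ ⟨z, hz, rfl⟩
        obtain ⟨w, hw, hwe⟩ := h1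
        have : (MulAut.conj (m⁻¹ * x)).toMonoidHom z = w := by
          simp only [MulEquiv.coe_toMonoidHom, MulAut.conj_apply] at hwe ⊢
          rw [mul_inv_rev, inv_inv]
          calc m⁻¹ * x * z * (x⁻¹ * m) = m⁻¹ * (x * z * x⁻¹) * m := by group
            _ = m⁻¹ * (m * w * m⁻¹) * m := by rw [hwe]
            _ = w := by group
        rw [this]; exact hw
      · intro hy
        have h1 : (MulAut.conj m).toMonoidHom y ∈ (P : Subgroup G).map (MulAut.conj x).toMonoidHom :=
          hme.symm ▸ ⟨y, hy, rfl⟩
        obtain ⟨w, hw, hwe⟩ := h1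
        refine ⟨w, hw, ?_⟩
        simp only [MulEquiv.coe_toMonoidHom, MulAut.conj_apply] at hwe ⊢
        rw [mul_inv_rev, inv_inv]
        calc m⁻¹ * x * w * (x⁻¹ * m) = m⁻¹ * (x * w * x⁻¹) * m := by group
          _ = m⁻¹ * (m * y * m⁻¹) * m := by rw [hwe]
          _ = y := by group
    have hx' : x = m * (m⁻¹ * x) := by group
    rw [hx', sup_comm]
    exact Subgroup.mul_mem_sup hm hmx
  have e5 : NP.relIndex T = NP.relIndex L := relIndex_of_sup_le hLT le_rfl hT' hNPT
  -- Frattini for L
  have hL' : L ≤ N ⊔ K := by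
    intro x hx
    have h1 : x ∈ normalizer (D : Set G) ⊔ K := by
      rw [H18.frattini_inf P K]; trivial
    rw [← SetLike.mem_coe, Subgroup.mul_normal] at h1
    obtain ⟨a, ha, b, hb, rfl⟩ := h1
    have haL : a ∈ L := by
      have := L.mul_mem hx (L.inv_mem (hKL hb))
      simpa using this
    exact Subgroup.mul_mem_sup ⟨haL, ha⟩ hb
  have e6 : N.relIndex L = N.relIndex K :=
    relIndex_of_sup_le hKL (by rw [Subgroup.normalizer_eq_top_iff.mpr ‹K.Normal›]; exact le_top) hL' hNL
  have e7 : N.relIndex K = (normalizer (D : Set G)).relIndex K := by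
    rw [← Subgroup.inf_relIndex_right N K, ← Subgroup.inf_relIndex_right (normalizer (D : Set G)) K]
    congr 1
    rw [hN, inf_assoc, inf_comm (normalizer (D : Set G)) K, ← inf_assoc, inf_of_le_right hKL]
  have hAN : NP ⊓ L ≤ N := by
    intro x hx
    refine ⟨hx.2, ?_⟩
    apply H20.mem_normalizer_of_conj_le
    intro y hy
    exact ⟨(Subgroup.mem_normalizer_iff.mp hx.1 y).mp hy.1, ‹K.Normal›.conj_mem y hy.2 x⟩
  have e8 : NP.relIndex L = NP.relIndex N * N.relIndex L := by
    have h1 := Subgroup.relIndex_mul_relIndex (NP ⊓ L) N L hAN hNL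
    have h2 : (NP ⊓ L).relIndex N = NP.relIndex N := by
      rw [← Subgroup.inf_relIndex_right (NP ⊓ L) N, ← Subgroup.inf_relIndex_right NP N]
      congr 1
      rw [inf_assoc, inf_of_le_right hNL]
    rw [h2, Subgroup.inf_relIndex_right] at h1
    exact h1.symm
  have e9 : NP.index = NP.relIndex T * T.index := (Subgroup.relIndex_mul_index hNPT).symm
  rw [e1, e2, e3, e4, e9, e5, e8, e6, e7]
  ring

/-- The `ℓ`-part of `|K : C_K(A)|` is `1` modulo `p`, for a `p`-group `A` acting coprimely on `K`. -/
theorem ell_part_modEq {G : Type u} [Group G] [Finite G] {p : ℕ} [Fact p.Prime]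
    (A K : Subgroup G) (hA : IsPGroup p A) (hAK : A ≤ normalizer (K : Set G))
    (hcop : (Nat.card A).Coprime (Nat.card K)) (hK : ¬ p ∣ Nat.card K) (ℓ : ℕ) [hℓ : Fact ℓ.Prime] :
    ℓ ^ ((K ⊓ centralizer (A : Set G)).relIndex K).factorization ℓ ≡ 1 [MOD p] := by
  classical
  have hpp : p.Prime := Fact.out
  have hsolv : Group.IsSolvable A ∨ Group.IsSolvable K := by
    left
    have := hA.isNilpotent
    infer_instance
  set C : Subgroup G := K ⊓ centralizer (A : Set G) with hC
  have hCK : C ≤ K := inf_le_left
  obtain ⟨S0, hS0⟩ := H01.exists_invariant_sylow hAK hcop hsolv ℓ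
  set S : Subgroup G := (S0 : Subgroup K).map K.subtype with hS
  have hSK : S ≤ K := by
    rintro _ ⟨x, _, rfl⟩
    exact x.2
  have hScard : Nat.card S = ℓ ^ (Nat.card K).factorization ℓ := by
    rw [hS, Nat.card_congr ((S0 : Subgroup K).equivMapOfInjective K.subtype K.subtype_injective).symm.toEquiv]
    exact S0.card_eq_multiplicity
  have hSl : IsPGroup ℓ S := by
    rw [IsPGroup.iff_card]; exact ⟨_, hScard⟩
  set T : Subgroup G := S ⊓ C with hT
  have hTS : T ≤ S := inf_le_left
  have hTC : T ≤ C := inf_le_right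
  have hTl : IsPGroup ℓ T := hSl.to_le hTS
  have hCcard : Nat.card T = ℓ ^ (Nat.card C).factorization ℓ := by
    -- Sylow subgroup of `C`
    let U0 : Sylow ℓ C := default
    set U : Subgroup G := (U0 : Subgroup C).map C.subtype with hU
    have hUcard : Nat.card U = ℓ ^ (Nat.card C).factorization ℓ := by
      rw [hU, Nat.card_congr ((U0 : Subgroup C).equivMapOfInjective C.subtype C.subtype_injective).symm.toEquiv]
      exact U0.card_eq_multiplicity
    have hUl : IsPGroup ℓ U := by
      rw [IsPGroup.iff_card]; exact ⟨_, hUcard⟩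
    have hUC : U ≤ C := by
      rintro _ ⟨x, _, rfl⟩
      exact x.2
    have hUA : A ≤ normalizer (U : Set G) := by
      intro a ha
      apply H20.mem_normalizer_of_conj_le
      intro y hy
      have hy' := (hUC hy).2
      have : a * y * a⁻¹ = y := by
        have h1 := Subgroup.mem_centralizer_iff.mp hy' a ha
        rw [h1]; group
      rw [this]; exact hy
    obtain ⟨S1, hUS1, hS1⟩ := H01.invariant_subgroup_le_invariant_sylow hAK hcop hsolv ℓ U
      (hUC.trans hCK) hUl hUA
    obtain ⟨c, hc, hcS⟩ := H01.conj_invariant_sylow hAK hcop hsolv ℓ S1 S0 hS1 hS0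
    have hcC : (c : G) ∈ C := ⟨c.2, hc⟩
    have hUle : Nat.card U ≤ Nat.card T := by
      let f : U → T := fun u => ⟨(c : G) * u * (c : G)⁻¹, by
        have h1 : (c : G) * u * (c : G)⁻¹ ∈ C := C.mul_mem (C.mul_mem hcC (hUC u.2)) (C.inv_mem hcC)
        refine ⟨?_, h1⟩
        obtain ⟨x, hx, hxe⟩ := hUS1 u.2
        refine ⟨c * x * c⁻¹, ?_, ?_⟩
        · rw [SetLike.mem_coe, ← hcS, Sylow.pointwise_smul_def]
          have := Subgroup.smul_mem_pointwise_smul x (MulAut.conj c) (S1 : Subgroup K) hx
          simpa [MulAut.smul_def] using this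
        · have hxe' : (x : G) = u := hxe
          simp [hxe']⟩
      apply Nat.card_le_card_of_injective f
      intro u v huv
      have := congrArg Subtype.val huv
      simp only [f] at this
      exact Subtype.ext (by simpa using this)
    have hTle : Nat.card T ∣ ℓ ^ (Nat.card C).factorization ℓ := by
      obtain ⟨k, hk⟩ := IsPGroup.iff_card.mp hTl
      have h1 : Nat.card T ∣ Nat.card C := Subgroup.card_dvd_of_le hTC
      rw [hk] at h1 ⊢
      apply pow_dvd_pow
      exact (Nat.Prime.pow_dvd_iff_le_factorization hℓ.out Nat.card_pos.ne').mp h1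
    apply le_antisymm (Nat.le_of_dvd (pow_pos hℓ.out.pos _) hTle)
    rw [← hUcard]
    exact hUle
  -- numbers
  have hfac : Nat.card K = Nat.card C * C.relIndex K := by
    have h1 := H18.card_inf_mul_relIndex C K
    rw [inf_of_le_left hCK] at h1
    exact h1.symm
  have hrel : C.relIndex K ≠ 0 := by
    intro h
    rw [h, mul_zero] at hfac
    exact Nat.card_pos.ne' hfac
  have hSfac : Nat.card S = Nat.card T * ℓ ^ (C.relIndex K).factorization ℓ := by
    rw [hScard, hCcard, hfac, Nat.factorization_mul Nat.card_pos.ne' hrel, ← pow_add]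
    rfl
  -- action of `A` on `S`
  have hSnorm : ∀ a ∈ A, ∀ s ∈ S, a * s * a⁻¹ ∈ S := by
    intro a ha s hs
    exact (Subgroup.mem_normalizer_iff.mp (hS0 ha) s).mp hs
  let act : MulAction A S :=
    { smul := fun a s => ⟨(a : G) * s * (a : G)⁻¹, hSnorm a a.2 s s.2⟩
      one_smul := fun s => by
        apply Subtype.ext
        show ((1 : A) : G) * s * ((1 : A) : G)⁻¹ = s
        simp
      mul_smul := fun a b s => by
        apply Subtype.ext
        show ((a * b : A) : G) * s * ((a * b : A) : G)⁻¹ = (a : G) * ((b : G) * s * (b : G)⁻¹) * (a : G)⁻¹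
        simp only [Subgroup.coe_mul]
        group }
  have hmod := hA.card_modEq_card_fixedPoints S
  have hfix : Nat.card (MulAction.fixedPoints A S) = Nat.card T := by
    refine Nat.card_congr ⟨fun s => ⟨s.1.1, ?_, ?_⟩, fun t => ⟨⟨t.1, hTS t.2⟩, ?_⟩, ?_, ?_⟩
    · exact s.1.2
    · refine ⟨hSK s.1.2, Subgroup.mem_centralizer_iff.mpr ?_⟩
      intro a ha
      have := s.2 ⟨a, ha⟩
      have h2 : a * (s.1 : G) * a⁻¹ = s.1 := congrArg Subtype.val this
      calc a * (s.1 : G) = (a * (s.1 : G) * a⁻¹) * a := by group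
        _ = _ := by rw [h2]
    · intro a
      apply Subtype.ext
      show (a : G) * t.1 * (a : G)⁻¹ = t.1
      have h1 := Subgroup.mem_centralizer_iff.mp (hTC t.2).2 a a.2
      rw [h1]; group
    · intro s; rfl
    · intro t; rfl
  rw [hfix, hSfac] at hmod
  have hTcop : (Nat.card T).Coprime p := by
    have h1 : Nat.card T ∣ Nat.card K := Subgroup.card_dvd_of_le (hTC.trans hCK)
    have h2 : ¬ p ∣ Nat.card T := by
      intro h3
      exact hK (h3.trans h1)
    exact ((Nat.Prime.coprime_iff_not_dvd hpp).mpr h2).symm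
  have h3 : Nat.card T * ℓ ^ (C.relIndex K).factorization ℓ ≡ Nat.card T * 1 [MOD p] := by
    rwa [mul_one]
  exact Nat.ModEq.cancel_left_of_coprime (by rwa [Nat.Coprime, Nat.gcd_comm] at hTcop) h3

/-- Induction principle for numbers of Sylow subgroups. -/
theorem sylow_number_induction (p : ℕ) [Fact p.Prime] (C : ∀ (X : Type u) [Group X], Prop)
    (Csub : ∀ (X : Type u) [Group X] (H : Subgroup X), C X → C H)
    (Cquot : ∀ (X : Type u) [Group X] (N : Subgroup X) [N.Normal], C X → C (X ⧸ N))
    (Φ : ℕ → Prop) (h1 : Φ 1) (hmul : ∀ a b, Φ a → Φ b → Φ (a * b))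
    (hpp : ∀ q e : ℕ, q.Prime → q ^ e ≡ 1 [MOD p] → Φ (q ^ e))
    (hs : ∀ (S : Type u) [Group S] [Finite S], IsSimpleGroup S → C S → Φ (Nat.card (Sylow p S))) :
    ∀ (n : ℕ) (G : Type u) [Group G] [Finite G], Nat.card G = n → C G → Φ (Nat.card (Sylow p G)) := by
  intro n
  induction n using Nat.strong_induction_on with
  | _ n ih =>
    intro G _ _ hn hC
    classical
    by_cases hnt : Nontrivial G
    swap
    · rw [not_nontrivial_iff_subsingleton] at hnt
      have : Subsingleton (Sylow p G) := by
        refine ⟨fun P Q => Sylow.ext ?_⟩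
        have h2 : ∀ R : Sylow p G, (R : Subgroup G) = ⊥ := fun R => Subsingleton.elim _ _
        rw [h2, h2]
      have : Nat.card (Sylow p G) = 1 := Nat.card_unique
      rw [this]; exact h1
    by_cases hsimple : IsSimpleGroup G
    · exact hs G hsimple hC
    obtain ⟨K, hK, hK1, hK2⟩ : ∃ N : Subgroup G, N.Normal ∧ N ≠ ⊥ ∧ N ≠ ⊤ := by
      by_contra hcon
      push Not at hcon
      apply hsimple
      refine ⟨fun H hH => ?_⟩
      by_cases hb : H = ⊥
      · exact Or.inl hb
      · exact Or.inr (hcon H hH hb)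
    have := hK
    have hlt1 : Nat.card K < n := by
      rw [← hn]
      have := Subgroup.card_le_card_group K
      have hne : Nat.card K ≠ Nat.card G := by
        intro h
        exact hK2 (Subgroup.eq_top_of_card_eq K h)
      omega
    have hlt2 : Nat.card (G ⧸ K) < n := by
      rw [← hn]
      have h3 := Subgroup.card_mul_index K
      have h2 : 1 < Nat.card K := by
        rw [Finite.one_lt_card_iff_nontrivial]
        exact (Subgroup.nontrivial_iff_ne_bot K).mpr hK1
      have h4 : Nat.card (G ⧸ K) = K.index := rfl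
      rw [h4, ← h3]
      have h5 : 0 < K.index := Nat.pos_of_ne_zero Subgroup.index_ne_zero_of_finite
      nlinarith
    have s1 := ih _ hlt1 K rfl (Csub G K hC)
    have s2 := ih _ hlt2 (G ⧸ K) rfl (Cquot G K hC)
    let P : Sylow p G := default
    rw [sylow_number_formula K P]
    apply hmul _ _ (hmul _ _ s2 s1)
    set L : Subgroup G := (P : Subgroup G) ⊔ K with hL
    set D : Subgroup G := (P : Subgroup G) ⊓ K with hD
    set N : Subgroup G := L ⊓ normalizer (D : Set G) with hN
    have hPL : (P : Subgroup G) ≤ L := le_sup_left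
    have hPD : (P : Subgroup G) ≤ normalizer (D : Set G) := by
      intro x hx
      apply H20.mem_normalizer_of_conj_le
      intro y hy
      exact ⟨(P : Subgroup G).mul_mem ((P : Subgroup G).mul_mem hx hy.1) ((P : Subgroup G).inv_mem hx),
        ‹K.Normal›.conj_mem y hy.2 x⟩
    have hPN : (P : Subgroup G) ≤ N := le_inf hPL hPD
    by_cases hD1 : D = ⊥
    · -- `p` does not divide `|K|`
      have hpK : ¬ p ∣ Nat.card K := by
        intro hdvd
        apply (H18.sylowOfNormal P K).ne_bot_of_dvd_card hdvd
        apply Subgroup.map_injective K.subtype_injective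
        rw [H18.map_sylowOfNormal, ← hD, hD1, Subgroup.map_bot]
      have hNL : N = L := by
        rw [hN, hD1]
        have : normalizer (((⊥ : Subgroup G)) : Set G) = ⊤ :=
          Subgroup.normalizer_eq_top_iff.mpr inferInstance
        rw [this, inf_top_eq]
      have e4 : Nat.card (Sylow p N) = (normalizer ((P : Subgroup G) : Set G)).relIndex N :=
        card_sylow_sub N P hPN
      rw [e4, hNL]
      set NP := normalizer ((P : Subgroup G) : Set G) with hNP
      have hKL : K ≤ L := le_sup_right
      have e5 : NP.relIndex L = NP.relIndex K := by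
        have h2 : (NP ⊓ L).relIndex L = (NP ⊓ L).relIndex K := by
          apply relIndex_of_sup_le hKL
          · rw [Subgroup.normalizer_eq_top_iff.mpr ‹K.Normal›]; exact le_top
          · exact sup_le (le_trans (le_inf Subgroup.le_normalizer hPL) le_sup_left) le_sup_right
          · exact inf_le_right
        rw [Subgroup.inf_relIndex_right] at h2
        rw [h2, ← Subgroup.inf_relIndex_right (NP ⊓ L) K, ← Subgroup.inf_relIndex_right NP K]
        congr 1
        rw [inf_assoc, inf_of_le_right hKL]
      have e6 : NP ⊓ K = K ⊓ centralizer ((P : Subgroup G) : Set G) := by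
        ext x
        constructor
        · rintro ⟨hx1, hx2⟩
          refine ⟨hx2, Subgroup.mem_centralizer_iff.mpr ?_⟩
          intro a ha
          have h3 : a * x * a⁻¹ * x⁻¹ ∈ D := by
            constructor
            · have h4 : x * a⁻¹ * x⁻¹ ∈ (P : Subgroup G) :=
                (Subgroup.mem_normalizer_iff.mp hx1 a⁻¹).mp ((P : Subgroup G).inv_mem ha)
              have := (P : Subgroup G).mul_mem ha h4
              have e : a * x * a⁻¹ * x⁻¹ = a * (x * a⁻¹ * x⁻¹) := by group
              rw [e]
              exact this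
            · have h4 : a * x * a⁻¹ ∈ K := ‹K.Normal›.conj_mem x hx2 a
              exact K.mul_mem h4 (K.inv_mem hx2)
          rw [hD1, Subgroup.mem_bot] at h3
          have := mul_inv_eq_one.mp h3
          exact mul_inv_eq_iff_eq_mul.mp this
        · rintro ⟨hx1, hx2⟩
          refine ⟨?_, hx1⟩
          apply H20.mem_normalizer_of_conj_le
          intro y hy
          have h3 := Subgroup.mem_centralizer_iff.mp hx2 y hy
          have : x * y * x⁻¹ = y := by
            rw [← h3]; group
          rw [this]; exact hy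
      have e7 : NP.relIndex K = (K ⊓ centralizer ((P : Subgroup G) : Set G)).relIndex K := by
        rw [← e6, Subgroup.inf_relIndex_right]
      rw [e5, e7]
      set c := (K ⊓ centralizer ((P : Subgroup G) : Set G)).relIndex K with hc
      have hc0 : c ≠ 0 := by
        rw [hc]
        intro h0
        have := H18.card_inf_mul_relIndex (K ⊓ centralizer ((P : Subgroup G) : Set G)) K
        rw [h0, mul_zero] at this
        exact Nat.card_pos.ne' this.symm
      have hcop : (Nat.card (P : Subgroup G)).Coprime (Nat.card K) := by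
        obtain ⟨k, hk⟩ := IsPGroup.iff_card.mp P.isPGroup'
        rw [hk]
        exact Nat.Coprime.pow_left k ((Nat.Prime.coprime_iff_not_dvd Fact.out).mpr hpK)
      rw [← Nat.prod_factorization_pow_eq_self hc0]
      apply Finset.prod_induction _ Φ hmul h1
      intro q hq
      have hqp : q.Prime := Nat.prime_of_mem_primeFactors hq
      have : Fact q.Prime := ⟨hqp⟩
      exact hpp q _ hqp (ell_part_modEq (P : Subgroup G) K P.isPGroup' (Subgroup.le_normalizer.trans
        (Subgroup.normalizer_eq_top_iff.mpr ‹K.Normal› ▸ le_top)) hcop hpK q)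
    · -- `D ≠ 1`
      have hDN : D ≤ N := inf_le_left.trans hPN
      have hDnorm : (D.subgroupOf N).Normal :=
        (Subgroup.normal_subgroupOf_iff_le_normalizer hDN).mpr inf_le_right
      have := hDnorm
      have e8 : Nat.card (Sylow p (N ⧸ D.subgroupOf N)) = Nat.card (Sylow p N) := by
        apply card_sylow_quot_of_le _ (P.subtype hPN)
        rw [Sylow.coe_subtype]
        intro x hx
        rw [Subgroup.mem_subgroupOf] at hx ⊢
        exact hx.1
      rw [← e8]
      refine ih _ ?_ (N ⧸ D.subgroupOf N) rfl (Cquot N _ (Csub G N hC))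
      rw [← hn]
      have h3 := Subgroup.card_mul_index (D.subgroupOf N)
      have h4 : Nat.card (N ⧸ D.subgroupOf N) = (D.subgroupOf N).index := rfl
      rw [h4]
      have h5 : 1 < Nat.card (D.subgroupOf N) := by
        rw [Finite.one_lt_card_iff_nontrivial, Subgroup.nontrivial_iff_ne_bot]
        intro h0
        apply hD1
        rw [Subgroup.subgroupOf_eq_bot] at h0
        exact h0.eq_bot_of_le hDN
      have h6 : Nat.card N ≤ Nat.card G := Subgroup.card_le_card_group N
      have h7 : 0 < (D.subgroupOf N).index := Nat.pos_of_ne_zero Subgroup.index_ne_zero_of_finite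
      nlinarith

end Cfsg.Agent.H20
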