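import Cfsg.Prelude.Def_Solvable
import Mathlib

/-! Frobenius complements from fixed-point-free actions (semidirect products). -/

set_option autoImplicit false

namespace Cfsg.Agent.H20

open scoped Pointwise

/-- The semidirect product of `A` by a fixed-point-freely acting `H` has complement `H`. -/
theorem frob_semidirect {A H : Type*} [Group A] [Group H] [Nontrivial A] [Nontrivial H]
    (φ : H →* MulAut A) (hfree : ∀ h : H, h ≠ 1 → ∀ a : A, a ≠ 1 → φ h a ≠ a) :
    Cfsg.IsFrobeniusComplement (SemidirectProduct.inr (φ := φ)).range := by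
  refine ⟨?_, ?_, ?_⟩
  · intro hbot
    obtain ⟨h, hh⟩ := exists_ne (1 : H)
    have : (SemidirectProduct.inr (φ := φ)) h ∈ (SemidirectProduct.inr (φ := φ)).range := ⟨h, rfl⟩
    rw [hbot, Subgroup.mem_bot] at this
    apply hh
    have h2 := congrArg SemidirectProduct.right this
    simpa using h2
  · intro htop
    obtain ⟨a, ha⟩ := exists_ne (1 : A)
    have : (SemidirectProduct.inl (φ := φ)) a ∈ (SemidirectProduct.inr (φ := φ)).range := by
      rw [htop]; trivial
    obtain ⟨h, hh⟩ := this
    apply ha
    have h2 := congrArg SemidirectProduct.left hh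
    simpa using h2.symm
  · intro g hg
    rw [eq_bot_iff]
    intro x hx
    rw [Subgroup.mem_inf] at hx
    obtain ⟨⟨u, rfl⟩, hx2⟩ := hx
    rw [Subgroup.mem_pointwise_smul_iff_inv_smul_mem] at hx2
    obtain ⟨u', hu'⟩ := hx2
    -- write g = a · v
    set a := g.left with ha
    set v := g.right with hv
    have ha1 : a ≠ 1 := by
      intro h1
      apply hg
      refine ⟨v, ?_⟩
      apply SemidirectProduct.ext
      · simpa using h1.symm
      · simp [hv]
    have hconj : g * SemidirectProduct.inr u' * g⁻¹ = SemidirectProduct.inr u := by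
      rw [show (MulAut.conj g)⁻¹ • (SemidirectProduct.inr u) = g⁻¹ * SemidirectProduct.inr u * g from by
        simp [MulAut.smul_def]] at hu'
      rw [hu']
      group
    have hl := congrArg SemidirectProduct.left hconj
    have hr := congrArg SemidirectProduct.right hconj
    simp only [SemidirectProduct.mul_left, SemidirectProduct.mul_right, SemidirectProduct.inv_left,
      SemidirectProduct.inv_right, SemidirectProduct.left_inr, SemidirectProduct.right_inr,
      map_one, mul_one, map_inv, map_mul] at hl hr
    rw [Subgroup.mem_bot]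
    have hu : u = 1 := by
      by_contra hu1
      have h3 : φ u a⁻¹ = a⁻¹ := by
        have h4 : φ u = φ g.right * φ u' * (φ g.right)⁻¹ := by
          rw [← hr]; simp
        have h5 : (φ u) a = a := by
          rw [h4]
          have := mul_inv_eq_one.mp hl
          exact this.symm
        rw [map_inv, h5]
      exact hfree u hu1 a⁻¹ (by simpa using ha1) h3
    simp [hu]

/-- A fixed-point-free action on an abelian group yields a Frobenius group. -/
theorem exists_frob_of_act {V H : Type} [AddCommGroup V] [Finite V] [Nontrivial V]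
    [Group H] [Finite H] [Nontrivial H] (act : H → V → V) (h1 : ∀ v, act 1 v = v)
    (hmul : ∀ g h v, act (g * h) v = act g (act h v))
    (hadd : ∀ g v w, act g (v + w) = act g v + act g w)
    (hfree : ∀ h : H, h ≠ 1 → ∀ v : V, v ≠ 0 → act h v ≠ v) :
    ∃ (L : Type) (_ : Group L) (_ : Finite L) (K : Subgroup L),
      Cfsg.IsFrobeniusComplement K ∧ Nonempty (K ≃* H) := by
  let φ : H →* MulAut (Multiplicative V) :=
    { toFun := fun h =>
        { toFun := fun x => Multiplicative.ofAdd (act h (Multiplicative.toAdd x))
          invFun := fun x => Multiplicative.ofAdd (act h⁻¹ (Multiplicative.toAdd x))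
          left_inv := fun x => by
            show Multiplicative.ofAdd (act h⁻¹ (act h (Multiplicative.toAdd x))) = x
            rw [← hmul, inv_mul_cancel, h1]; rfl
          right_inv := fun x => by
            show Multiplicative.ofAdd (act h (act h⁻¹ (Multiplicative.toAdd x))) = x
            rw [← hmul, mul_inv_cancel, h1]; rfl
          map_mul' := fun x y => by
            show Multiplicative.ofAdd (act h (Multiplicative.toAdd x + Multiplicative.toAdd y)) = _
            rw [hadd]; rfl }
      map_one' := by
        ext x
        show Multiplicative.ofAdd (act 1 (Multiplicative.toAdd x)) = x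
        rw [h1]; rfl
      map_mul' := fun g h => by
        ext x
        show Multiplicative.ofAdd (act (g * h) (Multiplicative.toAdd x)) = _
        rw [hmul]; rfl }
  have hfr := frob_semidirect φ (by
    intro h hh a ha h2
    apply hfree h hh (Multiplicative.toAdd a) (by simpa using ha)
    exact congrArg Multiplicative.toAdd h2)
  have : Finite (Multiplicative V ⋊[φ] H) :=
    Finite.of_equiv _ (SemidirectProduct.equivProd (φ := φ)).symm
  refine ⟨Multiplicative V ⋊[φ] H, inferInstance, inferInstance, _, hfr, ?_⟩
  exact ⟨(MonoidHom.ofInjective (f := SemidirectProduct.inr (φ := φ)) (by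
    intro x y hxy
    simpa using congrArg SemidirectProduct.right hxy)).symm⟩

/-- Units of prime fields with prescribed order. -/
theorem exists_prime_unit_order (n : ℕ) (hn : n ≠ 0) :
    ∃ q : ℕ, q.Prime ∧ 2 < q ∧ ∃ ζ : (ZMod q)ˣ, orderOf ζ = n := by
  obtain ⟨q, hq, hlt, hmod⟩ := Nat.exists_prime_gt_modEq_one 2 hn
  have : Fact q.Prime := ⟨hq⟩
  refine ⟨q, hq, hlt, ?_⟩
  have hdvd : n ∣ q - 1 := (Nat.modEq_iff_dvd' hq.one_lt.le).mp hmod.symm
  obtain ⟨g, hg⟩ := IsCyclic.exists_ofOrder_eq_natCard (α := (ZMod q)ˣ)
  have hcard : Nat.card (ZMod q)ˣ = q - 1 := by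
    rw [Nat.card_eq_fintype_card, ZMod.card_units]
  rw [hcard] at hg
  have h1 : orderOf g ≠ 0 := by rw [hg]; have := hq.two_le; omega
  have := orderOf_pow_orderOf_div (n := n) h1 (by rw [hg]; exact hdvd)
  exact ⟨_, this⟩

end Cfsg.Agent.H20
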