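import Mathlib

set_option autoImplicit false
set_option linter.unusedVariables false

namespace Cfsg.Agent.H20.JK

open Equiv Equiv.Perm
open scoped commutatorElement

theorem comm_mem_left {L : Type*} [Group L] (H : Subgroup L) [hH : H.Normal] {a : L} (ha : a ∈ H) (b : L) :
    ⁅a, b⁆ ∈ H := by
  rw [commutatorElement_def, mul_assoc, mul_assoc, ← mul_assoc b]
  exact H.mul_mem ha (hH.conj_mem _ (H.inv_mem ha) b)

section perm
variable {D : Type*} [DecidableEq D]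

theorem comm_swap (σ : Perm D) (x w : D) :
    ⁅σ, swap x w⁆ = swap (σ x) (σ w) * swap x w := by
  rw [commutatorElement_def, swap_apply_apply, swap_inv]

/-- transport of permutations along an embedding -/
noncomputable def tr {n : ℕ} (e : Fin n ↪ D) : Perm (Fin n) →* Perm D := Equiv.Perm.viaEmbeddingHom e

theorem tr_swap {n : ℕ} (e : Fin n ↪ D) (i j : Fin n) : tr e (swap i j) = swap (e i) (e j) := by
  ext y
  by_cases hy : y ∈ Set.range e
  · obtain ⟨z, rfl⟩ := hy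
    show (swap i j).viaEmbedding e (e z) = _
    rw [Equiv.Perm.viaEmbedding_apply, Function.Embedding.swap_apply]
  · show (swap i j).viaEmbedding e y = _
    rw [Equiv.Perm.viaEmbedding_apply_of_notMem _ _ _ hy]
    refine (swap_apply_of_ne_of_ne ?_ ?_).symm
    · rintro rfl; exact hy ⟨_, rfl⟩
    · rintro rfl; exact hy ⟨_, rfl⟩

/-- embedding of 4 distinct points -/
def em4 (a b c d : D) (hab : a ≠ b) (hac : a ≠ c) (had : a ≠ d) (hbc : b ≠ c) (hbd : b ≠ d) (hcd : c ≠ d) :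
    Fin 4 ↪ D :=
  ⟨![a, b, c, d], by intro i j h; fin_cases i <;> fin_cases j <;> simp_all⟩

/-- Double transposition identity for a commutator of two overlapping 3-cycles. -/
theorem comm_three (a b c d : D) (hab : a ≠ b) (hac : a ≠ c) (had : a ≠ d) (hbc : b ≠ c)
    (hbd : b ≠ d) (hcd : c ≠ d) :
    ⁅swap a b * swap a c, swap a b * swap a d⁆ = swap a b * swap c d := by
  have h := congrArg (tr (em4 a b c d hab hac had hbc hbd hcd))
    (show ⁅swap (0 : Fin 4) 1 * swap 0 2, swap (0 : Fin 4) 1 * swap 0 3⁆ = swap (0 : Fin 4) 1 * swap 2 3 from by decide)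
  simp only [map_commutatorElement, map_mul, tr_swap] at h
  exact h

theorem comm_three_dt (a b c d : D) (hab : a ≠ b) (hac : a ≠ c) (had : a ≠ d) (hbc : b ≠ c)
    (hbd : b ≠ d) (hcd : c ≠ d) :
    ⁅swap a b * swap a c, swap a b * swap c d⁆ = swap a d * swap b c := by
  have h := congrArg (tr (em4 a b c d hab hac had hbc hbd hcd))
    (show ⁅swap (0 : Fin 4) 1 * swap 0 2, swap (0 : Fin 4) 1 * swap 2 3⁆ = swap (0 : Fin 4) 3 * swap 1 2 from by decide)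
  simp only [map_commutatorElement, map_mul, tr_swap] at h
  exact h

/-- embedding of 5 distinct points -/
def em5 (a b c d e : D) (hab : a ≠ b) (hac : a ≠ c) (had : a ≠ d) (hae : a ≠ e) (hbc : b ≠ c)
    (hbd : b ≠ d) (hbe : b ≠ e) (hcd : c ≠ d) (hce : c ≠ e) (hde : d ≠ e) :
    Fin 5 ↪ D :=
  ⟨![a, b, c, d, e], by intro i j h; fin_cases i <;> fin_cases j <;> simp_all⟩

theorem conj_dt (a b c d e : D) (hab : a ≠ b) (hac : a ≠ c) (had : a ≠ d) (hae : a ≠ e) (hbc : b ≠ c)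
    (hbd : b ≠ d) (hbe : b ≠ e) (hcd : c ≠ d) (hce : c ≠ e) (hde : d ≠ e) :
    swap d e * (swap a b * swap c d) * (swap d e)⁻¹ = swap a b * swap c e := by
  have h := congrArg (tr (em5 a b c d e hab hac had hae hbc hbd hbe hcd hce hde))
    (show swap (3 : Fin 5) 4 * (swap (0 : Fin 5) 1 * swap 2 3) * (swap (3 : Fin 5) 4)⁻¹ = swap (0 : Fin 5) 1 * swap 2 4 from by decide)
  simp only [map_inv, map_mul, tr_swap] at h
  exact h

theorem dt_mul_dt (a b c d e : D) (hab : a ≠ b) (hac : a ≠ c) (had : a ≠ d) (hae : a ≠ e) (hbc : b ≠ c)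
    (hbd : b ≠ d) (hbe : b ≠ e) (hcd : c ≠ d) (hce : c ≠ e) (hde : d ≠ e) :
    (swap a b * swap c d) * (swap a b * swap c e) = swap c d * swap c e := by
  have h := congrArg (tr (em5 a b c d e hab hac had hae hbc hbd hbe hcd hce hde))
    (show (swap (0 : Fin 5) 1 * swap 2 3) * (swap (0 : Fin 5) 1 * swap 2 4) = swap (2 : Fin 5) 3 * swap 2 4 from by decide)
  simp only [map_mul, tr_swap] at h
  exact h

theorem conj_three (a b c d : D) (hab : a ≠ b) (hac : a ≠ c) (had : a ≠ d) (hbc : b ≠ c)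
    (hbd : b ≠ d) (hcd : c ≠ d) :
    swap c d * (swap a b * swap a c) * (swap c d)⁻¹ = swap a b * swap a d := by
  have h := congrArg (tr (em4 a b c d hab hac had hbc hbd hcd))
    (show swap (2 : Fin 4) 3 * (swap (0 : Fin 4) 1 * swap 0 2) * (swap (2 : Fin 4) 3)⁻¹ = swap (0 : Fin 4) 1 * swap 0 3 from by decide)
  simp only [map_inv, map_mul, tr_swap] at h
  exact h

variable [Fintype D]

theorem exists_ne_of_card {D : Type*} [Fintype D] [DecidableEq D] (s : Finset D) (h : s.card < Fintype.card D) :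
    ∃ w, w ∉ s := by
  by_contra hcon
  push Not at hcon
  have : s = Finset.univ := Finset.eq_univ_of_forall hcon
  rw [this, Finset.card_univ] at h
  exact lt_irrefl _ h

/-- For `σ ≠ 1` on at least 3 points, a commutator with a swap is a 3-cycle or a double
transposition. -/
theorem exists_comm_form (hD : 3 ≤ Fintype.card D) (σ : Perm D) (hσ : σ ≠ 1) :
    ∃ τ : Perm D, (∃ a b c : D, a ≠ b ∧ a ≠ c ∧ b ≠ c ∧ ⁅σ, τ⁆ = swap a b * swap a c) ∨
      (∃ a b c d : D, a ≠ b ∧ a ≠ c ∧ a ≠ d ∧ b ≠ c ∧ b ≠ d ∧ c ≠ d ∧ ⁅σ, τ⁆ = swap a b * swap c d) := by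
  obtain ⟨x, hx⟩ : ∃ x, σ x ≠ x := by
    by_contra hcon
    push Not at hcon
    exact hσ (Equiv.ext hcon)
  obtain ⟨w, hw⟩ := exists_ne_of_card ({x, σ x} : Finset D) (by
    have := Finset.card_le_two (a := x) (b := σ x)
    omega)
  simp only [Finset.mem_insert, Finset.mem_singleton, not_or] at hw
  obtain ⟨hwx, hwσ⟩ := hw
  have hσw : σ w ≠ σ x := fun h => hwx (σ.injective h)
  refine ⟨swap x w, ?_⟩
  rw [comm_swap]
  by_cases h1 : σ w = x
  · left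
    refine ⟨x, σ x, w, hx.symm, Ne.symm hwx, Ne.symm hwσ, ?_⟩
    rw [h1, swap_comm (σ x) x]
  by_cases h2 : σ w = w
  · left
    refine ⟨w, σ x, x, hwσ, hwx, hx, ?_⟩
    rw [h2, swap_comm (σ x) w, swap_comm x w]
  · right
    exact ⟨σ x, σ w, x, w, hσw.symm, hx, Ne.symm hwσ, h1, h2, Ne.symm hwx, rfl⟩

/-- A nontrivial normal subgroup of `Perm D`, `|D| ≥ 5`, contains a 3-cycle in swap form. -/
theorem normal_has_three (hD : 5 ≤ Fintype.card D) (H : Subgroup (Perm D)) [hH : H.Normal]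
    (hne : ∃ σ ∈ H, σ ≠ 1) :
    ∃ a b c : D, a ≠ b ∧ a ≠ c ∧ b ≠ c ∧ swap a b * swap a c ∈ H := by
  obtain ⟨σ, hσH, hσ⟩ := hne
  obtain ⟨τ, hτ⟩ := exists_comm_form (by omega) σ hσ
  have hcomm : ⁅σ, τ⁆ ∈ H := comm_mem_left H hσH τ
  rcases hτ with ⟨a, b, c, hab, hac, hbc, h⟩ | ⟨a, b, c, d, hab, hac, had, hbc, hbd, hcd, h⟩
  · exact ⟨a, b, c, hab, hac, hbc, h ▸ hcomm⟩
  · rw [h] at hcomm
    obtain ⟨e, he⟩ := exists_ne_of_card ({a, b, c, d} : Finset D) (by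
      have := Finset.card_le_four (a := a) (b := b) (c := c) (d := d)
      omega)
    simp only [Finset.mem_insert, Finset.mem_singleton, not_or] at he
    obtain ⟨hea, heb, hec, hed⟩ := he
    have h2 : swap a b * swap c e ∈ H := by
      have := hH.conj_mem _ hcomm (swap d e)
      rwa [conj_dt a b c d e hab hac had (Ne.symm hea) hbc hbd (Ne.symm heb) hcd (Ne.symm hec) (Ne.symm hed)] at this
    have h4 := H.mul_mem hcomm h2
    rw [dt_mul_dt a b c d e hab hac had (Ne.symm hea) hbc hbd (Ne.symm heb) hcd (Ne.symm hec) (Ne.symm hed)] at h4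
    exact ⟨c, d, e, hcd, Ne.symm hec, Ne.symm hed, h4⟩

end perm

section abstract
variable {L D : Type*} [Group L] [Fintype D] [DecidableEq D]

/-- Case `|D| ≥ 3`. -/
theorem abs3 (hD : 3 ≤ Fintype.card D) (ρ : L →* Perm D) (hρ : Function.Surjective ρ)
    (M C : Subgroup L) (hMC : ∀ u ∈ M, ∀ l, ⁅u, l⁆ ∈ C) (hu : ∃ u ∈ M, ρ u ≠ 1) :
    ∃ y ∈ C, (∃ a b c : D, a ≠ b ∧ a ≠ c ∧ b ≠ c ∧ ρ y = swap a b * swap a c) ∨
      (∃ a b c d : D, a ≠ b ∧ a ≠ c ∧ a ≠ d ∧ b ≠ c ∧ b ≠ d ∧ c ≠ d ∧ ρ y = swap a b * swap c d) := by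
  obtain ⟨u, huM, hu⟩ := hu
  obtain ⟨τ, hτ⟩ := exists_comm_form hD (ρ u) hu
  obtain ⟨l, rfl⟩ := hρ τ
  refine ⟨⁅u, l⁆, hMC u huM l, ?_⟩
  rwa [map_commutatorElement]

/-- Case `|D| ≥ 4`. -/
theorem abs4 (hD : 4 ≤ Fintype.card D) (ρ : L →* Perm D) (hρ : Function.Surjective ρ)
    (M C : Subgroup L) [C.Normal] (hMC : ∀ u ∈ M, ∀ l, ⁅u, l⁆ ∈ C) (hu : ∃ u ∈ M, ρ u ≠ 1) :
    ∃ y ∈ C, ∃ a b c d : D, a ≠ b ∧ a ≠ c ∧ a ≠ d ∧ b ≠ c ∧ b ≠ d ∧ c ≠ d ∧ ρ y = swap a b * swap c d := by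
  obtain ⟨y, hyC, h⟩ := abs3 (by omega) ρ hρ M C hMC hu
  rcases h with ⟨a, b, c, hab, hac, hbc, h⟩ | h
  · obtain ⟨d, hd⟩ := exists_ne_of_card ({a, b, c} : Finset D) (by
      have := Finset.card_le_three (a := a) (b := b) (c := c)
      omega)
    simp only [Finset.mem_insert, Finset.mem_singleton, not_or] at hd
    obtain ⟨hda, hdb, hdc⟩ := hd
    obtain ⟨l, hl⟩ := hρ (swap a b * swap c d)
    refine ⟨⁅y, l⁆, comm_mem_left C hyC l, a, d, b, c, Ne.symm hda, hab, hac, hdb, hdc, hbc, ?_⟩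
    rw [map_commutatorElement, h, hl]
    exact comm_three_dt a b c d hab hac (Ne.symm hda) hbc (Ne.symm hdb) (Ne.symm hdc)
  · exact ⟨y, hyC, h⟩

/-- Case `|D| ≥ 5`: only commutators within `M` are assumed to land in `C`. -/
theorem abs5 (hD : 5 ≤ Fintype.card D) (ρ : L →* Perm D) (hρ : Function.Surjective ρ)
    (M C : Subgroup L) [hM : M.Normal] (hMC : ∀ u ∈ M, ∀ w ∈ M, ⁅u, w⁆ ∈ C) (hu : ∃ u ∈ M, ρ u ≠ 1) :
    ∃ y ∈ C, ∃ a b c d : D, a ≠ b ∧ a ≠ c ∧ a ≠ d ∧ b ≠ c ∧ b ≠ d ∧ c ≠ d ∧ ρ y = swap a b * swap c d := by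
  have hH : (M.map ρ).Normal := hM.map ρ hρ
  obtain ⟨u, huM, hu⟩ := hu
  obtain ⟨a, b, c, hab, hac, hbc, h3⟩ := normal_has_three hD (M.map ρ) ⟨ρ u, ⟨u, huM, rfl⟩, hu⟩
  obtain ⟨d, hd⟩ := exists_ne_of_card ({a, b, c} : Finset D) (by
      have := Finset.card_le_three (a := a) (b := b) (c := c)
      omega)
  simp only [Finset.mem_insert, Finset.mem_singleton, not_or] at hd
  obtain ⟨hda, hdb, hdc⟩ := hd
  have h4 : swap a b * swap a d ∈ M.map ρ := by
    have := hH.conj_mem _ h3 (swap c d)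
    rwa [conj_three a b c d hab hac (Ne.symm hda) hbc (Ne.symm hdb) (Ne.symm hdc)] at this
  obtain ⟨u₁, hu₁, e₁⟩ := h3
  obtain ⟨u₂, hu₂, e₂⟩ := h4
  refine ⟨⁅u₁, u₂⁆, hMC _ hu₁ _ hu₂, a, b, c, d, hab, hac, Ne.symm hda, hbc, Ne.symm hdb, Ne.symm hdc, ?_⟩
  rw [map_commutatorElement, e₁, e₂]
  exact comm_three a b c d hab hac (Ne.symm hda) hbc (Ne.symm hdb) (Ne.symm hdc)

end abstract

end Cfsg.Agent.H20.JK
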