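import Mathlib
import Cfsg.Agent.Lib.H20.JK1

set_option autoImplicit false
set_option linter.unusedVariables false
set_option linter.unusedSectionVars false

namespace Cfsg.Agent.H20.JK

open Equiv Equiv.Perm
open scoped commutatorElement

section orb
variable {α : Type*} [Fintype α] [DecidableEq α]

/-- orbit of a point under a subgroup of `Perm α`. -/
def Orb (P : Subgroup (Perm α)) (x : α) : Set α := {z | ∃ v ∈ P, v x = z}

variable {P : Subgroup (Perm α)} {p : ℕ}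

theorem mem_Orb_self (x : α) : x ∈ Orb P x := ⟨1, P.one_mem, rfl⟩

theorem Orb_smul {v : Perm α} (hv : v ∈ P) {x z : α} (hz : z ∈ Orb P x) : v z ∈ Orb P x := by
  obtain ⟨w, hw, rfl⟩ := hz
  exact ⟨v * w, P.mul_mem hv hw, rfl⟩

theorem Orb_eq {x y : α} (h : y ∈ Orb P x) : Orb P y = Orb P x := by
  obtain ⟨w, hw, rfl⟩ := h
  ext z
  constructor
  · rintro ⟨v, hv, rfl⟩
    exact ⟨v * w, P.mul_mem hv hw, rfl⟩
  · rintro ⟨v, hv, rfl⟩
    refine ⟨v * w⁻¹, P.mul_mem hv (P.inv_mem hw), ?_⟩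
    simp

theorem Orb_eq_orbit (x : α) : Orb P x = MulAction.orbit P x := by
  ext z
  constructor
  · rintro ⟨v, hv, rfl⟩
    exact ⟨⟨v, hv⟩, rfl⟩
  · rintro ⟨⟨v, hv⟩, rfl⟩
    exact ⟨v, hv, rfl⟩

theorem index_stab (x : α) : (MulAction.stabilizer P x).index = (Orb P x).ncard := by
  rw [MulAction.index_stabilizer, Orb_eq_orbit]

theorem stab_normal (hp : p.Prime) (hPp : IsPGroup p P) {x : α} (hx : (Orb P x).ncard = p) :
    (MulAction.stabilizer P x).Normal := by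
  have := Fact.mk hp
  apply Subgroup.normal_of_index_eq_minFac_card
  rw [index_stab, hx]
  obtain ⟨n, hn⟩ := IsPGroup.iff_card.mp hPp
  rw [hn]
  have hn0 : n ≠ 0 := by
    rintro rfl
    have h1 : (MulAction.stabilizer P x).index ∣ Nat.card P := Subgroup.index_dvd_card _
    rw [index_stab, hx, hn, pow_zero] at h1
    exact hp.one_lt.ne' (Nat.dvd_one.mp h1)
  rw [hp.pow_minFac hn0]

theorem stab_fix (hp : p.Prime) (hPp : IsPGroup p P) {x : α} (hx : (Orb P x).ncard = p)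
    {t : Perm α} (ht : t ∈ P) (htx : t x = x) {z : α} (hz : z ∈ Orb P x) : t z = z := by
  obtain ⟨w, hw, rfl⟩ := hz
  have hN := stab_normal hp hPp hx
  have h1 : (⟨t, ht⟩ : P) ∈ MulAction.stabilizer P x := htx
  have h2 := hN.conj_mem _ h1 (⟨w, hw⟩⁻¹ : P)
  have h3 : (w⁻¹ * t * w) x = x := by
    have := h2
    rw [inv_inv, MulAction.mem_stabilizer_iff] at this
    exact this
  have h4 : t (w x) = w x := by
    have : w⁻¹ (t (w x)) = x := h3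
    have h5 := congrArg w this
    simpa using h5
  exact h4

theorem pow_p_fix (hp : p.Prime) (hPp : IsPGroup p P) {z : α} (hz : (Orb P z).ncard = p)
    {v : Perm α} (hv : v ∈ P) : (v ^ p) z = z := by
  have hN := stab_normal hp hPp hz
  have h1 := Subgroup.pow_index_mem (MulAction.stabilizer P z) (⟨v, hv⟩ : P)
  rw [index_stab, hz, MulAction.mem_stabilizer_iff] at h1
  exact h1

theorem exists_move (hp : p.Prime) {x : α} (hx : (Orb P x).ncard = p) : ∃ c ∈ P, c x ≠ x := by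
  by_contra hcon
  push Not at hcon
  have : Orb P x = {x} := by
    ext z
    constructor
    · rintro ⟨v, hv, rfl⟩
      simp [hcon v hv]
    · rintro rfl
      exact mem_Orb_self _
  rw [this, Set.ncard_singleton] at hx
  exact hp.one_lt.ne hx

theorem exists_pow (hp : p.Prime) (hPp : IsPGroup p P) {x : α} (hx : (Orb P x).ncard = p)
    {c v : Perm α} (hc : c ∈ P) (hcx : c x ≠ x) (hv : v ∈ P) :
    ∃ e : ℕ, ∀ z ∈ Orb P x, v z = (c ^ e) z := by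
  have hN := stab_normal hp hPp hx
  have := Fact.mk hp
  have hcard : Nat.card (P ⧸ MulAction.stabilizer P x) = p := by
    rw [← Subgroup.index_eq_card, index_stab, hx]
  have hc1 : ((⟨c, hc⟩ : P) : P ⧸ MulAction.stabilizer P x) ≠ 1 := by
    intro h
    rw [QuotientGroup.eq_one_iff, MulAction.mem_stabilizer_iff] at h
    exact hcx h
  obtain ⟨e, he⟩ := mem_powers_of_prime_card hcard hc1 (g' := ((⟨v, hv⟩ : P) : P ⧸ MulAction.stabilizer P x))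
  refine ⟨e, fun z hz => ?_⟩
  have h1 : ((⟨c, hc⟩ ^ e : P) : P ⧸ MulAction.stabilizer P x) = ((⟨v, hv⟩ : P) : P ⧸ MulAction.stabilizer P x) := by
    rw [← he]; rfl
  rw [QuotientGroup.eq, MulAction.mem_stabilizer_iff] at h1
  have h2 : (c ^ e)⁻¹ * v ∈ P := P.mul_mem (P.inv_mem (P.pow_mem hc e)) hv
  have h3 : ((c ^ e)⁻¹ * v) x = x := h1
  have h4 := stab_fix hp hPp hx h2 h3 hz
  have h5 : (c ^ e)⁻¹ (v z) = z := h4
  have h6 := congrArg (c ^ e) h5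
  simpa using h6

theorem agree_pow {f g : Perm α} {S : Set α} (h : ∀ z ∈ S, f z = g z) (hg : ∀ z ∈ S, g z ∈ S)
    (e : ℕ) : ∀ z ∈ S, (f ^ e) z = (g ^ e) z ∧ (g ^ e) z ∈ S := by
  induction e with
  | zero => intro z hz; exact ⟨rfl, hz⟩
  | succ n ih =>
    intro z hz
    obtain ⟨h1, h2⟩ := ih z hz
    rw [pow_succ', pow_succ']
    simp only [Perm.mul_apply]
    rw [h1, h _ h2]
    exact ⟨rfl, hg _ h2⟩

/-- The scalar on one orbit. -/
theorem exists_scalar (hp : p.Prime) (hPp : IsPGroup p P) {x : α} (hx : (Orb P x).ncard = p)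
    {u : Perm α} (hu : ∀ v ∈ P, u * v * u⁻¹ ∈ P) (hu1 : ∀ z, z ∈ Orb P x ↔ u z ∈ Orb P x) :
    ∃ a : ℕ, ∀ v ∈ P, ∀ z ∈ Orb P x, (u * v * u⁻¹) z = (v ^ a) z := by
  obtain ⟨c, hc, hcx⟩ := exists_move hp hx
  obtain ⟨a, ha⟩ := exists_pow hp hPp hx hc hcx (hu c hc)
  refine ⟨a, fun v hv z hz => ?_⟩
  obtain ⟨e, he⟩ := exists_pow hp hPp hx hc hcx hv
  have hinv : u⁻¹ z ∈ Orb P x := by
    rw [hu1]; simpa using hz
  have hinv' : ∀ w ∈ Orb P x, u⁻¹ w ∈ Orb P x := by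
    intro w hw
    rw [hu1]; simpa using hw
  have hcS : ∀ w ∈ Orb P x, (c ^ a) w ∈ Orb P x := fun w hw => Orb_smul (P.pow_mem hc a) hw
  -- left side
  have h1 : (u * v * u⁻¹) z = (u * c ^ e * u⁻¹) z := by
    simp only [Perm.mul_apply]
    rw [he _ hinv]
  have h2 : (u * c ^ e * u⁻¹) = (u * c * u⁻¹) ^ e := by
    rw [conj_pow]
  have h3 := (agree_pow ha hcS e z hz).1
  have h4 := (agree_pow he (fun w hw => Orb_smul (P.pow_mem hc e) hw) a z hz).1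
  rw [h1, h2, h3, h4, ← pow_mul, ← pow_mul, mul_comm]

/-- Two orbit-preserving normalising elements induce commuting maps on `P`. -/
theorem comm_on_P (hp : p.Prime) (hPp : IsPGroup p P) {Δ : Finset α} (hΔ : ∀ v ∈ P, ∀ x ∈ Δ, v x = x)
    (hO : ∀ x, x ∉ Δ → (Orb P x).ncard = p)
    {u w : Perm α} (hu : ∀ v ∈ P, u * v * u⁻¹ ∈ P) (hw : ∀ v ∈ P, w * v * w⁻¹ ∈ P)
    (hu1 : ∀ x, x ∉ Δ → ∀ z, z ∈ Orb P x ↔ u z ∈ Orb P x)
    (hw1 : ∀ x, x ∉ Δ → ∀ z, z ∈ Orb P x ↔ w z ∈ Orb P x) {v : Perm α} (hv : v ∈ P) :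
    (u * w) * v * (u * w)⁻¹ = (w * u) * v * (w * u)⁻¹ := by
  have e1 : (u * w) * v * (u * w)⁻¹ = u * (w * v * w⁻¹) * u⁻¹ := by group
  have e2 : (w * u) * v * (w * u)⁻¹ = w * (u * v * u⁻¹) * w⁻¹ := by group
  ext z
  by_cases hz : z ∈ Δ
  · rw [hΔ _ (by rw [e1]; exact hu _ (hw _ hv)) z hz, hΔ _ (by rw [e2]; exact hw _ (hu _ hv)) z hz]
  · obtain ⟨a, ha⟩ := exists_scalar hp hPp (hO z hz) hu (hu1 z hz)
    obtain ⟨b, hb⟩ := exists_scalar hp hPp (hO z hz) hw (hw1 z hz)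
    rw [e1, e2, ha _ (hw _ hv) z (mem_Orb_self z), hb _ (hu _ hv) z (mem_Orb_self z), conj_pow, conj_pow,
      ha _ (P.pow_mem hv b) z (mem_Orb_self z), hb _ (P.pow_mem hv a) z (mem_Orb_self z), pow_right_comm]

/-- The commutator of two such elements commutes with `P`. -/
theorem comm_centralizes (hp : p.Prime) (hPp : IsPGroup p P) {Δ : Finset α} (hΔ : ∀ v ∈ P, ∀ x ∈ Δ, v x = x)
    (hO : ∀ x, x ∉ Δ → (Orb P x).ncard = p)
    {u w : Perm α} (hu : ∀ v ∈ P, u * v * u⁻¹ ∈ P) (hw : ∀ v ∈ P, w * v * w⁻¹ ∈ P)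
    (hu' : ∀ v ∈ P, u⁻¹ * v * u ∈ P) (hw' : ∀ v ∈ P, w⁻¹ * v * w ∈ P)
    (hu1 : ∀ x, x ∉ Δ → ∀ z, z ∈ Orb P x ↔ u z ∈ Orb P x)
    (hw1 : ∀ x, x ∉ Δ → ∀ z, z ∈ Orb P x ↔ w z ∈ Orb P x) {v : Perm α} (hv : v ∈ P) :
    ⁅u, w⁆ * v * ⁅u, w⁆⁻¹ = v := by
  have hv' : (w * u)⁻¹ * v * (w * u) ∈ P := by
    have : (w * u)⁻¹ * v * (w * u) = u⁻¹ * (w⁻¹ * v * w) * u := by group
    rw [this]
    exact hu' _ (hw' _ hv)
  have h := comm_on_P hp hPp hΔ hO hu hw hu1 hw1 hv'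
  rw [commutatorElement_def]
  have e1 : (w * u) * ((w * u)⁻¹ * v * (w * u)) * (w * u)⁻¹ = v := by group
  rw [e1] at h
  calc u * w * u⁻¹ * w⁻¹ * v * (u * w * u⁻¹ * w⁻¹)⁻¹
      = u * w * ((w * u)⁻¹ * v * (w * u)) * (u * w)⁻¹ := by group
    _ = v := h

/-- An element of the centralizer preserving orbits has `p`-th power trivial on `Γ`. -/
theorem pow_p_of_centralizes (hp : p.Prime) (hPp : IsPGroup p P) {x : α} (hx : (Orb P x).ncard = p)
    {y : Perm α} (hy : ∀ v ∈ P, y * v * y⁻¹ = v) (hyx : y x ∈ Orb P x) : (y ^ p) x = x := by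
  obtain ⟨v, hv, hvx⟩ := hyx
  have hcomm : Commute y v := by
    have := hy v hv
    show y * v = v * y
    rw [← this]
    simp only [inv_mul_cancel_right]
    rw [this]
  have key : ∀ n : ℕ, (y ^ n) x = (v ^ n) x := by
    intro n
    induction n with
    | zero => rfl
    | succ m ih =>
      rw [pow_succ, Perm.mul_apply, ← hvx, ← Perm.mul_apply, (hcomm.pow_left m).eq, Perm.mul_apply, ih,
        ← Perm.mul_apply, ← pow_succ']
  rw [key, pow_p_fix hp hPp hx hv]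

/-- Scalars in the fewer-than-four-orbits case. -/
theorem link_scalars (hp : p.Prime) (hPp : IsPGroup p P) {Δ : Finset α} (hΔ : ∀ v ∈ P, ∀ x ∈ Δ, v x = x)
    (hO : ∀ x, x ∉ Δ → (Orb P x).ncard = p)
    (hW : ∀ t ∈ P, ∀ x, x ∉ Δ → (∀ z, z ∉ Orb P x → t z = z) → t = 1)
    {xA xB xC : α} (hxA : xA ∉ Δ) (hxB : xB ∉ Δ) (hxC : xC ∉ Δ)
    (hcov : ∀ z, z ∉ Δ → z ∈ Orb P xA ∨ z ∈ Orb P xB ∨ z ∈ Orb P xC)
    {u : Perm α} (hu : ∀ v ∈ P, u * v * u⁻¹ ∈ P)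
    (hu1 : ∀ x, x ∉ Δ → ∀ z, z ∈ Orb P x ↔ u z ∈ Orb P x)
    {aA aB : ℕ}
    (hA : ∀ v ∈ P, ∀ z ∈ Orb P xA, (u * v * u⁻¹) z = (v ^ aA) z)
    (hB : ∀ v ∈ P, ∀ z ∈ Orb P xB, (u * v * u⁻¹) z = (v ^ aB) z)
    {t : Perm α} (ht : t ∈ P) (ht1 : t ≠ 1) (htC : ∀ z ∈ Orb P xC, t z = z) :
    ∀ v ∈ P, ∀ z ∈ Orb P xB, (v ^ aA) z = (v ^ aB) z := by
  -- `t` moves a point of the orbit of `xB`
  obtain ⟨y, hyB, hy⟩ : ∃ y ∈ Orb P xB, t y ≠ y := by
    by_contra hcon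
    push Not at hcon
    apply ht1
    apply hW t ht xA hxA
    intro z hz
    by_cases hzΔ : z ∈ Δ
    · exact hΔ t ht z hzΔ
    · rcases hcov z hzΔ with h | h | h
      · exact absurd h hz
      · exact hcon z h
      · exact htC z h
  -- `u t u⁻¹` agrees with `t ^ aA`
  have htu : u * t * u⁻¹ = t ^ aA := by
    have hw : (t ^ aA)⁻¹ * (u * t * u⁻¹) = 1 := by
      apply hW _ (P.mul_mem (P.inv_mem (P.pow_mem ht aA)) (hu t ht)) xB hxB
      intro z hz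
      by_cases hzΔ : z ∈ Δ
      · exact hΔ _ (P.mul_mem (P.inv_mem (P.pow_mem ht aA)) (hu t ht)) z hzΔ
      · rcases hcov z hzΔ with h | h | h
        · have h1 := hA t ht z h
          rw [Perm.mul_apply, h1]
          simp
        · exact absurd h hz
        · have hinv : u⁻¹ z ∈ Orb P xC := by
            rw [hu1 xC hxC]; simpa using h
          have h1 : (u * t * u⁻¹) z = z := by
            simp only [Perm.mul_apply]
            rw [htC _ hinv]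
            simp
          have h2 : (t ^ aA) z = z := by
            have : ∀ n : ℕ, (t ^ n) z = z := by
              intro n
              induction n with
              | zero => rfl
              | succ m ih => rw [pow_succ, Perm.mul_apply, htC z h, ih]
            exact this aA
          rw [Perm.mul_apply, h1]
          rw [Perm.inv_eq_iff_eq]
          exact h2.symm
    rw [inv_mul_eq_one] at hw
    exact hw.symm
  have hyO : Orb P y = Orb P xB := Orb_eq hyB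
  have hOy : (Orb P y).ncard = p := by rw [hyO]; exact hO xB hxB
  intro v hv z hz
  rw [← hyO] at hz
  obtain ⟨e, he⟩ := exists_pow hp hPp hOy ht hy hv
  have hS : ∀ n : ℕ, ∀ w ∈ Orb P y, (t ^ n) w ∈ Orb P y := fun n w hw => Orb_smul (P.pow_mem ht n) hw
  have h1 : ∀ n : ℕ, (v ^ n) z = ((t ^ n) ^ e) z := by
    intro n
    have h2 := (agree_pow he (hS e) n z hz).1
    rw [h2, ← pow_mul, ← pow_mul, mul_comm]
  -- on the orbit of `xB`, `t ^ aA = t ^ aB`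
  have h3 : ∀ w ∈ Orb P y, (t ^ aA) w = (t ^ aB) w := by
    intro w hw
    rw [← htu]
    rw [hyO] at hw
    exact hB t ht w hw
  rw [h1, h1]
  exact (agree_pow h3 (hS aB) e z hz).1

/-- With at most three orbits and no element supported on a single orbit, the action on `P` is
by a scalar. -/
theorem exists_global_scalar (hp : p.Prime) (hPp : IsPGroup p P) {Δ : Finset α} (hΔ : ∀ v ∈ P, ∀ x ∈ Δ, v x = x)
    (hO : ∀ x, x ∉ Δ → (Orb P x).ncard = p)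
    (hW : ∀ t ∈ P, ∀ x, x ∉ Δ → (∀ z, z ∉ Orb P x → t z = z) → t = 1)
    {x₁ x₂ x₃ : α} (hx₁ : x₁ ∉ Δ) (hx₂ : x₂ ∉ Δ) (hx₃ : x₃ ∉ Δ)
    (hcov : ∀ z, z ∉ Δ → z ∈ Orb P x₁ ∨ z ∈ Orb P x₂ ∨ z ∈ Orb P x₃)
    {u : Perm α} (hu : ∀ v ∈ P, u * v * u⁻¹ ∈ P)
    (hu1 : ∀ x, x ∉ Δ → ∀ z, z ∈ Orb P x ↔ u z ∈ Orb P x) :
    ∃ a : ℕ, ∀ v ∈ P, u * v * u⁻¹ = v ^ a := by
  obtain ⟨a₁, h₁⟩ := exists_scalar hp hPp (hO x₁ hx₁) hu (hu1 x₁ hx₁)
  obtain ⟨a₂, h₂⟩ := exists_scalar hp hPp (hO x₂ hx₂) hu (hu1 x₂ hx₂)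
  obtain ⟨a₃, h₃⟩ := exists_scalar hp hPp (hO x₃ hx₃) hu (hu1 x₃ hx₃)
  -- a trivial kernel on one orbit gives the result
  have easy : ∀ x a, (∀ v ∈ P, ∀ z ∈ Orb P x, (u * v * u⁻¹) z = (v ^ a) z) →
      (∀ t ∈ P, (∀ z ∈ Orb P x, t z = z) → t = 1) → ∃ a : ℕ, ∀ v ∈ P, u * v * u⁻¹ = v ^ a := by
    intro x a h hK
    refine ⟨a, fun v hv => ?_⟩
    have h0 := hK _ (P.mul_mem (P.inv_mem (P.pow_mem hv a)) (hu v hv)) (by
      intro z hz
      rw [Perm.mul_apply, h v hv z hz]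
      simp)
    rw [inv_mul_eq_one] at h0
    exact h0.symm
  by_cases hK₂ : ∀ t ∈ P, (∀ z ∈ Orb P x₂, t z = z) → t = 1
  · exact easy x₂ a₂ h₂ hK₂
  by_cases hK₃ : ∀ t ∈ P, (∀ z ∈ Orb P x₃, t z = z) → t = 1
  · exact easy x₃ a₃ h₃ hK₃
  push Not at hK₂ hK₃
  obtain ⟨t₂, ht₂, htC₂, ht₂1⟩ := hK₂
  obtain ⟨t₃, ht₃, htC₃, ht₃1⟩ := hK₃
  have l12 := link_scalars hp hPp hΔ hO hW hx₁ hx₂ hx₃ hcov hu hu1 h₁ h₂ ht₃ ht₃1 htC₃
  have l13 := link_scalars hp hPp hΔ hO hW hx₁ hx₃ hx₂ (fun z hz => by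
    rcases hcov z hz with h | h | h
    · exact Or.inl h
    · exact Or.inr (Or.inr h)
    · exact Or.inr (Or.inl h)) hu hu1 h₁ h₃ ht₂ ht₂1 htC₂
  refine ⟨a₁, fun v hv => ?_⟩
  ext z
  by_cases hz : z ∈ Δ
  · rw [hΔ _ (hu v hv) z hz, hΔ _ (P.pow_mem hv a₁) z hz]
  · rcases hcov z hz with h | h | h
    · exact h₁ v hv z h
    · rw [h₂ v hv z h, l12 v hv z h]
    · rw [h₃ v hv z h, l13 v hv z h]

/-- A scalar element has commutators centralizing `P`. -/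
theorem scalar_comm_centralizes {u l : Perm α} {a : ℕ} (hua : ∀ v ∈ P, u * v * u⁻¹ = v ^ a)
    (hu' : ∀ v ∈ P, u⁻¹ * v * u ∈ P) (hl : ∀ v ∈ P, l * v * l⁻¹ ∈ P) (hl' : ∀ v ∈ P, l⁻¹ * v * l ∈ P)
    {v : Perm α} (hv : v ∈ P) : ⁅u, l⁆ * v * ⁅u, l⁆⁻¹ = v := by
  have hv₁ := hl' v hv
  have hv₂ := hu' _ hv₁
  have hv₃ := hl _ hv₂
  set v₁ := l⁻¹ * v * l with hv₁d
  set v₂ := u⁻¹ * v₁ * u with hv₂d
  set v₃ := l * v₂ * l⁻¹ with hv₃d
  have e1 : v₂ ^ a = v₁ := by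
    rw [← hua _ hv₂, hv₂d]; group
  have e2 : v₃ ^ a = v := by
    rw [hv₃d, conj_pow, e1, hv₁d]; group
  have e3 : u * v₃ * u⁻¹ = v := by
    rw [hua _ hv₃, e2]
  rw [commutatorElement_def]
  calc u * l * u⁻¹ * l⁻¹ * v * (u * l * u⁻¹ * l⁻¹)⁻¹
      = u * (l * (u⁻¹ * (l⁻¹ * v * l) * u) * l⁻¹) * u⁻¹ := by group
    _ = v := e3

theorem exists_mem_ker_ne {L T1 T2 : Type*} [Group L] [Fintype T1] [Fintype T2] [DecidableEq T1]
    [DecidableEq T2] (ρ : L →* Perm T1) (hρ : Function.Surjective ρ) (φ : L →* Perm T2)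
    (h0 : 0 < Fintype.card T2) (h : Fintype.card T2 < Fintype.card T1) : ∃ u ∈ φ.ker, ρ u ≠ 1 := by
  by_contra hcon
  push Not at hcon
  have hle : φ.ker ≤ ρ.ker := fun u hu => hcon u hu
  have h1 : ρ.ker.index ∣ φ.ker.index := Subgroup.index_dvd_of_le hle
  rw [Subgroup.index_ker, Subgroup.index_ker, MonoidHom.range_eq_top.mpr hρ, Subgroup.card_top] at h1
  have h2 : Nat.card φ.range ∣ Nat.card (Perm T2) := Subgroup.card_subgroup_dvd_card _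
  have h3 := h1.trans h2
  rw [Nat.card_eq_fintype_card, Nat.card_eq_fintype_card, Fintype.card_perm, Fintype.card_perm] at h3
  have h4 := Nat.le_of_dvd (Nat.factorial_pos _) h3
  have h5 := (Nat.factorial_lt h0).mpr h
  omega

end orb

end Cfsg.Agent.H20.JK
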