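import Mathlib
import Cfsg.Agent.Lib.H20.JK2

set_option autoImplicit false
set_option linter.unusedVariables false
set_option linter.unusedSectionVars false

namespace Cfsg.Agent.H20.JK

open Equiv Equiv.Perm
open scoped commutatorElement
open scoped Pointwise

section setup
variable {α : Type*} [Fintype α] [DecidableEq α]

/-- Restriction to an invariant finset. -/
def rhoL (Δ : Finset α) (L : Subgroup (Perm α)) (hL : ∀ l ∈ L, ∀ x, l x ∈ Δ ↔ x ∈ Δ) : L →* Perm Δ where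
  toFun l := (l : Perm α).subtypePerm (hL l l.2)
  map_one' := by ext x; rfl
  map_mul' a b := by ext x; rfl

@[simp] theorem rhoL_apply (Δ : Finset α) (L : Subgroup (Perm α)) (hL : ∀ l ∈ L, ∀ x, l x ∈ Δ ↔ x ∈ Δ)
    (l : L) (x : Δ) : (rhoL Δ L hL l x : α) = (l : Perm α) x := rfl

theorem lift_on {G : Subgroup (Perm α)} {r : ℕ} (hG : MulAction.IsMultiplyPretransitive G α (r + 1))
    (Δ : Finset α) (hΔ : Δ.card = r) (σ : Δ → α) (hσ : Function.Injective σ) {x z : α} (hx : x ∉ Δ)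
    (hz : ∀ y, σ y ≠ z) : ∃ g ∈ G, (∀ y : Δ, g y = σ y) ∧ g x = z := by
  let e : Fin r ≃ Δ := (Δ.equivFinOfCardEq hΔ).symm
  let f : Fin (r + 1) → α := Fin.cons x (fun i => (e i : α))
  let f' : Fin (r + 1) → α := Fin.cons z (fun i => σ (e i))
  have hf : Function.Injective f := by
    apply Fin.cons_injective_iff.mpr
    constructor
    · rintro ⟨i, rfl⟩
      exact hx (e i).2
    · intro i j h
      exact e.injective (Subtype.ext h)
  have hf' : Function.Injective f' := by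
    apply Fin.cons_injective_iff.mpr
    constructor
    · rintro ⟨i, hi⟩
      exact hz _ hi
    · intro i j h
      exact e.injective (hσ h)
  obtain ⟨g, hg⟩ := hG.exists_smul_eq ⟨f, hf⟩ ⟨f', hf'⟩
  have hg' : ∀ i, (g : Perm α) (f i) = f' i := fun i => congrArg (fun e : Fin (r + 1) ↪ α => e i) hg
  refine ⟨g, g.2, fun y => ?_, ?_⟩
  · have := hg' (e.symm y).succ
    simpa [f, f'] using this
  · exact hg' 0

/-- The setwise stabilizer of a finset in `G`. -/
def setStab (G : Subgroup (Perm α)) (Δ : Finset α) : Subgroup (Perm α) where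
  carrier := {g | g ∈ G ∧ ∀ x, g x ∈ Δ ↔ x ∈ Δ}
  mul_mem' := by
    rintro a b ⟨ha, ha'⟩ ⟨hb, hb'⟩
    exact ⟨G.mul_mem ha hb, fun x => by rw [Perm.mul_apply, ha', hb']⟩
  one_mem' := ⟨G.one_mem, fun x => Iff.rfl⟩
  inv_mem' := by
    rintro a ⟨ha, ha'⟩
    refine ⟨G.inv_mem ha, fun x => ?_⟩
    rw [← ha' (a⁻¹ x)]
    simp

/-- Existence of the Sylow configuration. -/
theorem exists_config {G : Subgroup (Perm α)} {k p r : ℕ} (hp : p.Prime)
    (hn : Fintype.card α = k * p + r) (hk : 1 ≤ k) (hpk : k < p)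
    (hG : MulAction.IsMultiplyPretransitive G α (r + 1)) :
    ∃ (Δ : Finset α) (P L : Subgroup (Perm α)), Δ.card = r ∧ P ≤ G ∧ L ≤ G ∧
      (∀ v ∈ P, ∀ x ∈ Δ, v x = x) ∧ IsPGroup p P ∧ (∀ x, x ∉ Δ → (Orb P x).ncard = p) ∧
      (∀ l ∈ L, ∀ v ∈ P, l * v * l⁻¹ ∈ P) ∧ (∀ l ∈ L, ∀ x, l x ∈ Δ ↔ x ∈ Δ) ∧
      (∀ σ : Perm Δ, ∃ l ∈ L, ∀ y : Δ, l y = σ y) := by
  have := Fact.mk hp
  obtain ⟨Δ, -, hΔ⟩ := Finset.exists_subset_card_eq (s := (Finset.univ : Finset α)) (n := r) (by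
    rw [Finset.card_univ, hn]; omega)
  have hΓ : (Δᶜ).card = k * p := by
    rw [Finset.card_compl, hn, hΔ]; omega
  have hΓpos : 0 < k * p := Nat.mul_pos hk hp.pos
  obtain ⟨x₀, hx₀⟩ : (Δᶜ).Nonempty := Finset.card_pos.mp (by omega)
  rw [Finset.mem_compl] at hx₀
  let N : Subgroup (Perm α) := setStab G Δ
  have hNinv : ∀ l ∈ N, ∀ x, l x ∈ Δ ↔ x ∈ Δ := fun l hl => hl.2
  let ρ : N →* Perm Δ := rhoL Δ N hNinv
  let K : Subgroup N := ρ.ker
  obtain ⟨P₀⟩ : Nonempty (Sylow p K) := inferInstance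
  let Pn : Subgroup N := (P₀ : Subgroup K).map K.subtype
  let P : Subgroup (Perm α) := Pn.map N.subtype
  let L : Subgroup (Perm α) := (Subgroup.normalizer (Pn : Set N)).map N.subtype
  have hPmem : ∀ v ∈ P, ∃ w : K, w ∈ (P₀ : Subgroup K) ∧ ((w : N) : Perm α) = v := by
    rintro v ⟨_, ⟨w, hw, rfl⟩, rfl⟩
    exact ⟨w, hw, rfl⟩
  have hKfix : ∀ w : K, ∀ x ∈ Δ, ((w : N) : Perm α) x = x := by
    intro w x hx
    have h1 : ρ w = 1 := w.2
    have h2 := congrArg (fun s : Perm Δ => (s ⟨x, hx⟩ : α)) h1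
    exact h2
  have hPfix : ∀ v ∈ P, ∀ x ∈ Δ, v x = x := by
    intro v hv x hx
    obtain ⟨w, -, rfl⟩ := hPmem v hv
    exact hKfix w x hx
  have hPG : P ≤ G := by
    rintro v ⟨w, -, rfl⟩
    exact w.2.1
  have hLG : L ≤ G := by
    rintro v ⟨w, -, rfl⟩
    exact w.2.1
  have hLinv : ∀ l ∈ L, ∀ x, l x ∈ Δ ↔ x ∈ Δ := by
    rintro v ⟨w, -, rfl⟩
    exact w.2.2
  have hPp : IsPGroup p P := by
    have h1 : IsPGroup p (P₀ : Subgroup K) := P₀.isPGroup'
    have h2 : IsPGroup p Pn := h1.map K.subtype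
    exact h2.map N.subtype
  have hLnorm : ∀ l ∈ L, ∀ v ∈ P, l * v * l⁻¹ ∈ P := by
    rintro _ ⟨l, hl, rfl⟩ _ ⟨v, hv, rfl⟩
    have := (Subgroup.mem_normalizer_iff.mp hl v).mp hv
    exact ⟨_, this, by simp⟩
  -- transitivity of `K` on the complement
  have hKtrans : ∀ x z, x ∉ Δ → z ∉ Δ → ∃ w : K, ((w : N) : Perm α) x = z := by
    intro x z hx hz
    obtain ⟨g, hgG, hg1, hg2⟩ := lift_on hG Δ hΔ (fun y => (y : α)) Subtype.val_injective hx
      (fun y h => hz (by rw [← show (y : α) = z from h]; exact y.2))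
    have hgN : g ∈ N := by
      refine ⟨hgG, fun y => ⟨fun h => ?_, fun h => ?_⟩⟩
      · have h1 := hg1 ⟨g y, h⟩
        have h2 : g y = y := g.injective h1
        rwa [h2] at h
      · rw [hg1 ⟨y, h⟩]; exact h
    refine ⟨⟨⟨g, hgN⟩, ?_⟩, hg2⟩
    show ρ ⟨g, hgN⟩ = 1
    ext y
    exact hg1 y
  have hOrb : ∀ x, x ∉ Δ → (Orb P x).ncard = p := by
    intro x hx
    have hcomp : ∀ z, z ∈ Orb P x → z ∉ Δ := by
      rintro _ ⟨v, hv, rfl⟩ h
      have h1 := hPfix v hv _ h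
      have h2 : v x = x := v.injective h1
      rw [h2] at h
      exact hx h
    have hle : (Orb P x).ncard ≤ k * p := by
      rw [← hΓ, ← Set.ncard_coe_finset]
      apply Set.ncard_le_ncard _ (Finset.finite_toSet _)
      intro z hz
      simpa using hcomp z hz
    have hdvd : (Orb P x).ncard ∣ Nat.card P := by
      rw [← index_stab]; exact Subgroup.index_dvd_card _
    obtain ⟨s, hs⟩ := IsPGroup.iff_card.mp hPp
    rw [hs] at hdvd
    obtain ⟨j, -, hj⟩ := (Nat.dvd_prime_pow hp).1 hdvd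
    have hkp : k * p < p ^ 2 := by rw [sq]; exact Nat.mul_lt_mul_of_pos_right hpk hp.pos
    have hj2 : j < 2 := by
      by_contra hcon
      push Not at hcon
      have h1 : p ^ 2 ≤ p ^ j := Nat.pow_le_pow_right hp.pos hcon
      omega
    interval_cases j
    · exfalso
      rw [pow_zero] at hj
      have hfixx : ∀ v ∈ P, v x = x := by
        intro v hv
        obtain ⟨a, ha⟩ := Set.ncard_eq_one.mp hj
        have h1 : x ∈ Orb P x := mem_Orb_self x
        have h2 : v x ∈ Orb P x := ⟨v, hv, rfl⟩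
        rw [ha] at h1 h2
        have e1 := Set.mem_singleton_iff.mp h1
        have e2 := Set.mem_singleton_iff.mp h2
        rw [e2, e1]
      have hle2 : (P₀ : Subgroup K) ≤ MulAction.stabilizer K x := by
        intro w hw
        rw [MulAction.mem_stabilizer_iff]
        exact hfixx _ ⟨(w : N), ⟨w, hw, rfl⟩, rfl⟩
      have h1 := Subgroup.index_dvd_of_le hle2
      rw [MulAction.index_stabilizer] at h1
      have horb : MulAction.orbit K x = ((Δᶜ : Finset α) : Set α) := by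
        ext z
        constructor
        · rintro ⟨w, rfl⟩
          have h3 : ((w : N) : Perm α) x ∉ Δ := by
            intro h
            have h1 := hKfix w _ h
            have h2 : ((w : N) : Perm α) x = x := ((w : N) : Perm α).injective h1
            rw [h2] at h
            exact hx h
          simp only [Finset.coe_compl, Set.mem_compl_iff, Finset.mem_coe]
          exact h3
        · intro hz
          have hz' : z ∉ Δ := by simpa using hz
          obtain ⟨w, hw⟩ := hKtrans x z hx hz'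
          exact ⟨w, hw⟩
      rw [horb, Set.ncard_coe_finset, hΓ] at h1
      exact P₀.not_dvd_index ((Dvd.intro_left k rfl).trans h1)
    · simpa using hj
  refine ⟨Δ, P, L, hΔ, hPG, hLG, hPfix, hPp, hOrb, hLnorm, hLinv, ?_⟩
  intro σ
  obtain ⟨g, hgG, hg1, -⟩ := lift_on hG Δ hΔ (fun y => (σ y : α))
    (fun a b h => σ.injective (Subtype.ext h)) hx₀ (z := x₀) (fun y h => hx₀ (by
      rw [← show ((σ y : Δ) : α) = x₀ from h]; exact (σ y).2))
  have hgN : g ∈ N := by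
    refine ⟨hgG, fun y => ⟨fun h => ?_, fun h => ?_⟩⟩
    · have h1 := hg1 (σ⁻¹ ⟨g y, h⟩)
      have h3 : σ (σ⁻¹ ⟨g y, h⟩) = ⟨g y, h⟩ := by simp
      rw [h3] at h1
      have h2 := g.injective h1
      rw [← h2]
      exact (σ⁻¹ ⟨g y, h⟩).2
    · rw [hg1 ⟨y, h⟩]; exact (σ ⟨y, h⟩).2
  have hρg : ρ ⟨g, hgN⟩ = σ := by
    ext y
    exact hg1 y
  have hF := Sylow.normalizer_sup_eq_top P₀
  have hmem : (⟨g, hgN⟩ : N) ∈ Subgroup.normalizer (Pn : Set N) ⊔ K := by
    rw [hF]; trivial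
  rw [← SetLike.mem_coe, Subgroup.mul_normal] at hmem
  obtain ⟨l, hl, h, hh, e⟩ := Set.mem_mul.mp hmem
  have h1 : ρ l = σ := by
    rw [← hρg, ← e, map_mul]
    have : ρ h = 1 := hh
    rw [this, mul_one]
  refine ⟨(l : Perm α), ⟨l, hl, rfl⟩, fun y => ?_⟩
  rw [← h1]
  rfl

end setup

end Cfsg.Agent.H20.JK
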