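import Mathlib

set_option autoImplicit false
set_option linter.unusedVariables false
set_option linter.unusedSectionVars false
set_option linter.style.haveILetI false

namespace Cfsg.Agent.H20.Mono

open Matrix
open scoped Pointwise

variable {F : Type*} [Field F] {p : ℕ} [NeZero p]

/-- monomial matrices -/
def M (d : Fin p → F) (k : Fin p) : Matrix (Fin p) (Fin p) F :=
  Matrix.of fun i j => if j = i + k then d i else 0

lemma M_apply (d : Fin p → F) (k i j : Fin p) : M d k i j = if j = i + k then d i else 0 := rfl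

lemma M_mul (d e : Fin p → F) (k l : Fin p) :
    M d k * M e l = M (fun i => d i * e (i + k)) (k + l) := by
  ext i j
  rw [Matrix.mul_apply, Finset.sum_eq_single (i + k)]
  · simp only [M_apply]
    simp only [if_true, add_assoc]
    split_ifs <;> simp
  · intro b _ hb
    simp [M_apply, hb]
  · simp

lemma M_one : M (fun _ => (1 : F)) (0 : Fin p) = 1 := by
  ext i j
  simp only [M_apply, add_zero, Matrix.one_apply]
  by_cases h : i = j
  · subst h; simp
  · simp [h, Ne.symm h]

lemma M_inv {d : Fin p → F} (hd : ∀ i, d i ≠ 0) (k : Fin p) :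
    M d k * M (fun i => (d (i - k))⁻¹) (-k) = 1 := by
  rw [M_mul, add_neg_cancel]
  have : (fun i => d i * (d (i + k - k))⁻¹) = fun _ => (1 : F) := by
    funext i
    rw [add_sub_cancel_right, mul_inv_cancel₀ (hd i)]
  rw [this, M_one]

lemma M_inv' {d : Fin p → F} (hd : ∀ i, d i ≠ 0) (k : Fin p) :
    M (fun i => (d (i - k))⁻¹) (-k) * M d k = 1 := by
  rw [M_mul, neg_add_cancel]
  have : (fun i => (d (i - k))⁻¹ * d (i + -k)) = fun _ => (1 : F) := by
    funext i
    rw [← sub_eq_add_neg, inv_mul_cancel₀ (hd _)]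
  rw [this, M_one]

/-- the invertible monomial matrix -/
def mkU (d : Fin p → F) (hd : ∀ i, d i ≠ 0) (k : Fin p) : GL (Fin p) F :=
  ⟨M d k, M (fun i => (d (i - k))⁻¹) (-k), M_inv hd k, M_inv' hd k⟩

lemma ne_zero_of_pow {a : F} (h : a ^ p = 1) : a ≠ 0 := by
  rintro rfl
  rw [zero_pow (NeZero.ne p)] at h
  exact zero_ne_one h

/-- subgroups of the monomial group by allowed shifts -/
def WS (K : AddSubgroup (Fin p)) : Subgroup (GL (Fin p) F) where
  carrier := {g | ∃ (d : Fin p → F) (k : Fin p), (∀ i, d i ^ p = 1) ∧ k ∈ K ∧ (g : Matrix (Fin p) (Fin p) F) = M d k}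
  mul_mem' := by
    rintro a b ⟨d, k, hd, hk, ha⟩ ⟨e, l, he, hl, hb⟩
    refine ⟨fun i => d i * e (i + k), k + l, ?_, K.add_mem hk hl, ?_⟩
    · intro i
      rw [mul_pow, hd, he, one_mul]
    · rw [Units.val_mul, ha, hb, M_mul]
  one_mem' := ⟨fun _ => 1, 0, by simp, K.zero_mem, by rw [M_one]; rfl⟩
  inv_mem' := by
    rintro a ⟨d, k, hd, hk, ha⟩
    have hd0 : ∀ i, d i ≠ 0 := fun i => ne_zero_of_pow (hd i)
    have h1 : a = mkU d hd0 k := Units.ext ha
    refine ⟨fun i => (d (i - k))⁻¹, -k, ?_, K.neg_mem hk, ?_⟩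
    · intro i
      rw [inv_pow, hd, inv_one]
    · rw [h1]
      rfl

lemma mem_WS {K : AddSubgroup (Fin p)} {g : GL (Fin p) F} :
    g ∈ WS K ↔ ∃ (d : Fin p → F) (k : Fin p), (∀ i, d i ^ p = 1) ∧ k ∈ K ∧ (g : Matrix (Fin p) (Fin p) F) = M d k := Iff.rfl

lemma M_inj {d e : Fin p → F} {k l : Fin p} (hd : ∀ i, d i ≠ 0) (h : M d k = M e l) : k = l ∧ d = e := by
  have h1 : k = l := by
    by_contra hne
    have h2 := congrFun (congrFun h 0) k
    simp only [M_apply, zero_add, if_true] at h2
    rw [if_neg hne] at h2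
    exact hd 0 h2
  subst h1
  refine ⟨rfl, ?_⟩
  funext i
  have h2 := congrFun (congrFun h i) (i + k)
  simpa [M_apply] using h2

section card

variable [Fintype F]

/-- the roots of unity -/
abbrev Mu (F : Type*) [Field F] (p : ℕ) := {a : F // a ^ p = 1}

lemma card_WS (K : AddSubgroup (Fin p)) :
    Nat.card (WS (F := F) K) = Nat.card (Mu F p) ^ p * Nat.card K := by
  have e : ((Fin p → Mu F p) × K) ≃ WS (F := F) K := by
    refine Equiv.ofBijective (fun x => ⟨mkU (fun i => (x.1 i : F)) (fun i => ne_zero_of_pow (x.1 i).2) x.2,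
      fun i => (x.1 i : F), x.2, fun i => (x.1 i).2, x.2.2, rfl⟩) ⟨?_, ?_⟩
    · rintro ⟨d, k⟩ ⟨e, l⟩ h
      have h1 : M (fun i => (d i : F)) (k : Fin p) = M (fun i => (e i : F)) (l : Fin p) :=
        congrArg (fun u : WS (F := F) K => ((u : GL (Fin p) F) : Matrix (Fin p) (Fin p) F)) h
      obtain ⟨h2, h3⟩ := M_inj (fun i => ne_zero_of_pow (d i).2) h1
      refine Prod.ext ?_ (Subtype.ext h2)
      funext i
      exact Subtype.ext (congrFun h3 i)
    · rintro ⟨g, d, k, hd, hk, hg⟩
      refine ⟨(fun i => ⟨d i, hd i⟩, ⟨k, hk⟩), ?_⟩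
      apply Subtype.ext
      apply Units.ext
      exact hg.symm
  rw [← Nat.card_congr e, Nat.card_prod, Nat.card_fun, Nat.card_fin]

end card

section main

variable [Fintype F] [hpp : Fact p.Prime]

local notation "q" => Fintype.card F

lemma exists_root (h1 : p ∣ q - 1) : ∃ ζ : F, IsPrimitiveRoot ζ p := by
  classical
  have h : p ∣ Nat.card Fˣ := by
    rw [Nat.card_eq_fintype_card, Fintype.card_units]
    exact h1
  obtain ⟨u, hu⟩ := exists_prime_orderOf_dvd_card' p h
  refine ⟨(u : F), ?_⟩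
  rw [IsPrimitiveRoot.coe_units_iff, ← hu]
  exact IsPrimitiveRoot.orderOf u

lemma card_Mu (h1 : p ∣ q - 1) : Nat.card (Mu F p) = p := by
  obtain ⟨ζ, hζ⟩ := exists_root (F := F) h1
  have hp0 : 0 < p := Nat.pos_of_ne_zero (NeZero.ne p)
  have h2 := hζ.card_nthRootsFinset
  have h3 : ∀ x : F, x ∈ Polynomial.nthRootsFinset p (1 : F) ↔ x ^ p = 1 := by
    intro x
    rw [Polynomial.mem_nthRootsFinset hp0]
  have h4 := Nat.subtype_card (Polynomial.nthRootsFinset p (1 : F)) h3
  exact h4.trans h2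

lemma card_W (h1 : p ∣ q - 1) : Nat.card (WS (F := F) (⊤ : AddSubgroup (Fin p))) = p ^ (p + 1) := by
  rw [card_WS, card_Mu h1, AddSubgroup.card_top, Nat.card_fin, pow_succ]

lemma card_D (h1 : p ∣ q - 1) : Nat.card (WS (F := F) (⊥ : AddSubgroup (Fin p))) = p ^ p := by
  rw [card_WS, card_Mu h1, AddSubgroup.card_bot, mul_one]

lemma D_le_W : WS (F := F) (⊥ : AddSubgroup (Fin p)) ≤ WS (⊤ : AddSubgroup (Fin p)) := by
  rintro g ⟨d, k, hd, hk, hg⟩
  exact ⟨d, k, hd, trivial, hg⟩

lemma mem_D {g : GL (Fin p) F} : g ∈ WS (⊥ : AddSubgroup (Fin p)) ↔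
    ∃ d : Fin p → F, (∀ i, d i ^ p = 1) ∧ (g : Matrix (Fin p) (Fin p) F) = M d 0 := by
  constructor
  · rintro ⟨d, k, hd, hk, hg⟩
    rw [AddSubgroup.mem_bot] at hk
    subst hk
    exact ⟨d, hd, hg⟩
  · rintro ⟨d, hd, hg⟩
    exact ⟨d, 0, hd, AddSubgroup.zero_mem _, hg⟩

lemma mem_W {g : GL (Fin p) F} : g ∈ WS (⊤ : AddSubgroup (Fin p)) ↔
    ∃ (d : Fin p → F) (k : Fin p), (∀ i, d i ^ p = 1) ∧ (g : Matrix (Fin p) (Fin p) F) = M d k := by
  constructor
  · rintro ⟨d, k, hd, hk, hg⟩
    exact ⟨d, k, hd, hg⟩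
  · rintro ⟨d, k, hd, hg⟩
    exact ⟨d, k, hd, trivial, hg⟩

lemma M_diag_mul (d e : Fin p → F) (l : Fin p) : M d 0 * M e l = M (fun i => d i * e i) l := by
  rw [M_mul, zero_add]
  simp

lemma M_mul_diag (d e : Fin p → F) (k : Fin p) : M d k * M e 0 = M (fun i => d i * e (i + k)) k := by
  rw [M_mul, add_zero]

lemma mul_M_apply (A : Matrix (Fin p) (Fin p) F) (d : Fin p → F) (i j : Fin p) : (A * M d 0) i j = A i j * d j := by
  rw [Matrix.mul_apply, Finset.sum_eq_single j]
  · simp [M_apply]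
  · intro b _ hb
    simp [M_apply, Ne.symm hb]
  · simp

lemma M_mul_apply (A : Matrix (Fin p) (Fin p) F) (d : Fin p → F) (i j : Fin p) : (M d 0 * A) i j = d i * A i j := by
  rw [Matrix.mul_apply, Finset.sum_eq_single i]
  · simp [M_apply]
  · intro b _ hb
    simp [M_apply, hb]
  · simp

/-- a function periodic with respect to a nonzero shift is constant -/
lemma const_of_periodic {ε : Fin p → F} {k : Fin p} (hk : k ≠ 0) (h : ∀ i, ε (i + k) = ε i) (i : Fin p) : ε i = ε 0 := by
  have hc : Nat.card (Fin p) = p := Nat.card_fin p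
  have h1 : i ∈ AddSubgroup.zmultiples k := mem_zmultiples_of_prime_card hc hk
  obtain ⟨z, hz⟩ := AddSubgroup.mem_zmultiples_iff.1 h1
  have hper : Function.Periodic ε k := h
  rw [← hz]
  exact hper.zsmul_eq z

/-- the diagonal subgroup is characteristic in the monomial group -/
theorem conj_mem_D (hp2 : p ≠ 2) (h1 : p ∣ q - 1) {g : GL (Fin p) F}
    (hg : g ∈ Subgroup.normalizer ((WS (⊤ : AddSubgroup (Fin p)) : Subgroup (GL (Fin p) F)) : Set (GL (Fin p) F)))
    {e : GL (Fin p) F} (he : e ∈ WS (⊥ : AddSubgroup (Fin p))) : g * e * g⁻¹ ∈ WS (⊥ : AddSubgroup (Fin p)) := by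
  have hpr : p.Prime := hpp.out
  by_contra hy
  set D : Subgroup (GL (Fin p) F) := WS (⊥ : AddSubgroup (Fin p)) with hD
  set W : Subgroup (GL (Fin p) F) := WS (⊤ : AddSubgroup (Fin p)) with hW
  set D' : Subgroup (GL (Fin p) F) := D.map (MulAut.conj g).toMonoidHom with hD'
  have hD'W : D' ≤ W := by
    rintro _ ⟨z, hz, rfl⟩
    exact (Subgroup.mem_normalizer_iff.1 hg z).1 (D_le_W hz)
  have hyW : g * e * g⁻¹ ∈ W := hD'W ⟨e, he, rfl⟩
  obtain ⟨d₀, k, hd₀, hyM⟩ := mem_W.1 hyW
  have hk : k ≠ 0 := by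
    rintro rfl
    exact hy (mem_D.2 ⟨d₀, hd₀, hyM⟩)
  have hd₀0 : ∀ i, d₀ i ≠ 0 := fun i => ne_zero_of_pow (hd₀ i)
  -- D is commutative
  have hcomm : ∀ a ∈ D, ∀ b ∈ D, a * b = b * a := by
    intro a ha b hb
    obtain ⟨x, hx, hax⟩ := mem_D.1 ha
    obtain ⟨w, hw, hbw⟩ := mem_D.1 hb
    apply Units.ext
    rw [Units.val_mul, Units.val_mul, hax, hbw, M_diag_mul, M_diag_mul]
    congr 1
    funext i
    exact mul_comm _ _
  have hcomm' : ∀ a ∈ D', ∀ b ∈ D', a * b = b * a := by
    rintro _ ⟨a, ha, rfl⟩ _ ⟨b, hb, rfl⟩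
    have : a * b = b * a := hcomm a ha b hb
    show (g * a * g⁻¹) * (g * b * g⁻¹) = (g * b * g⁻¹) * (g * a * g⁻¹)
    calc (g * a * g⁻¹) * (g * b * g⁻¹) = g * (a * b) * g⁻¹ := by group
      _ = g * (b * a) * g⁻¹ := by rw [this]
      _ = _ := by group
  -- elements of the intersection are scalar
  have hscal : ∀ z ∈ D ⊓ D', ∃ c : F, c ^ p = 1 ∧ (z : Matrix (Fin p) (Fin p) F) = M (fun _ => c) 0 := by
    intro z hz
    obtain ⟨ε, hε, hzε⟩ := mem_D.1 hz.1
    have hc := hcomm' z hz.2 _ (show g * e * g⁻¹ ∈ D' from ⟨e, he, rfl⟩)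
    have hc2 := congrArg (fun u : GL (Fin p) F => (u : Matrix (Fin p) (Fin p) F)) hc
    simp only [Units.val_mul] at hc2
    have hy' : ((g : Matrix (Fin p) (Fin p) F) * e * ((g⁻¹ : GL (Fin p) F) : Matrix (Fin p) (Fin p) F)) = M d₀ k := by
      rw [← hyM]
      simp only [Units.val_mul]
    rw [hy', hzε, M_diag_mul, M_mul_diag] at hc2
    obtain ⟨-, h3⟩ := M_inj (fun i => mul_ne_zero (ne_zero_of_pow (hε i)) (hd₀0 i)) hc2
    have h4 : ∀ i, ε (i + k) = ε i := by
      intro i
      have h5 := congrFun h3 i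
      have h6 := hd₀0 i
      have h7 : d₀ i * (ε (i + k) - ε i) = 0 := by linear_combination -h5
      have h8 := (mul_eq_zero.1 h7).resolve_left h6
      linear_combination h8
    refine ⟨ε 0, hε 0, ?_⟩
    rw [hzε]
    congr 1
    funext i
    exact const_of_periodic hk h4 i
  -- counting
  have hcardI : Nat.card (D ⊓ D' : Subgroup (GL (Fin p) F)) ≤ p := by
    have hmap : ∀ z : (D ⊓ D' : Subgroup (GL (Fin p) F)), ((z : GL (Fin p) F) : Matrix (Fin p) (Fin p) F) 0 0 ^ p = 1 := by
      rintro ⟨z, hz⟩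
      obtain ⟨c, hc, hzc⟩ := hscal z hz
      simp only [hzc, M_apply]
      simpa using hc
    have key : Nat.card (D ⊓ D' : Subgroup (GL (Fin p) F)) ≤ Nat.card (Mu F p) := by
      apply Nat.card_le_card_of_injective (fun z => (⟨_, hmap z⟩ : Mu F p))
      rintro ⟨z, hz⟩ ⟨z', hz'⟩ h
      obtain ⟨c, hc, hzc⟩ := hscal z hz
      obtain ⟨c', hc', hzc'⟩ := hscal z' hz'
      have h2 : ((z : GL (Fin p) F) : Matrix (Fin p) (Fin p) F) 0 0 = ((z' : GL (Fin p) F) : Matrix (Fin p) (Fin p) F) 0 0 :=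
        congrArg Subtype.val h
      simp only [hzc, hzc', M_apply] at h2
      simp only [add_zero, if_true] at h2
      apply Subtype.ext
      apply Units.ext
      show (z : Matrix (Fin p) (Fin p) F) = z'
      rw [hzc, hzc', h2]
    rwa [card_Mu h1] at key
  have hcardD' : Nat.card D' = p ^ p := by
    have h5 : Nat.card D' = Nat.card D :=
      (Nat.card_congr (Subgroup.equivMapOfInjective _ _ (MulAut.conj g).injective).toEquiv).symm
    rw [h5]
    exact card_D h1
  have hfin : Finite (GL (Fin p) F) := inferInstance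
  have hrel : D.relIndex W = p := by
    have h3 := (D.subgroupOf W).card_mul_index
    have h4 : Nat.card (D.subgroupOf W) = Nat.card D :=
      Nat.card_congr (Subgroup.subgroupOfEquivOfLe D_le_W).toEquiv
    rw [h4, card_D h1, card_W h1] at h3
    have h5 : p ^ p * (D.subgroupOf W).index = p ^ p * p := by rw [h3, pow_succ]
    exact Nat.eq_of_mul_eq_mul_left (pow_pos hpr.pos p) h5
  have hrel2 : D.relIndex D' ≤ p := by
    have h5 := Subgroup.relIndex_le_of_le_right (H := D) hD'W (by rw [hrel]; exact hpr.ne_zero)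
    rwa [hrel] at h5
  have h6 : Nat.card D' = Nat.card (D ⊓ D' : Subgroup (GL (Fin p) F)) * D.relIndex D' := by
    have h7 := ((D ⊓ D').subgroupOf D').card_mul_index
    have h8 : Nat.card ((D ⊓ D').subgroupOf D') = Nat.card (D ⊓ D' : Subgroup (GL (Fin p) F)) :=
      Nat.card_congr (Subgroup.subgroupOfEquivOfLe inf_le_right).toEquiv
    rw [h8] at h7
    rw [← h7]
    congr 1
    show (D ⊓ D').relIndex D' = _
    rw [Subgroup.inf_relIndex_right]
  have h7 : p ^ p ≤ p * p := by
    rw [← hcardD', h6]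
    exact Nat.mul_le_mul hcardI hrel2
  have hp3 : 3 ≤ p := by
    have := hpr.two_le
    omega
  have h8 : p ^ 3 ≤ p ^ p := Nat.pow_le_pow_right hpr.pos hp3
  have h9 : 0 < p := hpr.pos
  nlinarith

/-- elements of the normaliser with nonzero diagonal are diagonal -/
theorem offdiag_eq_zero (hp2 : p ≠ 2) (h1 : p ∣ q - 1) {g : GL (Fin p) F}
    (hg : g ∈ Subgroup.normalizer ((WS (⊤ : AddSubgroup (Fin p)) : Subgroup (GL (Fin p) F)) : Set (GL (Fin p) F)))
    (hdiag : ∀ i, (g : Matrix (Fin p) (Fin p) F) i i ≠ 0) {i j : Fin p} (hij : i ≠ j) :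
    (g : Matrix (Fin p) (Fin p) F) i j = 0 := by
  obtain ⟨ζ, hζ⟩ := exists_root (F := F) h1
  set δ : Fin p → F := fun i => ζ ^ (i : ℕ) with hδ
  have hδp : ∀ i, δ i ^ p = 1 := by
    intro i
    simp only [hδ]
    rw [← pow_mul, mul_comm, pow_mul, hζ.pow_eq_one, one_pow]
  have hδ0 : ∀ i, δ i ≠ 0 := fun i => ne_zero_of_pow (hδp i)
  have hmem : mkU δ hδ0 0 ∈ WS (⊥ : AddSubgroup (Fin p)) := mem_D.2 ⟨δ, hδp, rfl⟩
  have h2 := conj_mem_D hp2 h1 hg hmem
  obtain ⟨δ', hδ', hM⟩ := mem_D.1 h2
  have h3 : (g : Matrix (Fin p) (Fin p) F) * M δ 0 = M δ' 0 * g := by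
    rw [← hM]
    have : ((mkU δ hδ0 0 : GL (Fin p) F) : Matrix (Fin p) (Fin p) F) = M δ 0 := rfl
    rw [← this, ← Units.val_mul, ← Units.val_mul]
    congr 1
    group
  have h4 : ∀ a b, (g : Matrix (Fin p) (Fin p) F) a b * δ b = δ' a * (g : Matrix (Fin p) (Fin p) F) a b := by
    intro a b
    have := congrFun (congrFun h3 a) b
    rwa [mul_M_apply, M_mul_apply] at this
  have h5 : ∀ a, δ' a = δ a := by
    intro a
    have h6 := h4 a a
    have h7 : (g : Matrix (Fin p) (Fin p) F) a a * (δ a - δ' a) = 0 := by linear_combination h6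
    have h8 := (mul_eq_zero.1 h7).resolve_left (hdiag a)
    linear_combination -h8
  have h6 := h4 i j
  rw [h5] at h6
  have h7 : (g : Matrix (Fin p) (Fin p) F) i j * (δ j - δ i) = 0 := by linear_combination h6
  rcases mul_eq_zero.1 h7 with h8 | h8
  · exact h8
  · exfalso
    apply hij
    have h9 : ζ ^ (j : ℕ) = ζ ^ (i : ℕ) := by
      simp only [hδ] at h8
      linear_combination h8
    have h10 := hζ.pow_inj j.2 i.2 h9
    exact (Fin.ext h10).symm

/-- an invertible matrix from a right inverse -/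
def unitOf {A B : Matrix (Fin p) (Fin p) F} (h : A * B = 1) : GL (Fin p) F :=
  ⟨A, B, h, mul_eq_one_comm.1 h⟩

lemma powers_M {d : Fin p → F} {k : Fin p} (hd : ∀ i, d i ^ p = 1) (l : ℕ) :
    ∃ e : Fin p → F, (∀ i, e i ^ p = 1) ∧ (M d k) ^ l = M e (l • k) := by
  induction l with
  | zero => exact ⟨fun _ => 1, by simp, by simp [M_one]⟩
  | succ l ih =>
    obtain ⟨e, he, h⟩ := ih
    refine ⟨fun i => e i * d (i + l • k), ?_, ?_⟩
    · intro i
      rw [mul_pow, he, hd, one_mul]
    · rw [pow_succ, h, M_mul, succ_nsmul]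

/-- the case of a non diagonal element -/
theorem case_nondiag (hp2 : p ≠ 2) (h1 : p ∣ q - 1) {x : GL (Fin p) F} {d : Fin p → F} {k : Fin p}
    (hd : ∀ i, d i ^ p = 1) (hk : k ≠ 0) (hx : (x : Matrix (Fin p) (Fin p) F) = M d k) :
    ∃ g : GL (Fin p) F, g⁻¹ * x * g ∈ WS (⊤ : AddSubgroup (Fin p)) ∧
      g ∉ Subgroup.normalizer ((WS (⊤ : AddSubgroup (Fin p)) : Subgroup (GL (Fin p) F)) : Set (GL (Fin p) F)) := by
  have hpr : p.Prime := hpp.out
  have hxW : x ∈ WS (⊤ : AddSubgroup (Fin p)) := mem_W.2 ⟨d, k, hd, hx⟩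
  have hd0 : ∀ i, d i ≠ 0 := fun i => ne_zero_of_pow (hd i)
  set X : Matrix (Fin p) (Fin p) F := M d k with hX
  have hpk : p • k = 0 := by
    have := card_nsmul_eq_zero' (G := Fin p) (x := k)
    rwa [Nat.card_fin] at this
  have hord : addOrderOf k = p := addOrderOf_eq_prime hpk hk
  have hsm : ∀ l : ℕ, l < p → l • k = 0 → l = 0 := by
    intro l hl h
    have h2 : addOrderOf k ∣ l := addOrderOf_dvd_of_nsmul_eq_zero h
    rw [hord] at h2
    exact Nat.eq_zero_of_dvd_of_lt h2 hl
  -- x ^ p is scalar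
  obtain ⟨e, he, hXp⟩ := powers_M (k := k) hd p
  rw [hpk] at hXp
  have hcomm : X * X ^ p = X ^ p * X := by
    rw [← pow_succ', ← pow_succ]
  rw [hXp, hX, M_mul_diag, M_diag_mul] at hcomm
  obtain ⟨-, h3⟩ := M_inj (fun i => mul_ne_zero (hd0 i) (ne_zero_of_pow (he _))) hcomm
  have h4 : ∀ i, e (i + k) = e i := by
    intro i
    have h5 := congrFun h3 i
    have h7 : d i * (e (i + k) - e i) = 0 := by linear_combination h5
    have h8 := (mul_eq_zero.1 h7).resolve_left (hd0 i)
    linear_combination h8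
  set c := e 0 with hc
  have hec : e = fun _ => c := by
    funext i
    exact const_of_periodic hk h4 i
  have hXc : X ^ p = c • 1 := by
    rw [hXp, hec, ← M_one]
    ext i j
    simp [M_apply]
  have hcp : c ^ p = 1 := he 0
  have hodd : Odd p := hpr.odd_of_ne_two hp2
  -- non membership criterion
  have hcrit : ∀ g : GL (Fin p) F, (∀ i, (g : Matrix (Fin p) (Fin p) F) i i ≠ 0) →
      (g : Matrix (Fin p) (Fin p) F) 0 k ≠ 0 →
      g ∉ Subgroup.normalizer ((WS (⊤ : AddSubgroup (Fin p)) : Subgroup (GL (Fin p) F)) : Set (GL (Fin p) F)) := by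
    intro g h5 h6 hg
    exact h6 (offdiag_eq_zero hp2 h1 hg h5 hk.symm)
  have hXii : ∀ i, X i i = 0 := by
    intro i
    rw [hX, M_apply, if_neg]
    intro h
    apply hk
    exact (add_eq_left.1 h.symm)
  have hX0k : X 0 k = d 0 := by
    rw [hX, M_apply, if_pos (by simp)]
  have hcommute : ∀ g : GL (Fin p) F, (g : Matrix (Fin p) (Fin p) F) * X = X * g →
      g⁻¹ * x * g = x := by
    intro g hg
    have h5 : x * g = g * x := by
      apply Units.ext
      rw [Units.val_mul, Units.val_mul, hx]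
      exact hg.symm
    rw [mul_assoc, h5]
    group
  by_cases hc1 : 1 + c = 0
  · -- characteristic two, with c = 1
    have hc' : c = -1 := by linear_combination hc1
    have hcp' := hcp
    rw [hc', hodd.neg_one_pow] at hcp'
    have h2F : (2 : F) = 0 := by linear_combination -hcp'
    have hc_one : c = 1 := by rw [hc']; exact hcp'
    have hXp1 : X ^ p = 1 := by rw [hXc, hc_one, one_smul]
    have hpF : (p : F) = 1 := by
      obtain ⟨m, hm⟩ := hodd
      rw [hm]
      push_cast
      rw [h2F]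
      ring
    have hq4 : 2 < Fintype.card F := by
      have h5 : 2 ≤ Fintype.card F := Fintype.one_lt_card
      have h6 : p ≤ Fintype.card F - 1 := Nat.le_of_dvd (by omega) h1
      have h7 := hpr.two_le
      omega
    obtain ⟨a, ha0, ha1⟩ : ∃ a : F, a ≠ 0 ∧ a ≠ 1 := by
      classical
      have h5 : ({0, 1} : Finset F).card < (Finset.univ : Finset F).card := by
        rw [Finset.card_univ]
        exact lt_of_le_of_lt (Finset.card_le_two) hq4
      obtain ⟨a, -, ha⟩ := Finset.exists_mem_notMem_of_card_lt_card h5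
      simp only [Finset.mem_insert, Finset.mem_singleton, not_or] at ha
      exact ⟨a, ha.1, ha.2⟩
    have ha2 : 1 + a ≠ 0 := by
      intro h
      apply ha1
      linear_combination h - h2F
    set E : Matrix (Fin p) (Fin p) F := ∑ l ∈ Finset.range p, X ^ l with hE
    have hXE : X * E = E := by
      have h5 := mul_neg_geom_sum X p
      rw [hXp1, sub_self, sub_mul, one_mul, sub_eq_zero] at h5
      exact h5.symm
    have hEX : E * X = E := by
      have h5 := geom_sum_mul_neg X p
      rw [hXp1, sub_self, mul_sub, mul_one, sub_eq_zero] at h5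
      exact h5.symm
    have hXlE : ∀ l : ℕ, X ^ l * E = E := by
      intro l
      induction l with
      | zero => simp
      | succ l ih => rw [pow_succ, mul_assoc, hXE, ih]
    have hEE : E * E = E := by
      calc E * E = (∑ l ∈ Finset.range p, X ^ l) * E := rfl
        _ = ∑ l ∈ Finset.range p, (X ^ l * E) := Finset.sum_mul _ _ _
        _ = ∑ l ∈ Finset.range p, E := Finset.sum_congr rfl (fun l _ => hXlE l)
        _ = p • E := by rw [Finset.sum_const, Finset.card_range]
        _ = E := by rw [← Nat.cast_smul_eq_nsmul F, hpF, one_smul]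
    set b : F := a / (1 + a) with hb
    have hab : a + b + a * b = 0 := by
      have h5 : b * (1 + a) = a := by
        rw [hb]
        field_simp
      linear_combination h5 + a * h2F
    have hu : (1 + a • E) * (1 + b • E) = 1 := by
      have h5 : (1 + a • E) * (1 + b • E) = 1 + (a + b + a * b) • E := by
        have h6 : (a • E) * (1 + b • E) = a • E + (a * b) • E := by
          rw [mul_add, mul_one, smul_mul_smul_comm, hEE]
        rw [add_mul, one_mul, h6, add_smul, add_smul]
        abel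
      rw [h5, hab, zero_smul, add_zero]
    -- entries
    have hent : ∀ l i j, j ≠ i + l • k → (X ^ l) i j = 0 := by
      intro l i j hij
      obtain ⟨e', he', h5⟩ := powers_M (k := k) hd l
      rw [hX, h5, M_apply, if_neg hij]
    have hEii : ∀ i, E i i = 1 := by
      intro i
      rw [hE, Matrix.sum_apply, Finset.sum_eq_single 0]
      · simp
      · intro l hl hl0
        apply hent
        intro h
        have h6 := add_eq_left.1 h.symm
        exact hl0 (hsm l (Finset.mem_range.1 hl) h6)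
      · intro h
        exact absurd (Finset.mem_range.2 hpr.pos) h
    have hE0k : E 0 k = d 0 := by
      rw [hE, Matrix.sum_apply, Finset.sum_eq_single 1]
      · rw [pow_one, hX0k]
      · intro l hl hl1
        apply hent
        intro h
        rw [zero_add] at h
        rcases l with _ | l
        · exact hk (by simpa using h)
        · rw [succ_nsmul] at h
          have h6 : l • k = 0 := by
            have h7 := add_eq_right.1 h.symm
            exact h7
          have h8 := hsm l (by have := Finset.mem_range.1 hl; omega) h6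
          subst h8
          exact hl1 rfl
      · intro h
        exact absurd (Finset.mem_range.2 hpr.one_lt) h
    refine ⟨unitOf hu, ?_, ?_⟩
    · rw [hcommute _ (by
        show (1 + a • E) * X = X * (1 + a • E)
        rw [add_mul, mul_add, one_mul, mul_one, smul_mul_assoc, mul_smul_comm, hXE, hEX])]
      exact hxW
    · apply hcrit
      · intro i
        show (1 + a • E) i i ≠ 0
        rw [Matrix.add_apply, Matrix.smul_apply, hEii, Matrix.one_apply_eq, smul_eq_mul, mul_one]
        exact ha2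
      · show (1 + a • E) 0 k ≠ 0
        rw [Matrix.add_apply, Matrix.smul_apply, hE0k, Matrix.one_apply_ne hk.symm, zero_add, smul_eq_mul]
        exact mul_ne_zero ha0 (hd0 0)
  · -- general case
    have hu : (1 + X) * (((1 + c)⁻¹) • ∑ l ∈ Finset.range p, (-X) ^ l) = 1 := by
      rw [Matrix.mul_smul]
      have h5 := mul_neg_geom_sum (-X) p
      rw [sub_neg_eq_add] at h5
      rw [h5, hodd.neg_pow, sub_neg_eq_add, hXc]
      have : (1 : Matrix (Fin p) (Fin p) F) + c • 1 = (1 + c) • 1 := by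
        rw [add_smul, one_smul]
      rw [this, smul_smul, inv_mul_cancel₀ hc1, one_smul]
    refine ⟨unitOf hu, ?_, ?_⟩
    · rw [hcommute _ (by show (1 + X) * X = X * (1 + X); rw [add_mul, mul_add, one_mul, mul_one])]
      exact hxW
    · apply hcrit
      · intro i
        show (1 + X) i i ≠ 0
        rw [Matrix.add_apply, hXii, Matrix.one_apply_eq, add_zero]
        exact one_ne_zero
      · show (1 + X) 0 k ≠ 0
        rw [Matrix.add_apply, hX0k, Matrix.one_apply_ne hk.symm, zero_add]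
        exact hd0 0

/-- the case of a diagonal element -/
theorem case_diag (hp2 : p ≠ 2) (h1 : p ∣ q - 1) {x : GL (Fin p) F} {d : Fin p → F}
    (hd : ∀ i, d i ^ p = 1) (hx : (x : Matrix (Fin p) (Fin p) F) = M d 0) :
    ∃ g : GL (Fin p) F, g⁻¹ * x * g ∈ WS (⊤ : AddSubgroup (Fin p)) ∧
      g ∉ Subgroup.normalizer ((WS (⊤ : AddSubgroup (Fin p)) : Subgroup (GL (Fin p) F)) : Set (GL (Fin p) F)) := by
  have hpr : p.Prime := hpp.out
  have hxW : x ∈ WS (⊤ : AddSubgroup (Fin p)) := mem_W.2 ⟨d, 0, hd, hx⟩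
  have hxD : x ∈ WS (⊥ : AddSubgroup (Fin p)) := mem_D.2 ⟨d, hd, hx⟩
  have hd0 : ∀ i, d i ≠ 0 := fun i => ne_zero_of_pow (hd i)
  by_cases hinj : Function.Injective d
  · -- Vandermonde
    have hdet : (Matrix.vandermonde d).det ≠ 0 := Matrix.det_vandermonde_ne_zero_iff.2 hinj
    set V : GL (Fin p) F := Matrix.GeneralLinearGroup.mkOfDetNeZero (Matrix.vandermonde d) hdet with hV
    have hVval : (V : Matrix (Fin p) (Fin p) F) = Matrix.vandermonde d := rfl
    have hS0 : ∀ _i : Fin p, (1 : F) ≠ 0 := fun _ => one_ne_zero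
    set S : GL (Fin p) F := mkU (fun _ => (1 : F)) hS0 (-1) with hS
    have hSW : S ∈ WS (⊤ : AddSubgroup (Fin p)) := mem_W.2 ⟨_, _, fun _ => one_pow p, rfl⟩
    have hrel : x * V = V * S := by
      apply Units.ext
      rw [Units.val_mul, Units.val_mul, hx, hVval]
      ext i j
      rw [M_mul_apply, Matrix.mul_apply, Finset.sum_eq_single (j + 1)]
      · have hSval : ((S : GL (Fin p) F) : Matrix (Fin p) (Fin p) F) = M (fun _ => (1 : F)) (-1) := rfl
        rw [hSval, M_apply, if_pos (by abel), mul_one, Matrix.vandermonde_apply, Matrix.vandermonde_apply]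
        have hval : ((j + 1 : Fin p) : ℕ) = ((j : ℕ) + 1) % p := by
          rw [Fin.val_add, Fin.val_one', Nat.add_mod_mod]
        by_cases hj : (j : ℕ) + 1 < p
        · rw [hval, Nat.mod_eq_of_lt hj, pow_succ']
        · have hj2 : (j : ℕ) + 1 = p := by
            have := j.2
            omega
          rw [hval, hj2, Nat.mod_self, pow_zero, ← pow_succ', hj2, hd]
      · intro b _ hb
        have hSval : ((S : GL (Fin p) F) : Matrix (Fin p) (Fin p) F) = M (fun _ => (1 : F)) (-1) := rfl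
        rw [hSval, M_apply, if_neg, mul_zero]
        intro h
        apply hb
        rw [h]
        abel
      · simp
    refine ⟨V, ?_, ?_⟩
    · have : V⁻¹ * x * V = S := by
        rw [mul_assoc, hrel]
        group
      rw [this]
      exact hSW
    · intro hVN
      have h2 : V⁻¹ ∈ Subgroup.normalizer ((WS (⊤ : AddSubgroup (Fin p)) : Subgroup (GL (Fin p) F)) : Set (GL (Fin p) F)) :=
        Subgroup.inv_mem _ hVN
      have h3 := conj_mem_D hp2 h1 h2 hxD
      have h4 : V⁻¹ * x * V⁻¹⁻¹ = S := by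
        rw [inv_inv, mul_assoc, hrel]
        group
      rw [h4] at h3
      obtain ⟨ε, hε, hSε⟩ := mem_D.1 h3
      have hSval : ((S : GL (Fin p) F) : Matrix (Fin p) (Fin p) F) = M (fun _ => (1 : F)) (-1) := rfl
      rw [hSval] at hSε
      obtain ⟨h5, -⟩ := M_inj hS0 hSε
      have h6 : (1 : Fin p) = 0 := by
        have := congrArg Neg.neg h5
        simpa using this
      have h7 := congrArg Fin.val h6
      rw [Fin.val_one', Fin.val_zero, Nat.mod_eq_of_lt hpr.one_lt] at h7
      omega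
  · -- a repeated eigenvalue
    rw [Function.Injective] at hinj
    push Not at hinj
    obtain ⟨i, j, hij, hne⟩ := hinj
    have hu : Matrix.transvection i j (1 : F) * Matrix.transvection i j (-1 : F) = 1 := by
      rw [Matrix.transvection_mul_transvection_same i j hne, add_neg_cancel, Matrix.transvection_zero]
    set g : GL (Fin p) F := unitOf hu with hg
    have hgval : (g : Matrix (Fin p) (Fin p) F) = Matrix.transvection i j (1 : F) := rfl
    have hent : ∀ a b, (g : Matrix (Fin p) (Fin p) F) a b = (1 : Matrix (Fin p) (Fin p) F) a b + Matrix.single i j (1 : F) a b := by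
      intro a b
      rw [hgval, Matrix.transvection, Matrix.add_apply]
    refine ⟨g, ?_, ?_⟩
    · have h5 : x * g = g * x := by
        apply Units.ext
        rw [Units.val_mul, Units.val_mul, hx]
        ext a b
        rw [M_mul_apply, mul_M_apply]
        by_cases hab : (a, b) = (i, j)
        · obtain ⟨rfl, rfl⟩ := Prod.mk.inj hab
          rw [hij]
          ring
        · by_cases hab2 : a = b
          · subst hab2
            ring
          · have h6 : (g : Matrix (Fin p) (Fin p) F) a b = 0 := by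
              rw [hent, Matrix.one_apply_ne hab2, zero_add, Matrix.single_apply]
              rw [if_neg]
              rintro ⟨rfl, rfl⟩
              exact hab rfl
            rw [h6]
            ring
      rw [mul_assoc, h5]
      have : g⁻¹ * (g * x) = x := by group
      rw [this]
      exact hxW
    · intro hN
      have h5 := offdiag_eq_zero hp2 h1 hN (by
        intro a
        rw [hent, Matrix.one_apply_eq, Matrix.single_apply, if_neg]
        · simp
        · rintro ⟨rfl, h6⟩
          exact hne h6.symm) hne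
      rw [hent, Matrix.one_apply_ne hne, zero_add, Matrix.single_apply, if_pos ⟨rfl, rfl⟩] at h5
      exact one_ne_zero h5

/-- all together: every element of `W` lies in another conjugate -/
theorem exists_conj (hp2 : p ≠ 2) (h1 : p ∣ q - 1) {x : GL (Fin p) F}
    (hx : x ∈ WS (⊤ : AddSubgroup (Fin p))) :
    ∃ g : GL (Fin p) F, g⁻¹ * x * g ∈ WS (⊤ : AddSubgroup (Fin p)) ∧
      g ∉ Subgroup.normalizer ((WS (⊤ : AddSubgroup (Fin p)) : Subgroup (GL (Fin p) F)) : Set (GL (Fin p) F)) := by
  obtain ⟨d, k, hd, hxM⟩ := mem_W.1 hx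
  by_cases hk : k = 0
  · subst hk
    exact case_diag hp2 h1 hd hxM
  · exact case_nondiag hp2 h1 hd hk hxM

/-- the valuation of the order of `GL` -/
lemma val_card (hp2 : p ≠ 2) (h1 : p ∣ q - 1) (h2 : ¬ p ^ 2 ∣ q - 1) :
    padicValNat p (∏ i : Fin p, (q ^ p - q ^ (i : ℕ))) = p + 1 := by
  have hpr : p.Prime := hpp.out
  have hq2 : 2 ≤ q := Fintype.one_lt_card
  have hnd : ¬ p ∣ q := by
    intro h
    have h3 : p ∣ q - (q - 1) := Nat.dvd_sub h h1
    have h4 : q - (q - 1) = 1 := by omega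
    rw [h4] at h3
    exact hpr.one_lt.ne' (Nat.dvd_one.1 h3)
  have hv1 : padicValNat p (q - 1) = 1 := by
    have hne : q - 1 ≠ 0 := by omega
    apply le_antisymm
    · by_contra h3
      push Not at h3
      exact h2 (padicValNat_dvd_iff_le hne |>.2 h3)
    · exact (padicValNat_dvd_iff_le hne).1 (by simpa using h1)
  have hpw : ∀ j : ℕ, j ≠ 0 → padicValNat p (q ^ j - 1) = 1 + padicValNat p j := by
    intro j hj
    have hodd : Odd p := hpr.odd_of_ne_two hp2
    have h3 := padicValNat.pow_sub_pow (p := p) (x := q) (y := 1) hodd (by omega) h1 hnd hj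
    rwa [one_pow, hv1] at h3
  have hsub : ∀ i : ℕ, i < p → q ^ p - q ^ i = q ^ i * (q ^ (p - i) - 1) := by
    intro i hi
    rw [Nat.mul_sub, mul_one, ← pow_add]
    congr 2
    omega
  have hpos : ∀ i : ℕ, i < p → q ^ p - q ^ i ≠ 0 := by
    intro i hi
    have : q ^ i < q ^ p := Nat.pow_lt_pow_right (by omega) hi
    omega
  have hstep : ∀ m : ℕ, m < p → padicValNat p (∏ i ∈ Finset.range (m + 1), (q ^ p - q ^ i)) = m + 2 := by
    intro m
    induction m with
    | zero =>
      intro hm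
      rw [Finset.prod_range_one, pow_zero, hpw p hm.ne', padicValNat_self]
    | succ m ih =>
      intro hm
      rw [Finset.prod_range_succ, padicValNat.mul, ih (by omega), hsub _ hm, padicValNat.mul]
      · have hnd' : ¬ p ∣ q ^ (m + 1) := fun h => hnd (hpr.dvd_of_dvd_pow h)
        have h0 : padicValNat p (q ^ (m + 1)) = 0 := padicValNat.eq_zero_of_not_dvd hnd'
        have h3 : p - (m + 1) ≠ 0 := by omega
        have h4 : padicValNat p (p - (m + 1)) = 0 := by
          apply padicValNat.eq_zero_of_not_dvd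
          intro h5
          have := Nat.le_of_dvd (by omega) h5
          omega
        rw [h0, hpw _ h3, h4]
      · exact pow_ne_zero _ (by omega)
      · have h3 : p - (m + 1) ≠ 0 := by omega
        have : 1 < q ^ (p - (m + 1)) := Nat.one_lt_pow h3 (by omega)
        omega
      · exact Finset.prod_ne_zero_iff.2 (fun i hi => hpos i (by have := Finset.mem_range.1 hi; omega))
      · exact hpos _ hm
  rw [Fin.prod_univ_eq_prod_range (fun i => q ^ p - q ^ i) p]
  have hp1 : p = (p - 1) + 1 := by have := hpr.pos; omega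
  conv_lhs => rw [show Finset.range p = Finset.range ((p - 1) + 1) by rw [← hp1]]
  rw [hstep (p - 1) (by have := hpr.pos; omega)]
  have := hpr.pos
  omega

/-- `W` has index prime to `p` -/
theorem not_dvd_index (hp2 : p ≠ 2) (h1 : p ∣ q - 1) (h2 : ¬ p ^ 2 ∣ q - 1) :
    ¬ p ∣ (WS (F := F) (⊤ : AddSubgroup (Fin p))).index := by
  have hpr : p.Prime := hpp.out
  have hfin : Finite (GL (Fin p) F) := inferInstance
  have h3 := (WS (F := F) (⊤ : AddSubgroup (Fin p))).card_mul_index
  rw [card_W h1, Matrix.card_GL_field] at h3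
  have h4 := val_card (F := F) hp2 h1 h2
  rw [← h3] at h4
  have hne : (WS (F := F) (⊤ : AddSubgroup (Fin p))).index ≠ 0 := Subgroup.index_ne_zero_of_finite
  rw [padicValNat.mul (pow_ne_zero _ hpr.ne_zero) hne, padicValNat.prime_pow] at h4
  have h5 : padicValNat p (WS (F := F) (⊤ : AddSubgroup (Fin p))).index = 0 := by omega
  intro h6
  have h7 := one_le_padicValNat_of_dvd hne h6
  omega

/-- the final statement -/
theorem main (hp2 : p ≠ 2) (h1 : p ∣ q - 1) (h2 : ¬ p ^ 2 ∣ q - 1) :
    ∃ Q : Sylow p (GL (Fin p) F), ∀ x : GL (Fin p) F,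
      (∃ k : ℕ, orderOf x = p ^ k) → ∃ P : Sylow p (GL (Fin p) F), P ≠ Q ∧ x ∈ P := by
  have hfin : Finite (GL (Fin p) F) := inferInstance
  have hpg : IsPGroup p (WS (F := F) (⊤ : AddSubgroup (Fin p))) := by
    rw [IsPGroup.iff_card]
    exact ⟨p + 1, card_W h1⟩
  set Q : Sylow p (GL (Fin p) F) := hpg.toSylow (not_dvd_index hp2 h1 h2) with hQ
  have hQc : ((Q : Sylow p (GL (Fin p) F)) : Subgroup (GL (Fin p) F)) = WS ⊤ := rfl
  refine ⟨Q, ?_⟩
  intro x hx
  by_cases hxQ : x ∈ (Q : Subgroup (GL (Fin p) F))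
  · obtain ⟨g, hg1, hg2⟩ := exists_conj hp2 h1 (show x ∈ WS (⊤ : AddSubgroup (Fin p)) from hxQ)
    refine ⟨g • Q, ?_, ?_⟩
    · intro h
      rw [Sylow.smul_eq_iff_mem_normalizer] at h
      exact hg2 h
    · show x ∈ ((g • Q : Sylow p (GL (Fin p) F)) : Subgroup (GL (Fin p) F))
      rw [Sylow.coe_subgroup_smul]
      refine (Subgroup.mem_smul_pointwise_iff_exists _ _ _).2 ⟨g⁻¹ * x * g, hg1, ?_⟩
      rw [MulAut.smul_def, MulAut.conj_apply]
      group
  · obtain ⟨k, hk⟩ := hx
    have hzp : IsPGroup p (Subgroup.zpowers x) := by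
      rw [IsPGroup.iff_card]
      exact ⟨k, by rw [Nat.card_zpowers, hk]⟩
    obtain ⟨P, hP⟩ := hzp.exists_le_sylow
    refine ⟨P, ?_, hP (Subgroup.mem_zpowers x)⟩
    rintro rfl
    exact hxQ (hP (Subgroup.mem_zpowers x))

end main

end Cfsg.Agent.H20.Mono
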