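import Cfsg.Agent.Lib.H11.SL2T7
import Mathlib

set_option autoImplicit false
set_option linter.unusedVariables false
set_option linter.unusedSectionVars false

namespace Cfsg.Agent.H20.RedSyl

open Matrix Cfsg.Agent.H11.SL2X Cfsg.Agent.H10 Cfsg.Agent.H11.SL2T
open scoped Pointwise

/-- the redundancy property -/
def Red (G : Type*) [Group G] (p : ℕ) [Fact p.Prime] : Prop :=
  ∃ Q : Sylow p G, ∀ x : G, (∃ k : ℕ, orderOf x = p ^ k) → ∃ P : Sylow p G, P ≠ Q ∧ x ∈ P

/-- a `p`-subgroup normalising a Sylow subgroup lies in it -/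
lemma le_of_le_normalizer {G : Type*} [Group G] {p : ℕ} {P : Subgroup G} (hP : IsPGroup p P) (Q : Sylow p G)
    (h : P ≤ Subgroup.normalizer ((Q : Subgroup G) : Set G)) : P ≤ Q := by
  have h2 := hP.inf_normalizer_sylow Q
  have h3 : P ⊓ Subgroup.normalizer (Q : Set G) = P := inf_eq_left.2 h
  rw [h3] at h2
  exact inf_eq_left.1 h2.symm

section transfer

variable {G H : Type*} [Group G] [Group H] [Finite G] {p : ℕ} [Fact p.Prime]
  {f : G →* H} (hf : Function.Surjective f) (hk : f.ker ≤ Subgroup.center G)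

include hk in
/-- an element with image in the image of a Sylow subgroup normalises it -/
lemma mem_normalizer_of_map (P : Sylow p G) {u : G} (hu : f u ∈ (P : Subgroup G).map f) :
    u ∈ Subgroup.normalizer ((P : Subgroup G) : Set G) := by
  obtain ⟨v, hv, hvu⟩ := hu
  have hc : v⁻¹ * u ∈ f.ker := by
    rw [MonoidHom.mem_ker, map_mul, map_inv, hvu, inv_mul_cancel]
  have hcen := hk hc
  have hcomm : ∀ y : G, (v⁻¹ * u) * y = y * (v⁻¹ * u) := fun y =>
    (Subgroup.mem_center_iff.1 hcen y).symm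
  rw [Subgroup.mem_normalizer_iff]
  intro h
  have h1 : u = v * (v⁻¹ * u) := by group
  have h2 : u * h * u⁻¹ = v * h * v⁻¹ := by
    conv_lhs => rw [h1]
    have h3 := hcomm h
    calc v * (v⁻¹ * u) * h * (v * (v⁻¹ * u))⁻¹ = v * ((v⁻¹ * u) * h) * (v⁻¹ * u)⁻¹ * v⁻¹ := by group
      _ = v * (h * (v⁻¹ * u)) * (v⁻¹ * u)⁻¹ * v⁻¹ := by rw [h3]
      _ = v * h * v⁻¹ := by group
  rw [h2]
  constructor
  · intro hh
    exact (P : Subgroup G).mul_mem ((P : Subgroup G).mul_mem hv hh) ((P : Subgroup G).inv_mem hv)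
  · intro hh
    have h4 : h = v⁻¹ * (v * h * v⁻¹) * v := by group
    rw [h4]
    exact (P : Subgroup G).mul_mem ((P : Subgroup G).mul_mem ((P : Subgroup G).inv_mem hv) hh) hv

include hk in
/-- injectivity on Sylow subgroups -/
lemma map_inj (P P' : Sylow p G) (h : (P : Subgroup G).map f = (P' : Subgroup G).map f) : P = P' := by
  have h1 : (P : Subgroup G) ≤ Subgroup.normalizer ((P' : Subgroup G) : Set G) := by
    intro u hu
    apply mem_normalizer_of_map hk P'
    rw [← h]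
    exact ⟨u, hu, rfl⟩
  have h4 : (P : Subgroup G) ≤ P' := le_of_le_normalizer P.isPGroup' P' h1
  exact Sylow.ext (P.is_maximal' P'.isPGroup' h4).symm

include hk in
/-- a `p`-element is in `P` iff its image is in the image of `P` -/
lemma mem_of_map_mem (P : Sylow p G) {x : G} (hx : ∃ k : ℕ, orderOf x = p ^ k)
    (h : f x ∈ (P : Subgroup G).map f) : x ∈ P := by
  have hn := mem_normalizer_of_map hk P h
  obtain ⟨k, hk'⟩ := hx
  have hpg : IsPGroup p (Subgroup.zpowers x) := by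
    rw [IsPGroup.iff_card, Nat.card_zpowers]
    exact ⟨k, hk'⟩
  have h3 : Subgroup.zpowers x ≤ Subgroup.normalizer ((P : Subgroup G) : Set G) := by
    rw [Subgroup.zpowers_le]
    exact hn
  exact le_of_le_normalizer hpg P h3 (Subgroup.mem_zpowers x)

include hf hk in
/-- transfer of redundancy along a central extension -/
theorem red_iff : Red G p ↔ Red H p := by
  have hsurj := Sylow.mapSurjective_surjective hf p
  have : Finite H := Finite.of_surjective f hf
  constructor
  · rintro ⟨Q, hQ⟩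
    refine ⟨Q.mapSurjective hf, ?_⟩
    intro y hy
    obtain ⟨k, hk'⟩ := hy
    -- lift
    have hpg : IsPGroup p (Subgroup.zpowers y) := by
      rw [IsPGroup.iff_card, Nat.card_zpowers]
      exact ⟨k, hk'⟩
    obtain ⟨S, hS⟩ := hpg.exists_le_sylow
    obtain ⟨S', rfl⟩ := hsurj S
    have hyS : y ∈ (S' : Subgroup G).map f := hS (Subgroup.mem_zpowers y)
    obtain ⟨x, hxS, rfl⟩ := hyS
    have hxo : ∃ j : ℕ, orderOf x = p ^ j := by
      have := (IsPGroup.iff_orderOf.1 S'.isPGroup') ⟨x, hxS⟩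
      obtain ⟨j, hj⟩ := this
      exact ⟨j, by rw [← Subgroup.orderOf_mk]; exact hj⟩
    obtain ⟨P, hPQ, hxP⟩ := hQ x hxo
    refine ⟨P.mapSurjective hf, ?_, ⟨x, hxP, rfl⟩⟩
    intro h
    apply hPQ
    apply map_inj hk
    have := congrArg (fun T : Sylow p H => (T : Subgroup H)) h
    simpa using this
  · rintro ⟨Q, hQ⟩
    obtain ⟨Q', rfl⟩ := hsurj Q
    refine ⟨Q', ?_⟩
    intro x hx
    have hfx : ∃ k : ℕ, orderOf (f x) = p ^ k := by
      obtain ⟨k, hk'⟩ := hx
      have hd : orderOf (f x) ∣ p ^ k := by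
        rw [← hk']
        exact orderOf_map_dvd f x
      obtain ⟨j, -, hj⟩ := (Nat.dvd_prime_pow (Fact.out : p.Prime)).1 hd
      exact ⟨j, hj⟩
    obtain ⟨P, hPQ, hxP⟩ := hQ (f x) hfx
    obtain ⟨P', rfl⟩ := hsurj P
    refine ⟨P', ?_, mem_of_map_mem hk P' hx hxP⟩
    rintro rfl
    exact hPQ rfl

end transfer

section sylowlemma

variable {G : Type*} [Group G] [Finite G] {p : ℕ} [Fact p.Prime]

/-- if a central element of `Q` has commutative centraliser then `Q` is the only Sylow subgroup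
containing it -/
lemma eq_of_comm_centralizer (Q P : Sylow p G) {z : G} (hzQ : z ∈ Q)
    (hzc : ∀ y ∈ (Q : Subgroup G), y * z = z * y)
    (hcomm : ∀ a b : G, a * z = z * a → b * z = z * b → a * b = b * a)
    (hzP : z ∈ P) : P = Q := by
  obtain ⟨g, rfl⟩ := MulAction.exists_smul_eq G Q P
  have hQab : ∀ a ∈ (Q : Subgroup G), ∀ b ∈ (Q : Subgroup G), a * b = b * a := fun a ha b hb =>
    hcomm a b (hzc a ha) (hzc b hb)
  have hPeq : ∀ a ∈ ((g • Q : Sylow p G) : Subgroup G), a * z = z * a := by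
    intro a ha
    have hzP' : z ∈ ((g • Q : Sylow p G) : Subgroup G) := hzP
    rw [Sylow.coe_subgroup_smul] at ha hzP'
    obtain ⟨s, hs, rfl⟩ := (Subgroup.mem_smul_pointwise_iff_exists _ _ _).1 ha
    obtain ⟨s', hs', hz⟩ := (Subgroup.mem_smul_pointwise_iff_exists _ _ _).1 hzP'
    rw [← hz]
    simp only [MulAut.smul_def, MulAut.conj_apply]
    have := hQab s hs s' hs'
    calc g * s * g⁻¹ * (g * s' * g⁻¹) = g * (s * s') * g⁻¹ := by group
      _ = g * (s' * s) * g⁻¹ := by rw [this]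
      _ = _ := by group
  have hle : ((g • Q : Sylow p G) : Subgroup G) ≤ Subgroup.normalizer ((Q : Subgroup G) : Set G) := by
    intro a ha
    rw [Subgroup.mem_normalizer_iff]
    intro h
    constructor
    · intro hh
      have h3 : a * h * a⁻¹ = h := by
        have := hcomm a h (hPeq a ha) (hzc h hh)
        rw [this]; group
      rw [h3]; exact hh
    · intro hh
      have h1 := hzc _ hh
      have h2 := hcomm a _ (hPeq a ha) h1
      have h3 : h = a⁻¹ * (a * h * a⁻¹) * a := by group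
      rw [h3]
      have h4 : a⁻¹ * (a * h * a⁻¹) = (a * h * a⁻¹) * a⁻¹ := by
        have h5 : a * (a * h * a⁻¹) = (a * h * a⁻¹) * a := h2
        calc a⁻¹ * (a * h * a⁻¹) = a⁻¹ * ((a * h * a⁻¹) * a) * a⁻¹ := by group
          _ = a⁻¹ * (a * (a * h * a⁻¹)) * a⁻¹ := by rw [h5]
          _ = _ := by group
      rw [h4]
      have h6 : a * h * a⁻¹ * a⁻¹ * a = a * h * a⁻¹ := by group
      rw [h6]
      exact hh
  have h4 : ((g • Q : Sylow p G) : Subgroup G) ≤ Q := le_of_le_normalizer (g • Q : Sylow p G).isPGroup' Q hle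
  exact Sylow.ext ((g • Q : Sylow p G).is_maximal' Q.isPGroup' h4).symm

end sylowlemma

section sl2

variable {F : Type*} [Field F] [Fintype F]

local notation "q" => Fintype.card F

lemma pr_pow_aux (x : SL2 F) (n : ℕ) : pr (x ^ n) = (pr x) ^ n := rfl

/-- all Sylow subgroups trivial if one is -/
lemma sylow_eq_of_bot {G : Type*} [Group G] [Finite G] {p : ℕ} [Fact p.Prime] (Q P : Sylow p G)
    (h : (Q : Subgroup G) = ⊥) : P = Q := by
  obtain ⟨g, rfl⟩ := MulAction.exists_smul_eq G Q P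
  apply Sylow.ext
  rw [Sylow.coe_subgroup_smul, h]
  simp

/-- the first half of the forward direction -/
theorem red_imp {p : ℕ} [Fact p.Prime] (h : Red (SL2 F) p) : p = 2 ∧ (2 : F) ≠ 0 := by
  have hp : p.Prime := Fact.out
  obtain ⟨Q, hQ⟩ := h
  by_contra hcon
  have hQbot : (Q : Subgroup (SL2 F)) ≠ ⊥ := by
    intro h0
    obtain ⟨P, hPQ, -⟩ := hQ 1 ⟨0, by simp⟩
    exact hPQ (sylow_eq_of_bot Q P h0)
  have hnt : Nontrivial (Q : Subgroup (SL2 F)) := by
    rw [Subgroup.nontrivial_iff_ne_bot]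
    exact hQbot
  have hct : Nontrivial (Subgroup.center (Q : Subgroup (SL2 F))) := Q.isPGroup'.center_nontrivial
  have hpg : IsPGroup p (Subgroup.center (Q : Subgroup (SL2 F))) := Q.isPGroup'.to_subgroup _
  have hdv : p ∣ Nat.card (Subgroup.center (Q : Subgroup (SL2 F))) := by
    obtain ⟨n, hn⟩ := IsPGroup.iff_card.1 hpg
    rw [hn]
    rcases n with _ | n
    · exfalso
      simp only [pow_zero] at hn
      have := Finite.one_lt_card (α := Subgroup.center (Q : Subgroup (SL2 F)))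
      omega
    · exact dvd_pow_self p (by omega)
  obtain ⟨z0, hz0⟩ := exists_prime_orderOf_dvd_card' p hdv
  set z : SL2 F := ((z0 : (Q : Subgroup (SL2 F))) : SL2 F) with hz
  have hzo : orderOf z = p := by
    rw [hz, Subgroup.orderOf_coe, Subgroup.orderOf_coe, hz0]
  have hzQ : z ∈ (Q : Subgroup (SL2 F)) := (z0 : (Q : Subgroup (SL2 F))).2
  have hzc : ∀ y ∈ (Q : Subgroup (SL2 F)), y * z = z * y := by
    intro y hy
    have h1 := Subgroup.mem_center_iff.1 z0.2 ⟨y, hy⟩
    have h2 := congrArg (fun u : (Q : Subgroup (SL2 F)) => (u : SL2 F)) h1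
    exact h2
  have hNS : NS (z : M2 F) := by
    rintro ⟨r, hr⟩
    have hr2 := scalar_sq hr
    have hz2 : z ^ 2 = 1 := by
      apply Subtype.ext
      rw [Matrix.SpecialLinearGroup.coe_pow, hr, Matrix.SpecialLinearGroup.coe_one, smul_pow, hr2]
      simp
    have hd : p ∣ 2 := by
      rw [← hzo]
      exact orderOf_dvd_of_pow_eq_one hz2
    have hp2 : p = 2 := (Nat.prime_dvd_prime_iff_eq hp Nat.prime_two).1 hd
    have h20 : (2 : F) = 0 := by
      by_contra h21
      exact hcon ⟨hp2, h21⟩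
    have hr1 : r = 1 := by
      rcases r_cases hr2 with h | h
      · exact h
      · rw [h]
        linear_combination -h20
    have hz1 : z = 1 := by
      apply Subtype.ext
      rw [hr, hr1, Matrix.SpecialLinearGroup.coe_one, one_smul]
    rw [hz1, orderOf_one] at hzo
    exact hp.one_lt.ne hzo
  obtain ⟨P, hPQ, hzP⟩ := hQ z ⟨1, by rw [hzo, pow_one]⟩
  apply hPQ
  refine eq_of_comm_centralizer Q P hzQ hzc ?_ hzP
  intro a b ha hb
  have ha' : a ∈ CM (z : M2 F) := by
    rw [mem_CM, ← Matrix.SpecialLinearGroup.coe_mul, ha, Matrix.SpecialLinearGroup.coe_mul]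
  have hb' : b ∈ CM (z : M2 F) := by
    rw [mem_CM, ← Matrix.SpecialLinearGroup.coe_mul, hb, Matrix.SpecialLinearGroup.coe_mul]
  exact CM_comm hNS ha' hb'

/-- the second half of the forward direction -/
theorem no_red_core (h2 : (2 : F) ≠ 0) {v : F} (hv : v ≠ 0)
    (hcyc : ∀ M : M2 F, M.trace = 0 → M.det = -v → NS M → IsCyclic (CM M)) {m o k : ℕ}
    (hm : Nat.card (conic (0 : F) (-v)) = m) (hk : m = 2 ^ k) (hd : q * (q ^ 2 - 1) = m * (2 * o))
    (ho : o % 2 = 1) (h4 : 4 ≤ m) : ¬ Red (SL2 F) 2 := by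
  rintro ⟨Q, hQ⟩
  have hG : Nat.card (SL2 F) = m * (2 * o) := by rw [← hd]; exact card_SL_two
  have hmpos : 0 < m := by omega
  have hcT : Nat.card (CM (Mn v)) = m := by
    rw [card_CM _ (Mn_ns v), Mn_trace, Mn_det, hm]
  have hdet0 : (Mn v).det ≠ 0 := by rw [Mn_det]; exact neg_ne_zero.2 hv
  obtain ⟨w0, hw0⟩ := exists_anti_Mn h2 hv
  have hex0 : ∃ g ∈ CM (Mn v), NS (g : M2 F) := exists_ns_mem (Mn_ns v) (by omega)
  have hN0 := card_normalizer_CM h2 (Mn_ns v) (Mn_trace v) hdet0 hex0 hw0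
  rw [hcT] at hN0
  set N0 : Subgroup (SL2 F) := Subgroup.normalizer ((CM (Mn v) : Subgroup (SL2 F)) : Set (SL2 F)) with hN0def
  have hi0 : N0.index = o := by
    have h1 := N0.card_mul_index
    rw [hN0, hG] at h1
    have h5 : (2 * m) * N0.index = (2 * m) * o := by
      rw [h1]; ring
    exact Nat.eq_of_mul_eq_mul_left (by omega) h5
  have hpg0 : IsPGroup 2 N0 := by
    rw [IsPGroup.iff_card, hN0, hk]
    exact ⟨k + 1, by ring⟩
  have hidx : ¬ 2 ∣ N0.index := by
    rw [hi0]; omega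
  set S0 : Sylow 2 (SL2 F) := hpg0.toSylow hidx with hS0
  have hS0c : ((S0 : Sylow 2 (SL2 F)) : Subgroup (SL2 F)) = N0 := rfl
  have hcardS : ∀ P : Sylow 2 (SL2 F), Nat.card (P : Subgroup (SL2 F)) = 2 * m := by
    intro P
    rw [Nat.card_congr (P.equiv S0).toEquiv, hS0c, hN0]
  obtain ⟨h, rfl⟩ := MulAction.exists_smul_eq (SL2 F) S0 Q
  set M' := conjM h (Mn v) with hM'
  have hNS : NS M' := conjM_ns h (Mn_ns v)
  have htr : M'.trace = 0 := by rw [hM', conjM_trace, Mn_trace]
  have hdt : M'.det = -v := by rw [hM', conjM_det, Mn_det]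
  have hdet : M'.det ≠ 0 := by rw [hdt]; exact neg_ne_zero.2 hv
  have hsub : ((h • S0 : Sylow 2 (SL2 F)) : Subgroup (SL2 F)) ≤
      Subgroup.normalizer ((CM M' : Subgroup (SL2 F)) : Set (SL2 F)) := by
    rw [Sylow.coe_subgroup_smul]
    intro u hu
    obtain ⟨s, hs, rfl⟩ := (Subgroup.mem_smul_pointwise_iff_exists _ _ _).1 hu
    rw [MulAut.smul_def, MulAut.conj_apply]
    exact conj_mem_normalizer h _ hs
  have hcard : Nat.card (CM M') = m := by
    rw [card_CM _ hNS, htr, hdt, hm]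
  have hex : ∃ g ∈ CM M', NS (g : M2 F) := exists_ns_mem hNS (by omega)
  have hcy := hcyc M' htr hdt hNS
  obtain ⟨w', hw'⟩ := exists_anti_Mn h2 hv
  have hw'' := conj_anti h hw'
  have hNc := card_normalizer_CM h2 hNS htr hdet hex hw''
  rw [hcard] at hNc
  -- every Sylow subgroup inside the normaliser equals it
  have heq : ∀ P : Sylow 2 (SL2 F), (P : Subgroup (SL2 F)) ≤
      Subgroup.normalizer ((CM M' : Subgroup (SL2 F)) : Set (SL2 F)) →
      (P : Subgroup (SL2 F)) = Subgroup.normalizer ((CM M' : Subgroup (SL2 F)) : Set (SL2 F)) := by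
    intro P hP
    apply Subgroup.eq_of_le_of_card_ge hP
    rw [hcardS, hNc]
  -- generator
  obtain ⟨g0, hg0⟩ := IsCyclic.exists_generator (α := CM M')
  have hgo : orderOf (g0 : SL2 F) = 2 ^ k := by
    rw [Subgroup.orderOf_coe, orderOf_eq_card_of_forall_mem_zpowers hg0, hcard, hk]
  obtain ⟨P, hPQ, hgP⟩ := hQ (g0 : SL2 F) ⟨k, hgo⟩
  have hTP : CM M' ≤ (P : Subgroup (SL2 F)) := by
    intro y hy
    obtain ⟨n, hn⟩ := hg0 ⟨y, hy⟩
    have h5 : y = (g0 : SL2 F) ^ n := by
      have := congrArg (fun u : CM M' => (u : SL2 F)) hn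
      simpa using this.symm
    rw [h5]
    exact (P : Subgroup (SL2 F)).zpow_mem hgP n
  have hPN : (P : Subgroup (SL2 F)) ≤ Subgroup.normalizer ((CM M' : Subgroup (SL2 F)) : Set (SL2 F)) := by
    have hi2 : ((CM M').subgroupOf (P : Subgroup (SL2 F))).index = 2 := by
      have h1 := ((CM M').subgroupOf (P : Subgroup (SL2 F))).card_mul_index
      have h3 : Nat.card ((CM M').subgroupOf (P : Subgroup (SL2 F))) = m := by
        rw [← hcard]
        exact Nat.card_congr (Subgroup.subgroupOfEquivOfLe hTP).toEquiv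
      rw [h3, hcardS P] at h1
      have h5 : m * ((CM M').subgroupOf (P : Subgroup (SL2 F))).index = m * 2 := by
        rw [h1]; ring
      exact Nat.eq_of_mul_eq_mul_left hmpos h5
    have hnorm := Subgroup.normal_of_index_eq_two hi2
    intro a ha
    rw [Subgroup.mem_normalizer_iff]
    intro y
    constructor
    · intro hy
      have h5 := hnorm.conj_mem ⟨y, hTP hy⟩ (by simpa [Subgroup.mem_subgroupOf] using hy) ⟨a, ha⟩
      simpa [Subgroup.mem_subgroupOf] using h5
    · intro hy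
      have h5 := hnorm.conj_mem ⟨a * y * a⁻¹, hTP hy⟩ (by simpa [Subgroup.mem_subgroupOf] using hy) ⟨a⁻¹, (P : Subgroup (SL2 F)).inv_mem ha⟩
      have h6 : a⁻¹ * (a * y * a⁻¹) * a = y := by group
      simpa [Subgroup.mem_subgroupOf, h6] using h5
  apply hPQ
  apply Sylow.ext
  rw [heq P hPN, heq _ hsub]

/-- the main step of the backward direction -/
theorem exists_other_sylow (h2 : (2 : F) ≠ 0) (Q : Sylow 2 (SL2 F)) {x : SL2 F}
    (hxQ : x ∈ (Q : Subgroup (SL2 F))) (hNS : NS (x : M2 F)) (hxo : ∃ k : ℕ, orderOf x = 2 ^ k)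
    (hq1 : ¬ ∃ k : ℕ, q + 1 = 2 ^ k) (hq2 : ¬ ∃ k : ℕ, q = 2 ^ k + 1) :
    ∃ P : Sylow 2 (SL2 F), P ≠ Q ∧ x ∈ P := by
  have hq2' : 2 ≤ q := Fintype.one_lt_card
  have hqodd : q % 2 = 1 := by
    have := mt (two_zero_iff (F := F)).2 h2
    omega
  have hdx : (x : M2 F).det = 1 := x.2
  set t : F := (x : M2 F).trace with ht
  -- the trace is not `± 2`
  have ht4 : t ^ 2 ≠ 4 := by
    intro h4
    obtain ⟨c, hc⟩ := CharP.exists F
    have hcp : c.Prime := by
      rcases CharP.char_is_prime_or_zero F c with h | h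
      · exact h
      · subst h
        exact absurd hc (by
          intro hc0
          exact CharP.ringChar_ne_zero_of_finite F (by rw [ringChar.eq F 0]))
    have : Fact c.Prime := ⟨hcp⟩
    have h5 := pow_p_of_trace_sq c h4
    obtain ⟨k, hk⟩ := hxo
    have h6 : (pr x) ^ (2 ^ k) = 1 := by
      rw [← pr_pow_aux x (2 ^ k), ← hk, pow_orderOf_eq_one]
      rfl
    have hc2 : c ≠ 2 := by
      rintro rfl
      apply h2
      have := CharP.cast_eq_zero F 2
      exact_mod_cast this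
    have hcop : Nat.Coprime c (2 ^ k) := by
      apply Nat.Coprime.pow_right
      exact (Nat.coprime_primes hcp Nat.prime_two).2 hc2
    have h7 : pr x = 1 := by
      have h8 := pow_gcd_eq_one.2 ⟨h5, h6⟩
      rw [hcop] at h8
      simpa using h8
    obtain ⟨r, -, hr⟩ := pr_eq_one_iff.1 h7
    exact hNS ⟨r, hr⟩
  -- size of the centraliser
  have hcard : Nat.card (CM (x : M2 F)) = q + 1 ∨ Nat.card (CM (x : M2 F)) = q - 1 := by
    rw [card_CM _ hNS, hdx]
    rcases trichotomy t with h | ⟨l, hl, hl2, hlt⟩ | ⟨e, he, hte⟩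
    · left
      exact card_conic_aniso h
    · right
      rw [← ht, hlt]
      exact card_conic_split hl hl2
    · exfalso
      apply ht4
      rw [hte]
      linear_combination 4 * he
  -- an odd prime
  have hn : ∃ r : ℕ, r.Prime ∧ r ≠ 2 ∧ r ∣ Nat.card (CM (x : M2 F)) := by
    rcases Nat.eq_two_pow_or_exists_odd_prime_and_dvd (Nat.card (CM (x : M2 F))) with ⟨k, hk⟩ | ⟨r, hr, hrd, hr2⟩
    · exfalso
      rcases hcard with h | h
      · exact hq1 ⟨k, by omega⟩
      · exact hq2 ⟨k, by omega⟩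
    · exact ⟨r, hr, by intro h; subst h; exact absurd hr2 (by decide), hrd⟩
  obtain ⟨r, hr, hr2, hrd⟩ := hn
  have : Fact r.Prime := ⟨hr⟩
  obtain ⟨y0, hy0⟩ := exists_prime_orderOf_dvd_card' r hrd
  set y : SL2 F := (y0 : SL2 F) with hy
  have hyo : orderOf y = r := by
    rw [hy, Subgroup.orderOf_coe, hy0]
  have hyx : y ∈ CM (x : M2 F) := y0.2
  have hyx' : y * x = x * y := by
    apply Subtype.ext
    exact hyx
  refine ⟨y • Q, ?_, ?_⟩
  swap
  · have : x = y * x * y⁻¹ := by rw [hyx']; group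
    rw [this]
    show y * x * y⁻¹ ∈ ((y • Q : Sylow 2 (SL2 F)) : Subgroup (SL2 F))
    rw [Sylow.coe_subgroup_smul]
    exact (Subgroup.mem_smul_pointwise_iff_exists _ _ _).2 ⟨x, hxQ, rfl⟩
  intro hyQ
  -- `y` normalises `Q`
  have hyn : ∀ a ∈ (Q : Subgroup (SL2 F)), y * a * y⁻¹ ∈ (Q : Subgroup (SL2 F)) := by
    intro a ha
    have h5 : y * a * y⁻¹ ∈ ((y • Q : Sylow 2 (SL2 F)) : Subgroup (SL2 F)) := by
      rw [Sylow.coe_subgroup_smul]
      exact (Subgroup.mem_smul_pointwise_iff_exists _ _ _).2 ⟨a, ha, rfl⟩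
    rw [hyQ] at h5
    exact h5
  -- `Q` is not in the torus
  have hG : Nat.card (SL2 F) = q * (q - 1) * (q + 1) := by
    rw [card_SL_two]
    exact N_eq q (by omega)
  have hnle : ¬ (Q : Subgroup (SL2 F)) ≤ CM (x : M2 F) := by
    intro hle
    have hdv : Nat.card (Q : Subgroup (SL2 F)) ∣ Nat.card (CM (x : M2 F)) :=
      Subgroup.card_dvd_of_le hle
    have h6 := (Q : Subgroup (SL2 F)).card_mul_index
    obtain ⟨c, hc⟩ := hdv
    have hcQ : 0 < Nat.card (Q : Subgroup (SL2 F)) := Nat.card_pos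
    apply Q.not_dvd_index
    rcases hcard with h | h
    · rw [hc] at h
      have h7 : (Q : Subgroup (SL2 F)).index = q * (q - 1) * c := by
        apply Nat.eq_of_mul_eq_mul_left hcQ
        rw [h6, hG, ← h]
        ring
      rw [h7]
      obtain ⟨d, hd⟩ : 2 ∣ q - 1 := ⟨q / 2, by omega⟩
      rw [hd]
      exact ⟨q * d * c, by ring⟩
    · rw [hc] at h
      have h7 : (Q : Subgroup (SL2 F)).index = q * (q + 1) * c := by
        apply Nat.eq_of_mul_eq_mul_left hcQ
        rw [h6, hG, ← h]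
        ring
      rw [h7]
      obtain ⟨d, hd⟩ : 2 ∣ q + 1 := ⟨q / 2 + 1, by omega⟩
      rw [hd]
      exact ⟨q * d * c, by ring⟩
  -- normaliser condition
  have hnil : Group.IsNilpotent (Q : Subgroup (SL2 F)) := Q.isPGroup'.isNilpotent
  have hnc := Group.normalizerCondition_of_isNilpotent (G := (Q : Subgroup (SL2 F)))
  set B : Subgroup (Q : Subgroup (SL2 F)) := (CM (x : M2 F)).subgroupOf (Q : Subgroup (SL2 F)) with hB
  have hBlt : B < ⊤ := by
    rw [lt_top_iff_ne_top]
    intro h5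
    apply hnle
    rw [hB, Subgroup.subgroupOf_eq_top] at h5
    exact h5
  obtain ⟨w0, hw0, hw0B⟩ := SetLike.exists_of_lt (hnc B hBlt)
  set w : SL2 F := (w0 : SL2 F) with hw
  have hwQ : w ∈ (Q : Subgroup (SL2 F)) := w0.2
  have hwT : w ∉ CM (x : M2 F) := by
    intro h5
    apply hw0B
    rw [hB, Subgroup.mem_subgroupOf]
    exact h5
  have hxB : (⟨x, hxQ⟩ : (Q : Subgroup (SL2 F))) ∈ B := by
    rw [hB, Subgroup.mem_subgroupOf]
    exact (rfl : (x : M2 F) * x = x * x)
  have hconj : w * x * w⁻¹ ∈ CM (x : M2 F) := by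
    have h5 := (Subgroup.mem_normalizer_iff.1 hw0 _).1 hxB
    rw [hB, Subgroup.mem_subgroupOf] at h5
    exact h5
  obtain ⟨a, b, hab⟩ := (mem_CM_iff hNS).1 hconj
  have htr1 : 2 * a + b * t = t := by
    have h5 := trace_lin (x : M2 F) a b
    rw [← hab] at h5
    have h6 : ((w * x * w⁻¹ : SL2 F) : M2 F) = conjM w (x : M2 F) := by
      simp [conjM]
    rw [h6, conjM_trace] at h5
    exact h5.symm
  have hdet1 : a ^ 2 + a * b * t + b ^ 2 = 1 := by
    have h5 := det_lin (x : M2 F) a b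
    rw [← hab, (w * x * w⁻¹).2, hdx] at h5
    rw [h5]
    ring
  have hb2 : (t ^ 2 - 4) * (1 - b ^ 2) = 0 := by
    have h5 : 2 * a = t * (1 - b) := by linear_combination htr1
    have h6 : (2 * a) ^ 2 + 2 * (2 * a) * b * t + 4 * b ^ 2 = 4 := by linear_combination 4 * hdet1
    rw [h5] at h6
    linear_combination h6
  have hb2' : b ^ 2 = 1 := by
    rcases mul_eq_zero.1 hb2 with h5 | h5
    · exfalso
      apply ht4
      linear_combination h5
    · linear_combination -h5
  have hw_x_w : (w : M2 F) * x = (lin (x : M2 F) a b) * w := by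
    have h5 : ((w * x : SL2 F) : M2 F) = ((w * x * w⁻¹ * w : SL2 F) : M2 F) := by
      have h50 : w * x * w⁻¹ * w = w * x := by group
      rw [h50]
    rw [Matrix.SpecialLinearGroup.coe_mul (w * x * w⁻¹) w, hab, Matrix.SpecialLinearGroup.coe_mul w x] at h5
    exact h5
  rcases r_cases hb2' with hb | hb
  · -- `w` commutes with `x`
    exfalso
    apply hwT
    have ha : a = 0 := by
      have h5 : 2 * a = 0 := by rw [hb] at htr1; linear_combination htr1
      exact (mul_eq_zero.1 h5).resolve_left h2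
    rw [mem_CM, hw_x_w, ha, hb]
    simp [lin]
  · -- `w` inverts the torus
    have ha : a = t := by
      have h5 : 2 * (a - t) = 0 := by rw [hb] at htr1; linear_combination htr1
      have h6 := (mul_eq_zero.1 h5).resolve_left h2
      linear_combination h6
    rw [ha, hb] at hw_x_w
    -- the traceless companion
    set M : M2 F := lin (x : M2 F) (-(t / 2)) 1 with hMdef
    have hMx : (x : M2 F) = M + (t / 2) • 1 := by
      rw [hMdef]
      simp [lin]
    have hMNS : NS M := by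
      rintro ⟨r', hr'⟩
      apply hNS
      refine ⟨r' + t / 2, ?_⟩
      rw [hMx, hr', add_smul]
    have hMtr : M.trace = 0 := by
      rw [hMdef, trace_lin]
      have h5 : (2 : F) * (t / 2) = t := by field_simp
      rw [← ht]
      linear_combination -h5
    have hyM : y ∈ CM M := by
      rw [mem_CM, hMdef]
      simp only [lin, Matrix.mul_add, Matrix.add_mul, Matrix.mul_smul, Matrix.smul_mul, Matrix.mul_one, Matrix.one_mul]
      rw [one_smul, one_smul]
      have h5 : (y : M2 F) * x = x * y := hyx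
      rw [h5]
    have hanti : (w : M2 F) * M = - (M * w) := by
      have h5 : lin (x : M2 F) t (-1) = - M + (t / 2) • 1 := by
        rw [hMdef]
        have h6 : t = t / 2 + t / 2 := by field_simp; ring
        simp only [lin, one_smul, neg_smul, neg_add, neg_neg]
        have h7 : t • (1 : M2 F) = (t / 2) • 1 + (t / 2) • 1 := by
          rw [← add_smul, ← h6]
        rw [h7]
        abel
      calc (w : M2 F) * M = (w : M2 F) * (x : M2 F) - (t / 2) • (w : M2 F) := by
            rw [hMx]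
            simp [Matrix.mul_add]
        _ = (- M + (t / 2) • 1) * w - (t / 2) • (w : M2 F) := by rw [hw_x_w, h5]
        _ = - (M * w) := by
            simp [Matrix.add_mul]
    have hinv := anti_inverts hMNS hMtr hanti hyM
    -- conclusion
    have h5 : y⁻¹ * y⁻¹ ∈ (Q : Subgroup (SL2 F)) := by
      have h6 : y⁻¹ * y⁻¹ = w * (y * w⁻¹ * y⁻¹) := by
        rw [← hinv]
        group
      rw [h6]
      exact (Q : Subgroup (SL2 F)).mul_mem hwQ (hyn _ ((Q : Subgroup (SL2 F)).inv_mem hwQ))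
    have h6 : ∃ j : ℕ, orderOf (y⁻¹ * y⁻¹) = 2 ^ j := by
      obtain ⟨j, hj⟩ := (IsPGroup.iff_orderOf.1 Q.isPGroup') ⟨_, h5⟩
      exact ⟨j, by rw [← Subgroup.orderOf_mk]; exact hj⟩
    obtain ⟨j, hj⟩ := h6
    have h7 : (y⁻¹ * y⁻¹) ^ r = 1 := by
      have h8 : y ^ r = 1 := by rw [← hyo]; exact pow_orderOf_eq_one y
      have h9 : y⁻¹ * y⁻¹ = (y⁻¹) ^ 2 := (pow_two _).symm
      rw [h9, ← pow_mul, mul_comm, pow_mul, inv_pow, h8]
      simp
    have h8 : 2 ^ j ∣ r := by
      rw [← hj]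
      exact orderOf_dvd_of_pow_eq_one h7
    have hr_odd : Nat.Coprime 2 r := (Nat.coprime_primes Nat.prime_two hr).2 (Ne.symm hr2)
    have h9 : 2 ^ j = 1 := Nat.Coprime.eq_one_of_dvd (Nat.Coprime.pow_left _ hr_odd) h8
    rw [h9, orderOf_eq_one_iff] at hj
    have h10 : y ^ 2 = 1 := by
      have h11 : (y ^ 2)⁻¹ = y⁻¹ * y⁻¹ := by
        rw [pow_two, _root_.mul_inv_rev]
      rw [← _root_.inv_inj, h11, hj]
      simp
    have h11 : r ∣ 2 := by
      rw [← hyo]
      exact orderOf_dvd_of_pow_eq_one h10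
    exact hr2 ((Nat.prime_dvd_prime_iff_eq hr Nat.prime_two).1 h11)

/-- backward direction -/
theorem red_of (h2 : (2 : F) ≠ 0) (hq1 : ¬ ∃ k : ℕ, q + 1 = 2 ^ k) (hq2 : ¬ ∃ k : ℕ, q = 2 ^ k + 1) :
    Red (SL2 F) 2 := by
  have hq2' : 2 ≤ q := Fintype.one_lt_card
  have hqodd : q % 2 = 1 := by
    have := mt (two_zero_iff (F := F)).2 h2
    omega
  have hG : Nat.card (SL2 F) = q * (q - 1) * (q + 1) := by
    rw [card_SL_two]
    exact N_eq q (by omega)
  obtain ⟨Q⟩ := (inferInstance : Nonempty (Sylow 2 (SL2 F)))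
  refine ⟨Q, ?_⟩
  -- a non scalar element of `Q`
  have hNSex : ∃ x0 ∈ (Q : Subgroup (SL2 F)), NS (x0 : M2 F) := by
    by_contra hcon
    push Not at hcon
    have h4 : 2 ^ 2 ∣ Nat.card (SL2 F) := by
      rw [hG]
      obtain ⟨d, hd⟩ : 2 ∣ q - 1 := ⟨q / 2, by omega⟩
      obtain ⟨e, he⟩ : 2 ∣ q + 1 := ⟨q / 2 + 1, by omega⟩
      rw [hd, he]
      exact ⟨q * d * e, by ring⟩
    have h5 := Sylow.pow_dvd_card_of_pow_dvd_card Q h4
    have hle : Nat.card (Q : Subgroup (SL2 F)) ≤ 2 := by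
      have hsub : ((Q : Subgroup (SL2 F)) : Set (SL2 F)) ⊆
          {1, sc ⟨-1, by ring⟩} := by
        intro u hu
        have h6 := hcon u hu
        obtain ⟨s, rfl⟩ := not_ns_iff.1 h6
        rcases r_cases s.2 with h7 | h7
        · left
          apply Subtype.ext
          rw [sc_val, h7]
          simp
        · right
          have : s = ⟨-1, by ring⟩ := Subtype.ext h7
          rw [this]
          rfl
      have h6 := Set.ncard_le_ncard hsub (Set.toFinite _)
      rw [← Nat.card_coe_set_eq] at h6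
      exact h6.trans (Set.ncard_insert_le _ _ |>.trans (by simp))
    have := Nat.le_of_dvd Nat.card_pos h5
    omega
  obtain ⟨x0, hx0Q, hx0NS⟩ := hNSex
  have hx0o : ∃ k : ℕ, orderOf x0 = 2 ^ k := by
    obtain ⟨j, hj⟩ := (IsPGroup.iff_orderOf.1 Q.isPGroup') ⟨_, hx0Q⟩
    exact ⟨j, by rw [← Subgroup.orderOf_mk]; exact hj⟩
  intro x hx
  by_cases hxQ : x ∈ (Q : Subgroup (SL2 F))
  · by_cases hNS : NS (x : M2 F)
    · exact exists_other_sylow h2 Q hxQ hNS hx hq1 hq2
    · obtain ⟨P, hPQ, -⟩ := exists_other_sylow h2 Q hx0Q hx0NS hx0o hq1 hq2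
      refine ⟨P, hPQ, ?_⟩
      obtain ⟨s, rfl⟩ := not_ns_iff.1 hNS
      obtain ⟨g, rfl⟩ := MulAction.exists_smul_eq (SL2 F) Q P
      show sc s ∈ ((g • Q : Sylow 2 (SL2 F)) : Subgroup (SL2 F))
      rw [Sylow.coe_subgroup_smul]
      refine (Subgroup.mem_smul_pointwise_iff_exists _ _ _).2 ⟨sc s, hxQ, ?_⟩
      rw [MulAut.smul_def, MulAut.conj_apply, ← sc_comm]
      group
  · obtain ⟨k, hk⟩ := hx
    have hpg : IsPGroup 2 (Subgroup.zpowers x) := by
      rw [IsPGroup.iff_card, Nat.card_zpowers]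
      exact ⟨k, hk⟩
    obtain ⟨S, hS⟩ := hpg.exists_le_sylow
    refine ⟨S, ?_, hS (Subgroup.mem_zpowers x)⟩
    rintro rfl
    exact hxQ (hS (Subgroup.mem_zpowers x))

/-- the characterisation for `SL₂` -/
theorem red_sl2_iff (p : ℕ) [Fact p.Prime] :
    Red (SL2 F) p ↔ (p = 2 ∧ (¬ ∃ k : ℕ, q + 1 = 2 ^ k) ∧ (¬ ∃ k : ℕ, q = 2 ^ k) ∧
        ¬ ∃ k : ℕ, q = 2 ^ k + 1) := by
  have hq2' : 2 ≤ q := Fintype.one_lt_card
  constructor
  · intro h
    obtain ⟨rfl, h2⟩ := red_imp h
    have hqodd : q % 2 = 1 := by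
      have := mt (two_zero_iff (F := F)).2 h2
      omega
    have hA : ¬ ∃ k : ℕ, q + 1 = 2 ^ k := by
      rintro ⟨k, hk⟩
      have hk2 : 2 ≤ k := by
        rcases k with _ | _ | k
        · exfalso; rw [pow_zero] at hk; omega
        · exfalso; rw [zero_add, pow_one] at hk; omega
        · omega
      obtain ⟨c, rfl⟩ : ∃ c, k = c + 2 := ⟨k - 2, by omega⟩
      have hq3 : q + 1 = 4 * 2 ^ c := by rw [hk]; ring
      obtain ⟨a, ha⟩ : ∃ a, q = 4 * a + 3 := ⟨q / 4, by omega⟩
      obtain ⟨v, hv⟩ := exists_nonsq h2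
      have hv0 : v ≠ 0 := by
        rintro rfl
        exact hv IsSquare.zero
      refine no_red_core h2 hv0 (fun M h3 h5 h6 => isCyclic_CM (by rw [h3, h5]; exact aniso_Mn hv))
        (m := q + 1) (o := q * (2 * a + 1)) (k := c + 2) (card_conic_aniso (aniso_Mn hv)) hk ?_ ?_ ?_ h
      · rw [N_eq q (by omega)]
        have h5 : q - 1 = 2 * (2 * a + 1) := by omega
        rw [h5]
        ring
      · rw [Nat.mul_mod, Nat.add_mod, Nat.mul_mod 2 a]
        simp [hqodd]
      · omega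
    have hB : ¬ ∃ k : ℕ, q = 2 ^ k + 1 := by
      rintro ⟨k, hk⟩
      have hk1 : 1 ≤ k := by
        rcases k with _ | k
        · exfalso; rw [pow_zero] at hk; omega
        · omega
      by_cases hk2 : k = 1
      · subst hk2
        exact hA ⟨2, by omega⟩
      obtain ⟨c, rfl⟩ : ∃ c, k = c + 2 := ⟨k - 2, by omega⟩
      have hq3 : q = 4 * 2 ^ c + 1 := by rw [hk]; ring
      have h2c : 0 < 2 ^ c := by positivity
      obtain ⟨a, ha⟩ : ∃ a, q = 4 * a + 1 := ⟨2 ^ c, hq3⟩
      refine no_red_core h2 (one_ne_zero) (fun M h3 h5 h6 => isCyclic_CM_split h2 h3 h5 h6)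
        (m := q - 1) (o := q * (2 * a + 1)) (k := c + 2) (card_conic_split0 h2) (by omega) ?_ ?_ ?_ h
      · rw [N_eq q (by omega)]
        have h5 : q + 1 = 2 * (2 * a + 1) := by omega
        rw [h5]
        ring
      · rw [Nat.mul_mod, Nat.add_mod, Nat.mul_mod 2 a]
        simp [hqodd]
      · omega
    refine ⟨rfl, hA, ?_, hB⟩
    rintro ⟨k, hk⟩
    rcases k with _ | k
    · exfalso; rw [pow_zero] at hk; omega
    · rw [pow_succ] at hk; omega
  · rintro ⟨rfl, hA, hC, hB⟩
    have h2 : (2 : F) ≠ 0 := by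
      intro h20
      have h1 := (two_zero_iff (F := F)).1 h20
      obtain ⟨c, hc⟩ := CharP.exists F
      have hcp : c.Prime := by
        rcases CharP.char_is_prime_or_zero F c with h | h
        · exact h
        · subst h
          exact absurd hc (by
            intro hc0
            exact CharP.ringChar_ne_zero_of_finite F (by rw [ringChar.eq F 0]))
      have hc2 : c = 2 := by
        have h5 : (c : ℕ) ∣ 2 := (CharP.cast_eq_zero_iff F c 2).1 (by exact_mod_cast h20)
        exact (Nat.prime_dvd_prime_iff_eq hcp Nat.prime_two).1 h5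
      subst hc2
      have : Fact (Nat.Prime 2) := ⟨Nat.prime_two⟩
      obtain ⟨n, hn, hn2⟩ := FiniteField.card F 2
      exact hC ⟨n, hn2⟩
    exact red_of h2 hA hB

end sl2

end Cfsg.Agent.H20.RedSyl
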