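import Mathlib
import Cfsg.Prelude.Def_Transfer
import Cfsg.Agent.Lib.H14.BO2

/-! Automorphism-irreducible `p`-groups: the special-group facts. -/

set_option autoImplicit false
set_option linter.unusedVariables false
set_option linter.style.haveILetI false
set_option linter.unusedSectionVars false
set_option linter.unusedSimpArgs false

namespace Cfsg.Agent.H20.SP

open scoped commutatorElement

variable {T : Type*} [Group T] [Finite T] {p q : ℕ} [hp : Fact p.Prime] [hq : Fact q.Prime]

/-- `α` is a nontrivial automorphism of prime order `q ≠ p` of the `p`-group `T` fixing every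
proper invariant subgroup pointwise. -/
structure SPT (p q : ℕ) (T : Type*) [Group T] (α : MulAut T) : Prop where
  hT : IsPGroup p T
  hqp : q ≠ p
  hq1 : ∀ x, (α ^ q) x = x
  hne : ∃ x, α x ≠ x
  hK : ∀ K : Subgroup T, K ≠ ⊤ → (∀ x ∈ K, α x ∈ K) → ∀ x ∈ K, α x = x

variable {α : MulAut T}

lemma pow_apply_of_fix {g f : T} (hgf : α g = g * f) (hf : α f = f) (n : ℕ) : (α ^ n) g = g * f ^ n := by
  induction n with
  | zero => simp
  | succ n ih =>
    rw [pow_succ', MulAut.mul_apply, ih, map_mul, map_pow, hf, hgf, pow_succ', mul_assoc]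

theorem SPT.gen (h : SPT p q T α) : Subgroup.closure (Set.range fun g : T => g⁻¹ * α g) = ⊤ := by
  by_contra hM
  have hfix := h.hK _ hM (by
    intro x hx
    induction hx using Subgroup.closure_induction with
    | mem x hx =>
      obtain ⟨g, rfl⟩ := hx
      apply Subgroup.subset_closure
      exact ⟨α g, by simp⟩
    | one => simp
    | mul x y _ _ hx hy =>
      rw [map_mul]; exact Subgroup.mul_mem _ hx hy
    | inv x _ hx =>
      rw [map_inv]; exact Subgroup.inv_mem _ hx)
  apply (show ¬ ∀ x, α x = x from by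
    obtain ⟨x, hx⟩ := h.hne
    exact fun hc => hx (hc x))
  intro g
  have hf : α (g⁻¹ * α g) = g⁻¹ * α g := hfix _ (Subgroup.subset_closure ⟨g, rfl⟩)
  have hgf : α g = g * (g⁻¹ * α g) := by group
  have h1 := pow_apply_of_fix hgf hf q
  rw [h.hq1] at h1
  have h2 : (g⁻¹ * α g) ^ q = 1 := by
    have := h1
    exact (mul_eq_left.1 this.symm)
  obtain ⟨k, hk⟩ := h.hT (g⁻¹ * α g)
  have hc : Nat.Coprime q (p ^ k) :=
    Nat.Coprime.pow_right _ ((Nat.coprime_primes hq.out hp.out).2 h.hqp)
  have h3 : g⁻¹ * α g = 1 := by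
    have := orderOf_dvd_of_pow_eq_one h2
    have h4 := orderOf_dvd_of_pow_eq_one hk
    have h5 : orderOf (g⁻¹ * α g) = 1 := Nat.eq_one_of_dvd_coprimes hc this h4
    exact orderOf_eq_one_iff.1 h5
  have h4 := mul_eq_one_iff_eq_inv.1 h3
  rw [inv_inj] at h4
  exact h4.symm

lemma SPT.nontriv (h : SPT p q T α) : Nontrivial T := by
  obtain ⟨x, hx⟩ := h.hne
  refine ⟨⟨α x, x, hx⟩⟩

/-- commutators are fixed -/
theorem SPT.comm_fix (h : SPT p q T α) {c : T} (hc : c ∈ commutator T) : α c = c := by
  haveI := h.nontriv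
  haveI : Group.IsNilpotent T := h.hT.isNilpotent
  have hlt := Group.IsSolvable.commutator_lt_top_of_nontrivial T
  refine h.hK _ hlt.ne ?_ c hc
  intro x hx
  have hch := (Subgroup.characteristic_iff_le_comap.1 (inferInstance : (commutator T).Characteristic)) α
  exact hch hx

/-- fixed elements are central -/
theorem SPT.fix_center (h : SPT p q T α) {f : T} (hf : α f = f) : f ∈ Subgroup.center T := by
  have hC : Subgroup.centralizer ({f} : Set T) = ⊤ := by
    rw [eq_top_iff, ← h.gen, Subgroup.closure_le]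
    rintro _ ⟨g, rfl⟩
    rw [SetLike.mem_coe, Subgroup.mem_centralizer_iff]
    intro y hy
    rw [Set.mem_singleton_iff] at hy
    subst hy
    have hc : ⁅g, y⁆ ∈ commutator T := by
      exact Subgroup.commutator_mem_commutator (Subgroup.mem_top _) (Subgroup.mem_top _)
    have h1 := h.comm_fix hc
    rw [commutatorElement_def, map_mul, map_mul, map_mul, map_inv, map_inv, hf] at h1
    have h2 : α g * y * (α g)⁻¹ = g * y * g⁻¹ := by
      have := mul_right_cancel h1
      exact this
    simp only
    calc y * (g⁻¹ * α g) = g⁻¹ * (g * y * g⁻¹) * α g := by group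
      _ = g⁻¹ * (α g * y * (α g)⁻¹) * α g := by rw [h2]
      _ = g⁻¹ * α g * y := by group
  rw [Subgroup.mem_center_iff]
  intro g
  have h1 : g ∈ Subgroup.centralizer ({f} : Set T) := by rw [hC]; trivial
  rw [Subgroup.mem_centralizer_iff] at h1
  exact (h1 f rfl).symm

/-- For nonabelian `T`, the centre is fixed. -/
theorem SPT.center_fix (h : SPT p q T α) (hna : ¬ ∀ x y : T, x * y = y * x) {z : T} (hz : z ∈ Subgroup.center T) :
    α z = z := by
  refine h.hK _ ?_ ?_ z hz
  · intro htop
    apply hna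
    intro x y
    have h1 : x ∈ Subgroup.center T := by rw [htop]; trivial
    exact (Subgroup.mem_center_iff.1 h1 y).symm
  · intro x hx
    have hch := (Subgroup.characteristic_iff_le_comap.1 (inferInstance : (Subgroup.center T).Characteristic)) α
    exact hch hx

/-- The centre lies in the commutator subgroup. -/
theorem SPT.fix_le_comm (h : SPT p q T α) {f : T} (hf : α f = f) : f ∈ commutator T := by
  classical
  haveI : Finite (Abelianization T) := inferInstanceAs (Finite (T ⧸ commutator T))
  let δ : T →* Abelianization T := (Abelianization.of.comp α.toMonoidHom) / Abelianization.of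
  have hδ : ∀ x, δ x = Abelianization.of (α x) / Abelianization.of x := fun x => rfl
  let δb : Abelianization T →* Abelianization T := Abelianization.lift δ
  have hδb : ∀ x, δb (Abelianization.of x) = δ x := fun x => Abelianization.lift_apply_of δ x
  have hsurj : Function.Surjective δb := by
    have hr : (⊤ : Subgroup (Abelianization T)) ≤ δb.range := by
      have hof : (⊤ : Subgroup T).map (Abelianization.of (G := T)) = ⊤ := by
        rw [← MonoidHom.range_eq_map]
        exact MonoidHom.range_eq_top.2 (QuotientGroup.mk'_surjective _)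
      rw [← hof, ← h.gen, MonoidHom.map_closure, Subgroup.closure_le]
      rintro _ ⟨_, ⟨g, rfl⟩, rfl⟩
      refine ⟨Abelianization.of g, ?_⟩
      rw [hδb, hδ]
      simp only [map_mul, map_inv]
      rw [div_eq_mul_inv, mul_comm]
    intro y
    exact hr (Subgroup.mem_top y)
  have hinj : Function.Injective δb := Finite.injective_iff_surjective.2 hsurj
  have h1 : δb (Abelianization.of f) = 1 := by
    rw [hδb, hδ, hf, div_self']
  have h2 : Abelianization.of f = 1 := hinj (by rw [h1, map_one])
  exact (QuotientGroup.eq_one_iff f).1 h2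

/-- `p`-th powers are central. -/
theorem SPT.pow_center (h : SPT p q T α) (x : T) : x ^ p ∈ Subgroup.center T := by
  classical
  haveI : Finite (Abelianization T) := inferInstanceAs (Finite (T ⧸ commutator T))
  haveI := h.nontriv
  haveI : Group.IsNilpotent T := h.hT.isNilpotent
  let π : Abelianization T →* Abelianization T := powMonoidHom p
  let K : Subgroup T := π.range.comap Abelianization.of
  have hK : K ≠ ⊤ := by
    intro htop
    have hsurj : Function.Surjective π := by
      intro y
      obtain ⟨t, rfl⟩ := QuotientGroup.mk'_surjective _ y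
      have : t ∈ K := by rw [htop]; trivial
      exact this
    have hinj : Function.Injective π := Finite.injective_iff_surjective.2 hsurj
    have hbot : commutator T = ⊤ := by
      rw [eq_top_iff]
      intro t _
      obtain ⟨k, hk⟩ := h.hT t
      have h1 : ∀ n : ℕ, (Abelianization.of t) ^ (p ^ n) = 1 → Abelianization.of t = 1 := by
        intro n
        induction n with
        | zero => simp
        | succ n ih =>
          intro hh
          apply ih
          apply hinj
          rw [map_one]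
          change (Abelianization.of t ^ p ^ n) ^ p = 1
          rw [← pow_mul, ← pow_succ]
          exact hh
      have h2 := h1 k (by rw [← map_pow, hk, map_one])
      exact (QuotientGroup.eq_one_iff t).1 h2
    exact (Group.IsSolvable.commutator_lt_top_of_nontrivial T).ne hbot
  have hinv : ∀ y ∈ K, α y ∈ K := by
    rintro y ⟨t, ht⟩
    obtain ⟨s, rfl⟩ := QuotientGroup.mk'_surjective _ t
    refine ⟨Abelianization.map α.toMonoidHom (QuotientGroup.mk' _ s), ?_⟩
    have h1 : Abelianization.map α.toMonoidHom (Abelianization.of y) = Abelianization.of (α y) :=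
      Abelianization.map_of _ _
    rw [← h1, ← ht]
    exact (map_pow (Abelianization.map α.toMonoidHom) _ p).symm
  have hmem : x ^ p ∈ K := by
    refine ⟨Abelianization.of x, ?_⟩
    change (Abelianization.of x) ^ p = _
    rw [map_pow]
  exact h.fix_center (h.hK K hK hinv _ hmem)

lemma comm_mem_center_conj {x g : T} (hc : ⁅x, g⁆ ∈ Subgroup.center T) :
    x * g * x⁻¹ = ⁅x, g⁆ * g := by
  rw [commutatorElement_def]; group

/-- elements of the centre have exponent `p` -/
theorem SPT.center_pow (h : SPT p q T α) (hna : ¬ ∀ x y : T, x * y = y * x) {z : T} (hz : z ∈ Subgroup.center T) :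
    z ^ p = 1 := by
  have hle : commutator T ≤ Subgroup.center T := fun c hc => h.fix_center (h.comm_fix hc)
  let E : Subgroup T :=
    { carrier := {z | z ∈ Subgroup.center T ∧ z ^ p = 1}
      mul_mem' := by
        rintro a b ⟨ha, ha'⟩ ⟨hb, hb'⟩
        refine ⟨Subgroup.mul_mem _ ha hb, ?_⟩
        have hcomm : Commute a b := (Subgroup.mem_center_iff.1 ha b).symm
        rw [hcomm.mul_pow, ha', hb', one_mul]
      one_mem' := ⟨Subgroup.one_mem _, one_pow _⟩
      inv_mem' := by
        rintro a ⟨ha, ha'⟩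
        refine ⟨Subgroup.inv_mem _ ha, ?_⟩
        rw [inv_pow, ha', inv_one] }
  have hcE : commutator T ≤ E := by
    rw [commutator_def, Subgroup.commutator_le]
    intro x _ g _
    have hmem : ⁅x, g⁆ ∈ Subgroup.center T :=
      hle (Subgroup.commutator_mem_commutator (Subgroup.mem_top _) (Subgroup.mem_top _))
    refine ⟨hmem, ?_⟩
    have h1 : x * g * x⁻¹ = ⁅x, g⁆ * g := comm_mem_center_conj hmem
    have h2 : x * ⁅x, g⁆ = ⁅x, g⁆ * x := (Subgroup.mem_center_iff.1 hmem x)
    have h3 := Cfsg.Agent.H14.conj_pow_of_fix h1 h2 p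
    have h4 := Subgroup.mem_center_iff.1 (h.pow_center x) g
    have h5 : x ^ p * g * (x ^ p)⁻¹ = g := by
      rw [← h4]; group
    rw [h5] at h3
    exact (mul_eq_right.1 h3.symm)
  exact (hcE (h.fix_le_comm (h.center_fix hna hz))).2

/-- The key irreducibility lemma. -/
theorem SPT.se (h : SPT p q T α) (hna : ¬ ∀ x y : T, x * y = y * x) {x : T} (hx : x ∉ Subgroup.center T)
    (L : Subgroup T) (hL : ∀ g, ⁅x, g⁆ ∈ L) : Subgroup.center T ≤ L := by
  have hle : commutator T ≤ Subgroup.center T := fun c hc => h.fix_center (h.comm_fix hc)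
  have hcen : ∀ a b : T, ⁅a, b⁆ ∈ Subgroup.center T := fun a b =>
    hle (Subgroup.commutator_mem_commutator (Subgroup.mem_top _) (Subgroup.mem_top _))
  have hmul : ∀ a b g : T, ⁅a * b, g⁆ = ⁅b, g⁆ * ⁅a, g⁆ := by
    intro a b g
    have h1 : ⁅a * b, g⁆ = a * ⁅b, g⁆ * g * a⁻¹ * g⁻¹ := by
      simp only [commutatorElement_def]; group
    rw [h1, Subgroup.mem_center_iff.1 (hcen b g) a]
    simp only [commutatorElement_def]; group
  let K : Subgroup T :=
    { carrier := {y | ∀ g, ⁅y, g⁆ ∈ L}
      mul_mem' := by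
        intro a b ha hb g
        rw [hmul]
        exact L.mul_mem (hb g) (ha g)
      one_mem' := by
        intro g
        rw [commutatorElement_one_left]
        exact L.one_mem
      inv_mem' := by
        intro a ha g
        have e : ⁅a⁻¹, g⁆ = ⁅a, g⁆⁻¹ := by
          have h2 := hmul a a⁻¹ g
          rw [mul_inv_cancel, commutatorElement_one_left] at h2
          exact eq_inv_of_mul_eq_one_left h2.symm
        rw [e]
        exact L.inv_mem (ha g) }
  have hinv : ∀ y ∈ K, α y ∈ K := by
    intro y hy g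
    have hf := h.comm_fix (c := ⁅y, α⁻¹ g⁆) (Subgroup.commutator_mem_commutator (Subgroup.mem_top _) (Subgroup.mem_top _))
    have e : ⁅α y, g⁆ = ⁅y, α⁻¹ g⁆ := by
      rw [← hf, map_commutatorElement]
      simp
    rw [e]
    exact hy _
  have htop : K = ⊤ := by
    by_contra hne
    apply hx
    exact h.fix_center (h.hK K hne hinv x hL)
  intro z hz
  have h1 := h.fix_le_comm (h.center_fix hna hz)
  have hcL : commutator T ≤ L := by
    rw [commutator_def, Subgroup.commutator_le]
    intro a _ b _
    have : a ∈ K := by rw [htop]; trivial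
    exact this b
  exact hcL h1

/-- `α` cannot preserve `⟨x⟩Z` unless `x` is central. -/
theorem SPT.line (h : SPT p q T α) (hna : ¬ ∀ x y : T, x * y = y * x) {x : T}
    (hx : α x ∈ Subgroup.zpowers x ⊔ Subgroup.center T) : x ∈ Subgroup.center T := by
  by_cases htop : Subgroup.zpowers x ⊔ Subgroup.center T = ⊤
  · rw [Subgroup.mem_center_iff]
    intro g
    have hg : g ∈ Subgroup.zpowers x ⊔ Subgroup.center T := by rw [htop]; trivial
    have hle : Subgroup.zpowers x ⊔ Subgroup.center T ≤ Subgroup.centralizer ({x} : Set T) := by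
      refine sup_le ?_ ?_
      · rw [Subgroup.zpowers_le, Subgroup.mem_centralizer_iff]
        intro y hy
        rw [Set.mem_singleton_iff] at hy
        rw [hy]
      · intro z hz
        rw [Subgroup.mem_centralizer_iff]
        intro y hy
        rw [Set.mem_singleton_iff] at hy
        rw [hy]
        exact (Subgroup.mem_center_iff.1 hz x)
    have := Subgroup.mem_centralizer_iff.1 (hle hg) x rfl
    exact this.symm
  · have hinv : ∀ y ∈ Subgroup.zpowers x ⊔ Subgroup.center T, α y ∈ Subgroup.zpowers x ⊔ Subgroup.center T := by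
      have hle : Subgroup.zpowers x ⊔ Subgroup.center T ≤
          (Subgroup.zpowers x ⊔ Subgroup.center T).comap α.toMonoidHom := by
        refine sup_le ?_ ?_
        · rw [Subgroup.zpowers_le]
          exact hx
        · intro z hz
          rw [Subgroup.mem_comap]
          change α z ∈ _
          rw [h.center_fix hna hz]
          exact Subgroup.mem_sup_right hz
      exact fun y hy => hle hy
    exact h.fix_center (h.hK _ htop hinv x (Subgroup.mem_sup_left (Subgroup.mem_zpowers x)))

/-- Characteristic subgroups. -/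
theorem SPT.dich (h : SPT p q T α) {K : Subgroup T} (hK : ∀ x ∈ K, α x ∈ K) : K = ⊤ ∨ K ≤ Subgroup.center T := by
  by_cases htop : K = ⊤
  · exact Or.inl htop
  · exact Or.inr fun x hx => h.fix_center (h.hK K htop hK x hx)

/-- Final contradiction in the extraspecial case. -/
theorem SPT.final_q (h : SPT p q T α) (hna : ¬ ∀ x y : T, x * y = y * x) (a w u : T) (h23 : p = 2 ∨ p = 3)
    (hgen : ∀ x, ∃ i j k : ℕ, x = a ^ i * w ^ j * u ^ k)
    (ha : a ^ p = 1) (hw : w ^ p = 1) (hu : u ^ p = 1) (hu1 : u ≠ 1) (huZ : u ∈ Subgroup.center T)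
    (hZu : Subgroup.center T ≤ Subgroup.zpowers u) : (p = 2 ∧ q = 3) ∨ (p = 3 ∧ q = 2) := by
  classical
  haveI hpp := hp
  have hpr : p.Prime := hp.out
  have hqr : q.Prime := hq.out
  have hp0 : 0 < p := hpr.pos
  haveI : NeZero p := ⟨hp0.ne'⟩
  -- upper bound
  have hle : Nat.card T ≤ p ^ 3 := by
    let f : Fin p × Fin p × Fin p → T := fun t => a ^ (t.1 : ℕ) * w ^ (t.2.1 : ℕ) * u ^ (t.2.2 : ℕ)
    have hf : Function.Surjective f := by
      intro x
      obtain ⟨i, j, k, rfl⟩ := hgen x
      refine ⟨(⟨i % p, Nat.mod_lt _ hp0⟩, ⟨j % p, Nat.mod_lt _ hp0⟩, ⟨k % p, Nat.mod_lt _ hp0⟩), ?_⟩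
      simp only [f]
      have hm : ∀ (y : T) (n : ℕ), y ^ p = 1 → y ^ (n % p) = y ^ n := fun y n hy => by
        conv_rhs => rw [← Nat.div_add_mod n p, pow_add, pow_mul, hy, one_pow, one_mul]
      rw [hm _ _ ha, hm _ _ hw, hm _ _ hu]
    have := Nat.card_le_card_of_surjective f hf
    simpa [Nat.card_prod, pow_succ, mul_assoc] using this
  have hge : p ^ 3 ≤ Nat.card T := by
    obtain ⟨n, hn⟩ := IsPGroup.iff_card.1 h.hT
    rw [hn]
    apply Nat.pow_le_pow_right hp0
    by_contra hlt
    apply hna
    have hn2 : n = 0 ∨ n = 1 ∨ n = 2 := by omega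
    rcases hn2 with rfl | rfl | rfl
    · rw [pow_zero] at hn
      haveI : Subsingleton T := (Nat.card_eq_one_iff_unique.1 hn).1
      exact fun x y => Subsingleton.elim _ _
    · rw [pow_one] at hn
      haveI : IsCyclic T := isCyclic_of_prime_card hn
      exact (IsCyclic.isMulCommutative (α := T)).is_comm.comm
    · exact (IsPGroup.isMulCommutative_of_card_eq_prime_sq hn).is_comm.comm
  have hcard : Nat.card T = p ^ 3 := le_antisymm hle hge
  have hcenter : Nat.card (Subgroup.center T) = p := by
    have e : Subgroup.center T = Subgroup.zpowers u := by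
      apply le_antisymm hZu
      rw [Subgroup.zpowers_le]
      exact huZ
    rw [e, Nat.card_zpowers]
    exact orderOf_eq_prime hu hu1
  -- the congruence
  have hqgrp : IsPGroup q (Subgroup.zpowers α) := by
    rintro ⟨_, n, rfl⟩
    refine ⟨1, ?_⟩
    apply Subtype.ext
    have hαq : α ^ q = 1 := by
      ext x
      exact h.hq1 x
    simp only [pow_one]
    change (α ^ n) ^ q = 1
    rw [← zpow_natCast, zpow_comm, zpow_natCast, hαq, _root_.one_zpow]
  have hcong := hqgrp.card_modEq_card_fixedPoints T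
  have hfix : Nat.card (MulAction.fixedPoints (Subgroup.zpowers α) T) = Nat.card (Subgroup.center T) := by
    apply Nat.card_congr
    refine Equiv.subtypeEquivRight fun x => ?_
    constructor
    · intro hx
      have h1 := hx ⟨α, Subgroup.mem_zpowers α⟩
      exact h.fix_center h1
    · intro hx
      have hf := h.center_fix hna hx
      rintro ⟨_, n, rfl⟩
      change (α ^ n) x = x
      have hfz : ∀ m : ℕ, (α ^ m) x = x := by
        intro m
        induction m with
        | zero => rfl
        | succ m ih => rw [pow_succ, MulAut.mul_apply, hf, ih]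
      rcases Int.eq_nat_or_neg n with ⟨m, rfl | rfl⟩
      · rw [zpow_natCast]; exact hfz m
      · rw [zpow_neg, zpow_natCast]
        have h3 := hfz m
        calc ((α ^ m)⁻¹) x = ((α ^ m)⁻¹) ((α ^ m) x) := by rw [h3]
          _ = x := by simp
  rw [hfix, hcenter, hcard] at hcong
  have hdvd : q ∣ p ^ 3 - p := by
    have h1 : p ≤ p ^ 3 := by
      calc p = p ^ 1 := (pow_one p).symm
        _ ≤ p ^ 3 := Nat.pow_le_pow_right hp0 (by norm_num)
    exact (Nat.modEq_iff_dvd' h1).1 hcong.symm
  have hqp := h.hqp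
  rcases h23 with rfl | rfl
  · left
    refine ⟨rfl, ?_⟩
    have h6 : q ∣ 2 * 3 := by simpa using hdvd
    rcases (Nat.Prime.dvd_mul hqr).1 h6 with h1 | h1
    · exact absurd ((Nat.prime_dvd_prime_iff_eq hqr Nat.prime_two).1 h1) hqp
    · exact (Nat.prime_dvd_prime_iff_eq hqr Nat.prime_three).1 h1
  · right
    refine ⟨rfl, ?_⟩
    have h6 : q ∣ 2 ^ 3 * 3 := by simpa using hdvd
    rcases (Nat.Prime.dvd_mul hqr).1 h6 with h1 | h1
    · exact (Nat.prime_dvd_prime_iff_eq hqr Nat.prime_two).1 (hqr.dvd_of_dvd_pow h1)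
    · exact absurd ((Nat.prime_dvd_prime_iff_eq hqr Nat.prime_three).1 h1) hqp

lemma SPT.comm_center (h : SPT p q T α) (a b : T) : ⁅a, b⁆ ∈ Subgroup.center T :=
  h.fix_center (h.comm_fix (Subgroup.commutator_mem_commutator (Subgroup.mem_top _) (Subgroup.mem_top _)))

/-- Final contradiction, `q = 2`. -/
theorem SPT.final_two (h : SPT p 2 T α) (hna : ¬ ∀ x y : T, x * y = y * x) {w : T}
    (hwZ : w ∉ Subgroup.center T) : False := by
  have hα : ∀ x, α (α x) = x := by
    intro x
    have := h.hq1 x
    rwa [pow_two, MulAut.mul_apply] at this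
  have h1 : w * α w ∈ Subgroup.center T := by
    apply h.line hna
    have e : α (w * α w) = (w * α w) * ⁅(α w)⁻¹, w⁻¹⁆ := by
      rw [map_mul, hα, commutatorElement_def]; group
    rw [e]
    exact Subgroup.mul_mem_sup (Subgroup.mem_zpowers _) (h.comm_center _ _)
  apply hwZ
  apply h.line hna
  have e : α w = w⁻¹ * (w * α w) := by group
  rw [e]
  exact Subgroup.mul_mem_sup (Subgroup.inv_mem _ (Subgroup.mem_zpowers _)) h1

/-- Final contradiction, `p = 2`, `q = 3`. -/
theorem SPT.final_three (h : SPT 2 3 T α) (hna : ¬ ∀ x y : T, x * y = y * x) (a w u : T)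
    (hgen : ∀ x, ∃ i j k : ℕ, x = a ^ i * w ^ j * u ^ k)
    (ha : a ^ 2 = 1) (hw : w ^ 2 = 1) (huZ : u ∈ Subgroup.center T)
    (hwZ : w ∉ Subgroup.center T) : False := by
  haveI : Fact (Nat.Prime 2) := ⟨Nat.prime_two⟩
  have hα : ∀ x, α (α (α x)) = x := by
    intro x
    have := h.hq1 x
    rwa [pow_succ, pow_two, MulAut.mul_apply, MulAut.mul_apply] at this
  obtain ⟨β, hβ⟩ : ∃ β, β = α w := ⟨_, rfl⟩
  obtain ⟨γ, hγ⟩ : ∃ γ, γ = α β := ⟨_, rfl⟩
  have hαγ : α γ = w := by rw [hγ, hβ, hα]
  have hβ2 : β ^ 2 = 1 := by rw [hβ, ← map_pow, hw, map_one]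
  have hγ2 : γ ^ 2 = 1 := by rw [hγ, ← map_pow, hβ2, map_one]
  have hd : w * β * γ ∈ Subgroup.center T := by
    apply h.line hna
    have e : α (w * β * γ) = (w * β * γ) * ⁅(β * γ)⁻¹, w⁻¹⁆ := by
      rw [map_mul, map_mul, hαγ, ← hβ, ← hγ, commutatorElement_def]; group
    rw [e]
    exact Subgroup.mul_mem_sup (Subgroup.mem_zpowers _) (h.comm_center _ _)
  have hd2 : (w * β * γ) ^ 2 = 1 := h.center_pow hna hd
  obtain ⟨d, hdd⟩ : ∃ d, d = w * β * γ := ⟨_, rfl⟩
  rw [← hdd] at hd hd2
  have hwi : w⁻¹ = w := inv_eq_of_mul_eq_one_left (by rw [← pow_two]; exact hw)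
  have hβi : β⁻¹ = β := inv_eq_of_mul_eq_one_left (by rw [← pow_two]; exact hβ2)
  have hγe : γ = β * w * d := by
    rw [hdd]
    calc γ = β⁻¹ * w⁻¹ * (w * β * γ) := by group
      _ = β * w * (w * β * γ) := by rw [hwi, hβi]
  have hcd : ∀ x, x * d = d * x := fun x => Subgroup.mem_center_iff.1 hd x
  have h1 : (β * w) ^ 2 = 1 := by
    have e : γ ^ 2 = (β * w) ^ 2 * d ^ 2 := by
      rw [hγe]
      exact (show Commute (β * w) d from hcd _).mul_pow 2
    rw [hγ2, hd2, mul_one] at e
    exact e.symm
  have hcomm : Commute w β := by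
    have e : (β * w) * (β * w) = 1 := by rw [← pow_two]; exact h1
    have e2 : β * w = (β * w)⁻¹ := eq_inv_of_mul_eq_one_left e
    rw [mul_inv_rev, hwi, hβi] at e2
    exact e2.symm
  have hcu : Commute w u := Subgroup.mem_center_iff.1 huZ w
  have hpowa : ∀ i : ℕ, a ^ i = 1 ∨ a ^ i = a := by
    intro i
    rcases Nat.even_or_odd' i with ⟨m, rfl | rfl⟩
    · left; rw [pow_mul, ha, one_pow]
    · right; rw [pow_succ, pow_mul, ha, one_pow, one_mul]
  obtain ⟨i, j, k, hβe⟩ := hgen β
  rcases hpowa i with hi | hi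
  · apply hwZ
    apply h.line hna
    rw [← hβ, hβe, hi, one_mul]
    exact Subgroup.mul_mem_sup (Subgroup.pow_mem _ (Subgroup.mem_zpowers _) _) (Subgroup.pow_mem _ huZ _)
  · rw [hi] at hβe
    have hae : a = β * (w ^ j * u ^ k)⁻¹ := by rw [hβe]; group
    have hca : Commute w a := by
      rw [hae]
      refine hcomm.mul_right (Commute.inv_right ?_)
      exact (Commute.pow_right (Commute.refl w) j).mul_right (hcu.pow_right k)
    apply hwZ
    rw [Subgroup.mem_center_iff]
    intro x
    obtain ⟨i', j', k', rfl⟩ := hgen x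
    have : Commute w (a ^ i' * w ^ j' * u ^ k') :=
      ((hca.pow_right i').mul_right (Commute.pow_right (Commute.refl w) j')).mul_right (hcu.pow_right k')
    exact this.symm.eq

theorem SPT.final (h : SPT p q T α) (hna : ¬ ∀ x y : T, x * y = y * x) (a w u : T) (h23 : p = 2 ∨ p = 3)
    (hgen : ∀ x, ∃ i j k : ℕ, x = a ^ i * w ^ j * u ^ k)
    (ha : a ^ p = 1) (hw : w ^ p = 1) (hu : u ^ p = 1) (hu1 : u ≠ 1) (huZ : u ∈ Subgroup.center T)
    (hwZ : w ∉ Subgroup.center T) (hZu : Subgroup.center T ≤ Subgroup.zpowers u) : False := by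
  rcases h.final_q hna a w u h23 hgen ha hw hu hu1 huZ hZu with ⟨rfl, rfl⟩ | ⟨rfl, rfl⟩
  · exact h.final_three hna a w u hgen ha hw huZ hwZ
  · exact h.final_two hna hwZ

end Cfsg.Agent.H20.SP
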