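import Cfsg.Agent.Lib.H20.TQ1
import Mathlib

/-! Thompson factorization: primes of the normal closure action, and the characteristic subgroup claim. -/

set_option autoImplicit false
set_option linter.unusedVariables false
set_option linter.style.haveILetI false
set_option linter.unusedSectionVars false

namespace Cfsg.Agent.H20.TQ

open Cfsg Cfsg.Agent.H14
open Matrix MatrixGroups

universe u

/-- Comap under a surjection and automizers. -/
theorem ai_comap_dvd {A B : Type*} [Group A] [Group B] [Finite A] [Finite B] (π : A →* B)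
    (hπ : Function.Surjective π) (K : Subgroup B) : ai K ∣ ai (K.comap π) := by
  apply ai_dvd_of_surj π
  · intro y hy
    rw [Subgroup.mem_normalizer_iff] at hy ⊢
    intro k
    obtain ⟨x, rfl⟩ := hπ k
    have h1 := hy x
    simp only [Subgroup.mem_comap, map_mul, map_inv] at h1
    exact h1
  · intro y hy hc
    refine Subgroup.mem_centralizer_iff.2 ?_
    intro k hk
    obtain ⟨x, rfl⟩ := hπ k
    have h1 := Subgroup.mem_centralizer_iff.1 hc x (show x ∈ K.comap π from hk)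
    rw [← map_mul, ← map_mul, h1]
  · intro z hz
    obtain ⟨y, rfl⟩ := hπ z
    refine ⟨y, ?_, rfl⟩
    rw [Subgroup.mem_normalizer_iff] at hz ⊢
    intro x
    have h1 := hz (π x)
    simp only [Subgroup.mem_comap, map_mul, map_inv]
    exact h1

/-- Primes of a join of mutually normalizing subgroups. -/
theorem not_dvd_card_iSup {Y : Type*} [Group Y] [Finite Y] {ι : Type*} [Finite ι] {q : ℕ} (hq : q.Prime)
    (E : ι → Subgroup Y) (H : Subgroup Y) (hsup : (⨆ i, E i) = H)
    (hN : ∀ i, H ≤ Subgroup.normalizer ((E i : Subgroup Y) : Set Y)) (hE : ∀ i, ¬ q ∣ Nat.card (E i)) :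
    ¬ q ∣ Nat.card H := by
  classical
  haveI := Fintype.ofFinite ι
  have key : ∀ s : Finset ι, s.sup E ≤ H ∧ H ≤ Subgroup.normalizer ((s.sup E : Subgroup Y) : Set Y) ∧
      ¬ q ∣ Nat.card (s.sup E : Subgroup Y) := by
    intro s
    induction s using Finset.induction_on with
    | empty =>
      refine ⟨bot_le, ?_, ?_⟩
      · intro g _
        apply Cfsg.Agent.H20.mem_normalizer_of_conj_le
        intro y hy
        have hy1 : y = 1 := Subgroup.mem_bot.1 hy
        rw [hy1]; simp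
      · simp only [Finset.sup_empty, Subgroup.card_bot]
        exact fun h => hq.one_lt.ne' (Nat.dvd_one.1 h)
    | insert a s ha ih =>
      rw [Finset.sup_insert]
      obtain ⟨h1, h2, h3⟩ := ih
      have hEa : E a ≤ H := by
        rw [← hsup]; exact le_iSup E a
      refine ⟨sup_le hEa h1, ?_, ?_⟩
      · intro g hg
        apply Cfsg.Agent.H20.mem_normalizer_of_conj_le
        have hle : E a ⊔ s.sup E ≤ (E a ⊔ s.sup E).comap (MulAut.conj g).toMonoidHom := by
          apply sup_le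
          · intro x hx
            exact Subgroup.mem_sup_left ((Subgroup.mem_normalizer_iff.1 (hN a hg) x).1 hx)
          · intro x hx
            exact Subgroup.mem_sup_right ((Subgroup.mem_normalizer_iff.1 (h2 hg) x).1 hx)
        intro y hy
        exact hle hy
      · intro hd
        have h4 := Cfsg.Agent.H25.card_sup_mul_inf (X := E a) (Y := s.sup E) (h1.trans (hN a))
        have h5 : q ∣ Nat.card (E a) * Nat.card (s.sup E : Subgroup Y) := by
          rw [← h4]; exact Dvd.dvd.mul_right hd _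
        rcases (Nat.Prime.dvd_mul hq).1 h5 with h6 | h6
        · exact hE a h6
        · exact h3 h6
  have h := (key Finset.univ).2.2
  rwa [Finset.sup_univ_eq_iSup, hsup] at h

variable {Γ : Type u} [Group Γ] [Finite Γ] {p q : ℕ} [hp : Fact p.Prime] [hq : Fact q.Prime]

/-- The action of `J(Γ)` on `omZ` has order prime to `q`. -/
theorem not_dvd_card_map (hs : IsPSolvable p Γ) (hO : pPrimeCore p Γ = ⊥) (hpq : p ≠ q)
    (h23 : ¬ ((p = 2 ∧ q = 3) ∨ (p = 3 ∧ q = 2))) :
    ¬ q ∣ Nat.card ((thompsonSubgroup p Γ).map (holF (omZ p Γ))) := by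
  classical
  have hqp : q.Prime := hq.out
  have hV := omZ_ea hs hO
  have hO' := omZ_core (p := p) (G := Γ)
  have hF := hol_FFS (omZ p Γ) hV hs hO' (thompsonSubgroup p Γ)
  have hS3 := thompson_hS3 (omZ p Γ) hV hs hO'
  by_cases hH1 : (thompsonSubgroup p Γ).map (holF (omZ p Γ)) = ⊥
  · rw [hH1, Subgroup.card_bot]
    exact fun h => hqp.one_lt.ne' (Nat.dvd_one.1 h)
  obtain ⟨hp23, hE, -, hsup, -, -⟩ := FFIdx.main hF hS3 hH1
  refine not_dvd_card_iSup hqp _ _ hsup (fun E => (hE E).1) (fun E => ?_)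
  obtain ⟨-, ⟨φ⟩, -⟩ := hE E
  rw [Nat.card_congr φ.toEquiv]
  rw [Cfsg.Agent.Lead.card_SL_two', ZMod.card]
  intro hd
  rcases hp23 with h2 | h3
  · subst h2
    have h6 : q ∣ 6 := by simpa using hd
    have : q ∣ 2 * 3 := h6
    rcases (Nat.Prime.dvd_mul hqp).1 this with h | h
    · exact hpq ((Nat.prime_dvd_prime_iff_eq hqp Nat.prime_two).1 h).symm
    · exact h23 (Or.inl ⟨rfl, (Nat.prime_dvd_prime_iff_eq hqp Nat.prime_three).1 h⟩)
  · subst h3
    have h6 : q ∣ 24 := by simpa using hd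
    have : q ∣ 2 ^ 3 * 3 := h6
    rcases (Nat.Prime.dvd_mul hqp).1 this with h | h
    · exact h23 (Or.inr ⟨rfl, (Nat.prime_dvd_prime_iff_eq hqp Nat.prime_two).1 (hqp.dvd_of_dvd_pow h)⟩)
    · exact hpq ((Nat.prime_dvd_prime_iff_eq hqp Nat.prime_three).1 h).symm

/-- Frattini argument for `J`: `Γ = J(Γ) N(J(S))`. -/
theorem thompson_frattini (S : Sylow p Γ) :
    thompsonSubgroup p Γ ⊔ Subgroup.normalizer (thompsonSubgroupOf p (S : Subgroup Γ) : Set Γ) = ⊤ := by
  classical
  obtain ⟨W, hW⟩ : ∃ W, W = thompsonSubgroup p Γ := ⟨_, rfl⟩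
  rw [← hW]
  haveI hWn : W.Normal := by
    rw [hW]; infer_instance
  obtain ⟨P, hP⟩ := Cfsg.Agent.H13.exists_sylow_inf_normal S W
  have hFrat := Sylow.normalizer_sup_eq_top P
  rw [eq_top_iff, ← hFrat, sup_comm]
  refine sup_le_sup le_rfl ?_
  -- the normalizer of `S ⊓ W` normalizes `J(S)`
  intro g hg
  have hg' : g ∈ Subgroup.normalizer (((S : Subgroup Γ) ⊓ W : Subgroup Γ) : Set Γ) := by
    have h0 : (P.map W.subtype : Subgroup Γ) = (S : Subgroup Γ) ⊓ W := by
      rw [← hP]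
    rw [← h0]
    exact hg
  apply Cfsg.Agent.H20.mem_normalizer_of_conj_le
  -- each generator goes to a generator
  have hle : thompsonSubgroupOf p (S : Subgroup Γ) ≤
      (thompsonSubgroupOf p (S : Subgroup Γ)).comap (MulAut.conj g).toMonoidHom := by
    unfold thompsonSubgroupOf thompsonSubgroup
    rw [Subgroup.map_le_iff_le_comap]
    apply sSup_le
    intro A hA a ha
    have hA₁ := thompsonOf_le hA
    have hA₁W : A.map (S : Subgroup Γ).subtype ≤ W := by
      rw [hW]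
      exact le_sSup hA₁
    have hA₁S : A.map (S : Subgroup Γ).subtype ≤ (S : Subgroup Γ) := by
      rintro _ ⟨y, -, rfl⟩
      exact y.2
    -- the conjugate lies in `S`
    have hconjS : ∀ x ∈ A.map (S : Subgroup Γ).subtype, g * x * g⁻¹ ∈ (S : Subgroup Γ) := by
      intro x hx
      have h1 : x ∈ ((S : Subgroup Γ) ⊓ W : Subgroup Γ) := ⟨hA₁S hx, hA₁W hx⟩
      exact ((Subgroup.mem_normalizer_iff.1 hg' x).1 h1).1
    obtain ⟨hAe, hAm⟩ := hA
    let B : Subgroup ↥(S : Subgroup Γ) :=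
      ((A.map (S : Subgroup Γ).subtype).map (MulAut.conj g).toMonoidHom).subgroupOf (S : Subgroup Γ)
    have hBle : (A.map (S : Subgroup Γ).subtype).map (MulAut.conj g).toMonoidHom ≤ (S : Subgroup Γ) := by
      rintro _ ⟨x, hx, rfl⟩
      exact hconjS x hx
    have hcardB : Nat.card B = Nat.card A := by
      have h1 : Nat.card B = Nat.card ((A.map (S : Subgroup Γ).subtype).map (MulAut.conj g).toMonoidHom) :=
        Nat.card_congr (Subgroup.subgroupOfEquivOfLe hBle).toEquiv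
      rw [h1, ← Nat.card_congr (Subgroup.equivMapOfInjective _ _ (MulAut.conj g).injective).toEquiv,
        ← Nat.card_congr (Subgroup.equivMapOfInjective _ _ (S : Subgroup Γ).subtype_injective).toEquiv]
    have hB : B ∈ maxElementaryAbelianSubgroups p ↥(S : Subgroup Γ) := by
      refine ⟨?_, fun C hC => ?_⟩
      · have hcA := Cfsg.Agent.H02.commV_of_ea hAe
        refine ⟨⟨⟨?_⟩⟩, ?_⟩
        · rintro ⟨x, hx⟩ ⟨y, hy⟩
          apply Subtype.ext
          apply Subtype.ext
          obtain ⟨_, ⟨a₁, ha₁, rfl⟩, hx1⟩ := (Subgroup.mem_subgroupOf.1 hx)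
          obtain ⟨_, ⟨a₂, ha₂, rfl⟩, hy1⟩ := (Subgroup.mem_subgroupOf.1 hy)
          have h5 := hcA a₁ ha₁ a₂ ha₂
          have h6 : ((a₁ : ↥(S : Subgroup Γ)) : Γ) * (a₂ : ↥(S : Subgroup Γ)) = (a₂ : ↥(S : Subgroup Γ)) * (a₁ : ↥(S : Subgroup Γ)) :=
            congrArg Subtype.val h5
          change (x : Γ) * (y : Γ) = (y : Γ) * (x : Γ)
          simp only [MulEquiv.toMonoidHom_eq_coe, MonoidHom.coe_coe, MulAut.conj_apply, Subgroup.subtype_apply] at hx1 hy1
          rw [← hx1, ← hy1]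
          calc g * (a₁ : Γ) * g⁻¹ * (g * (a₂ : Γ) * g⁻¹) = g * ((a₁ : Γ) * (a₂ : Γ)) * g⁻¹ := by group
            _ = g * ((a₂ : Γ) * (a₁ : Γ)) * g⁻¹ := by rw [h6]
            _ = g * (a₂ : Γ) * g⁻¹ * (g * (a₁ : Γ) * g⁻¹) := by group
        · rintro ⟨x, hxS⟩ hx
          apply Subtype.ext
          obtain ⟨_, ⟨a₁, ha₁, rfl⟩, hx1⟩ := (Subgroup.mem_subgroupOf.1 hx)
          simp only [MulEquiv.toMonoidHom_eq_coe, MonoidHom.coe_coe, MulAut.conj_apply, Subgroup.subtype_apply] at hx1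
          have h5 : ((a₁ : ↥(S : Subgroup Γ)) : Γ) ^ p = 1 := congrArg Subtype.val (hAe.2 a₁ ha₁)
          change x ^ p = 1
          rw [← hx1, conj_pow, h5]
          group
      · rw [hcardB]
        exact hAm C hC
    have h7 : (⟨g * (a : Γ) * g⁻¹, hconjS _ ⟨a, ha, rfl⟩⟩ : ↥(S : Subgroup Γ)) ∈ B := by
      apply Subgroup.mem_subgroupOf.2
      exact ⟨_, ⟨a, ha, rfl⟩, rfl⟩
    have h8 : (⟨g * (a : Γ) * g⁻¹, hconjS _ ⟨a, ha, rfl⟩⟩ : ↥(S : Subgroup Γ)) ∈ thompsonSubgroup p ↥(S : Subgroup Γ) :=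
      (le_sSup hB : _ ≤ thompsonSubgroup p ↥(S : Subgroup Γ)) h7
    exact ⟨_, h8, rfl⟩
  exact fun y hy => hle hy

/-- Lemma F. -/
theorem dvd_cases (hs : IsPSolvable p Γ) (hO : pPrimeCore p Γ = ⊥) (hpq : p ≠ q)
    (h23 : ¬ ((p = 2 ∧ q = 3) ∨ (p = 3 ∧ q = 2))) (hqΓ : q ∣ Nat.card Γ) (S : Sylow p Γ) :
    q ∣ Nat.card (Subgroup.centralizer (omegaOne p ((S : Subgroup Γ) ⊓ Subgroup.centralizer ((S : Subgroup Γ) : Set Γ)) : Set Γ)) ∨
    q ∣ Nat.card (Subgroup.normalizer (thompsonSubgroupOf p (S : Subgroup Γ) : Set Γ)) := by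
  classical
  have hqp : q.Prime := hq.out
  have hF := thompson_frattini S
  obtain ⟨W, hW⟩ : ∃ W, W = thompsonSubgroup p Γ := ⟨_, rfl⟩
  rw [← hW] at hF
  haveI hWn : W.Normal := by
    rw [hW]; infer_instance
  have h1 := Cfsg.Agent.H25.card_sup_mul_inf (X := W) (Y := Subgroup.normalizer (thompsonSubgroupOf p (S : Subgroup Γ) : Set Γ))
    (by rw [Subgroup.normalizer_eq_top W]; exact le_top)
  rw [hF, Subgroup.card_top] at h1
  have h2 : q ∣ Nat.card W * Nat.card (Subgroup.normalizer (thompsonSubgroupOf p (S : Subgroup Γ) : Set Γ)) := by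
    rw [← h1]
    exact Dvd.dvd.mul_right hqΓ _
  rcases (Nat.Prime.dvd_mul hqp).1 h2 with h3 | h3
  · left
    have h4 := card_map_holF (omZ p Γ) W
    have h5 := not_dvd_card_map (q := q) hs hO hpq h23
    rw [← hW] at h5
    rw [← h4] at h3
    rcases (Nat.Prime.dvd_mul hqp).1 h3 with h6 | h6
    · exact absurd h6 h5
    · refine dvd_trans h6 (Subgroup.card_dvd_of_le ?_)
      refine inf_le_right.trans ?_
      apply Subgroup.centralizer_le
      exact (le_iSup (fun S : Sylow p Γ => omegaOne p ((S : Subgroup Γ) ⊓ Subgroup.centralizer ((S : Subgroup Γ) : Set Γ))) S)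
  · exact Or.inr h3

/-- `Ω₁ Z(S) ≤ J(S)`. -/
theorem omega_le_thompson (S : Sylow p Γ) :
    omegaOne p ((S : Subgroup Γ) ⊓ Subgroup.centralizer ((S : Subgroup Γ) : Set Γ)) ≤
      thompsonSubgroupOf p (S : Subgroup Γ) := by
  classical
  apply (Subgroup.closure_le _).2
  rintro x ⟨⟨hxS, hxc⟩, hxp⟩
  obtain ⟨A, hA⟩ := Cfsg.Agent.H02.exists_maxEA (G := ↥(S : Subgroup Γ)) p
  let x' : ↥(S : Subgroup Γ) := ⟨x, hxS⟩
  have hx'p : x' ^ p = 1 := Subtype.ext hxp
  have hZ : IsElementaryAbelian p (Subgroup.zpowers x') := by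
    refine ⟨⟨⟨?_⟩⟩, ?_⟩
    · rintro ⟨_, m, rfl⟩ ⟨_, n, rfl⟩
      apply Subtype.ext
      change x' ^ m * x' ^ n = x' ^ n * x' ^ m
      rw [← _root_.zpow_add, ← _root_.zpow_add, add_comm]
    · rintro _ ⟨m, rfl⟩
      change (x' ^ m) ^ p = 1
      rw [← zpow_natCast, zpow_comm, zpow_natCast, hx'p, _root_.one_zpow]
  have hcomm : ∀ a ∈ A, ∀ z ∈ Subgroup.zpowers x', a * z = z * a := by
    rintro a ha _ ⟨m, rfl⟩
    have h1 : a * x' = x' * a := by
      apply Subtype.ext
      exact Subgroup.mem_centralizer_iff.1 hxc a a.2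
    exact ((Commute.zpow_right h1 m) : a * x' ^ m = x' ^ m * a)
  have hsup := ea_sup hA.1 hZ hcomm
  have hle := hA.2 _ hsup
  have heq : A = A ⊔ Subgroup.zpowers x' := Subgroup.eq_of_le_of_card_ge le_sup_left hle
  have hmem : x' ∈ A := by
    rw [heq]
    exact Subgroup.mem_sup_right (Subgroup.mem_zpowers x')
  exact ⟨x', (le_sSup hA : _ ≤ thompsonSubgroup p ↥(S : Subgroup Γ)) hmem, rfl⟩

/-- A nontrivial Sylow subgroup has nontrivial `Ω₁ Z(S)`. -/
theorem omega_ne_bot (S : Sylow p Γ) (hS : (S : Subgroup Γ) ≠ ⊥) :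
    omegaOne p ((S : Subgroup Γ) ⊓ Subgroup.centralizer ((S : Subgroup Γ) : Set Γ)) ≠ ⊥ := by
  classical
  have hpp : p.Prime := hp.out
  haveI : Nontrivial ↥(S : Subgroup Γ) := (Subgroup.nontrivial_iff_ne_bot _).2 hS
  haveI := S.2.center_nontrivial
  obtain ⟨z, hz⟩ := exists_ne (1 : ↥(Subgroup.center ↥(S : Subgroup Γ)))
  have hz1 : ((z : ↥(S : Subgroup Γ)) : Γ) ≠ 1 := by
    intro h
    apply hz
    apply Subtype.ext
    apply Subtype.ext
    exact h
  obtain ⟨k, hk⟩ : ∃ k, orderOf ((z : ↥(S : Subgroup Γ)) : Γ) = p ^ k := by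
    obtain ⟨k, hk⟩ := S.2 z.1
    have : ((z : ↥(S : Subgroup Γ)) : Γ) ^ p ^ k = 1 := congrArg Subtype.val hk
    obtain ⟨j, -, hj⟩ := (Nat.dvd_prime_pow hpp).1 (orderOf_dvd_of_pow_eq_one this)
    exact ⟨j, hj⟩
  have hk0 : k ≠ 0 := by
    rintro rfl
    rw [pow_zero] at hk
    exact hz1 (orderOf_eq_one_iff.1 hk)
  obtain ⟨j, rfl⟩ := Nat.exists_eq_succ_of_ne_zero hk0
  obtain ⟨y, hy⟩ : ∃ y, y = ((z : ↥(S : Subgroup Γ)) : Γ) ^ p ^ j := ⟨_, rfl⟩
  have hyp : y ^ p = 1 := by
    rw [hy, ← pow_mul, ← pow_succ, ← hk, pow_orderOf_eq_one]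
  have hy1 : y ≠ 1 := by
    intro h
    rw [hy] at h
    have h2 := orderOf_dvd_of_pow_eq_one h
    rw [hk] at h2
    have h3 := Nat.le_of_dvd (pow_pos hpp.pos _) h2
    have h4 : p ^ (j.succ) = p ^ j * p := pow_succ _ _
    have h5 := Nat.mul_le_mul_left (p ^ j) hpp.two_le
    have h6 : 0 < p ^ j := pow_pos hpp.pos _
    omega
  intro hbot
  apply hy1
  have hm : y ∈ omegaOne p ((S : Subgroup Γ) ⊓ Subgroup.centralizer ((S : Subgroup Γ) : Set Γ)) := by
    apply Cfsg.Agent.H12.mem_omegaOne_center_of _ _ hyp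
    · rw [hy]
      exact Subgroup.pow_mem _ z.1.2 _
    · intro w hw
      rw [hy]
      have h1 : w * (z : ↥(S : Subgroup Γ)) = (z : ↥(S : Subgroup Γ)) * w := by
        have h2 := Subgroup.mem_center_iff.1 z.2 ⟨w, hw⟩
        exact congrArg Subtype.val h2
      exact ((Commute.pow_right h1 _) : w * _ = _ * w)
  rw [hbot] at hm
  exact Subgroup.mem_bot.1 hm

theorem cent_le_norm {X : Type*} [Group X] (K : Subgroup X) :
    Subgroup.centralizer (K : Set X) ≤ Subgroup.normalizer (K : Set X) := by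
  intro c hc
  rw [Subgroup.mem_normalizer_iff]
  intro x
  constructor
  · intro hx
    have h1 := Subgroup.mem_centralizer_iff.1 hc x hx
    have e : c * x * c⁻¹ = x := by rw [← h1]; group
    rw [e]; exact hx
  · intro hx
    have h1 := Subgroup.mem_centralizer_iff.1 hc _ hx
    have h2 : c * x * c⁻¹ * c = c * (c * x * c⁻¹) := h1
    have h3 : c * x = c * (c * x * c⁻¹) := by
      rw [← h2]; group
    have h4 := mul_left_cancel h3
    rw [h4]; exact hx

theorem IsCh.le_normalizer {X : Type*} [Group X] [Finite X] {S K : Subgroup X} (h : IsCh S K) :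
    S ≤ Subgroup.normalizer (K : Set X) := by
  intro s hs
  apply Cfsg.Agent.H20.mem_normalizer_of_conj_le
  intro y hy
  exact h.2 (MulAut.conj (⟨s, hs⟩ : ↥S)) ⟨y, h.1 hy⟩ hy

/-- The main claim on `p`-constrained `p`-solvable groups. -/
theorem claim (hpq : p ≠ q) (h23 : ¬ ((p = 2 ∧ q = 3) ∨ (p = 3 ∧ q = 2))) :
    ∀ (n : ℕ) (Γ : Type u) [Group Γ] [Finite Γ], Nat.card Γ = n → IsPSolvable p Γ → pPrimeCore p Γ = ⊥ →
      q ∣ Nat.card Γ → ∀ S : Sylow p Γ, ∃ K : Subgroup Γ, IsCh (S : Subgroup Γ) K ∧ q ∣ ai K := by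
  intro n
  induction n using Nat.strong_induction_on with
  | _ n ih =>
  intro Γ _ _ hn hs hO hqΓ S
  classical
  have hqp : q.Prime := hq.out
  have hpp : p.Prime := hp.out
  have sub : ∀ (L : Subgroup Γ) (S₁ : Sylow p ↥L), Nat.card L < n →
      ((S₁ : Subgroup ↥L).map L.subtype = (S : Subgroup Γ) ⊓ L) →
      IsCh (S : Subgroup Γ) ((S : Subgroup Γ) ⊓ L) → pPrimeCore p ↥L = ⊥ → q ∣ Nat.card L →
      ∃ K : Subgroup Γ, IsCh (S : Subgroup Γ) K ∧ q ∣ ai K := by
    intro L S₁ hlt hS₁ hch hOL hqL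
    obtain ⟨K', hK', hq'⟩ := ih _ hlt ↥L rfl (isPSolvable_subgroup' hs L) hOL hqL S₁
    refine ⟨K'.map L.subtype, ?_, hq'.trans (ai_subgroup_dvd L K')⟩
    have h1 := hK'.map L.subtype L.subtype_injective
    rw [hS₁] at h1
    exact hch.trans h1
  have hlt : ∀ L : Subgroup Γ, L ≠ ⊤ → Nat.card L < n := by
    intro L hL
    rw [← hn]
    refine lt_of_le_of_ne (Subgroup.card_le_card_group L) ?_
    intro h
    exact hL (Subgroup.eq_top_of_card_eq L h)
  have subS : ∀ (L : Subgroup Γ), (S : Subgroup Γ) ≤ L → L ≠ ⊤ → pPrimeCore p ↥L = ⊥ → q ∣ Nat.card L →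
      ∃ K : Subgroup Γ, IsCh (S : Subgroup Γ) K ∧ q ∣ ai K := by
    intro L hSL hL hOL hqL
    refine sub L (S.subtype hSL) (hlt L hL) ?_ ?_ hOL hqL
    · rw [Sylow.coe_subtype, Subgroup.subgroupOf_map_subtype]
    · rw [inf_eq_left.2 hSL]
      exact IsCh.refl _
  obtain ⟨Z₁, hZ₁⟩ : ∃ Z₁, Z₁ = omegaOne p ((S : Subgroup Γ) ⊓ Subgroup.centralizer ((S : Subgroup Γ) : Set Γ)) :=
    ⟨_, rfl⟩
  have hZch : IsCh (S : Subgroup Γ) Z₁ := by
    rw [hZ₁]; exact isCh_omega _
  have hZ₁p : IsPGroup p Z₁ := S.2.to_le hZch.1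
  by_cases hZc : Z₁ ≤ Subgroup.center Γ
  · -- central quotient
    have hS : (S : Subgroup Γ) ≠ ⊥ := by
      intro hb
      have h1 : ¬ p ∣ (S : Subgroup Γ).index := S.not_dvd_index
      rw [hb, Subgroup.index_bot] at h1
      have h2 : (⊤ : Subgroup Γ) ≤ pPrimeCore p Γ := by
        apply le_sSup
        refine ⟨inferInstance, ?_⟩
        rw [Subgroup.card_top]
        exact ((Nat.Prime.coprime_iff_not_dvd hpp).2 h1).symm
      rw [hO] at h2
      have h3 : Nat.card Γ = 1 := by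
        rw [← Subgroup.card_top (G := Γ), le_bot_iff.1 h2, Subgroup.card_bot]
      rw [h3] at hqΓ
      exact hqp.one_lt.ne' (Nat.dvd_one.1 hqΓ)
    have hZne : Z₁ ≠ ⊥ := by
      rw [hZ₁]; exact omega_ne_bot S hS
    haveI hZn : Z₁.Normal := by
      constructor
      intro z hz g
      have h1 := Subgroup.mem_center_iff.1 (hZc hz) g
      have e : g * z * g⁻¹ = z := by rw [h1]; group
      rw [e]; exact hz
    let π : Γ →* Γ ⧸ Z₁ := QuotientGroup.mk' Z₁
    have hπ : Function.Surjective π := QuotientGroup.mk'_surjective Z₁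
    have hcard : Nat.card Γ = Nat.card (Γ ⧸ Z₁) * Nat.card Z₁ := Subgroup.card_eq_card_quotient_mul_card_subgroup Z₁
    have hZ1 : 1 < Nat.card Z₁ := Subgroup.one_lt_card_iff_ne_bot _ |>.2 hZne
    have hlt' : Nat.card (Γ ⧸ Z₁) < n := by
      rw [← hn, hcard]
      have : 0 < Nat.card (Γ ⧸ Z₁) := Nat.card_pos
      nlinarith
    have hOb : pPrimeCore p (Γ ⧸ Z₁) = ⊥ := by
      rw [eq_bot_iff]
      apply sSup_le
      rintro Db ⟨hDbn, hDbc⟩
      haveI hDn : (Db.comap π).Normal := Subgroup.Normal.comap hDbn π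
      have hle : Z₁ ≤ Db.comap π := by
        intro z hz
        rw [Subgroup.mem_comap]
        have h1 : π z = 1 := (QuotientGroup.eq_one_iff z).2 hz
        rw [h1]
        exact Db.one_mem
      have hrel : Z₁.relIndex (Db.comap π) = Nat.card Db := by
        have h0 := Subgroup.relIndex_ker (Db.comap π) π
        have h1 : π.ker = Z₁ := QuotientGroup.ker_mk' Z₁
        rw [h1, Subgroup.map_comap_eq_self_of_surjective hπ] at h0
        exact h0
      have h2 := Cfsg.Agent.H08.eq_of_central_sylow hO (Db.comap π) Z₁ hDn hle hZ₁p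
        (fun z hz c _ => (Subgroup.mem_center_iff.1 (hZc hz) c).symm) (by rw [hrel]; exact hDbc)
      intro x hx
      obtain ⟨y, rfl⟩ := hπ x
      have h3 : y ∈ Db.comap π := hx
      rw [h2] at h3
      exact Subgroup.mem_bot.2 ((QuotientGroup.eq_one_iff y).2 h3)
    have hqb : q ∣ Nat.card (Γ ⧸ Z₁) := by
      rw [hcard] at hqΓ
      rcases (Nat.Prime.dvd_mul hqp).1 hqΓ with h | h
      · exact h
      · exfalso
        obtain ⟨k, hk⟩ := IsPGroup.iff_card.1 hZ₁p
        rw [hk] at h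
        have := (Nat.prime_dvd_prime_iff_eq hqp hpp).1 (hqp.dvd_of_dvd_pow h)
        exact hpq this.symm
    obtain ⟨Kb, hKb, hqKb⟩ := ih _ hlt' (Γ ⧸ Z₁) rfl (Cfsg.Agent.H03.isPSolvable_of_surjective hπ hs) hOb hqb
      (S.mapSurjective hπ)
    rw [Sylow.coe_mapSurjective] at hKb
    refine ⟨Kb.comap π, IsCh.comap π hπ ?_ hKb, hqKb.trans (ai_comap_dvd π hπ Kb)⟩
    have h1 : π.ker = Z₁ := QuotientGroup.ker_mk' Z₁
    rw [h1]
    exact hZch
  · -- `Z₁` is not central
    have hJch : IsCh (S : Subgroup Γ) (thompsonSubgroupOf p (S : Subgroup Γ)) := isCh_thompson _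
    have hJp : IsPGroup p (thompsonSubgroupOf p (S : Subgroup Γ)) := S.2.to_le hJch.1
    have hZJ : Z₁ ≤ thompsonSubgroupOf p (S : Subgroup Γ) := by
      rw [hZ₁]; exact omega_le_thompson S
    rcases dvd_cases hs hO hpq h23 hqΓ S with h | h
    · rw [← hZ₁] at h
      refine subS _ ?_ ?_ (core_local hs hO Z₁ _ hZ₁p (cent_le_norm _) le_rfl (Or.inr le_rfl)) h
      · intro s hs'
        refine Subgroup.mem_centralizer_iff.2 ?_
        intro z hz
        rw [SetLike.mem_coe, hZ₁] at hz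
        exact (Cfsg.Agent.H12.mem_omegaOne_center hz).2.1 s hs' |>.symm
      · intro htop
        apply hZc
        intro z hz
        refine Subgroup.mem_center_iff.2 ?_
        intro g
        have h1 : g ∈ Subgroup.centralizer (Z₁ : Set Γ) := by
          rw [htop]; exact Subgroup.mem_top g
        exact (Subgroup.mem_centralizer_iff.1 h1 z hz).symm
    · by_cases hN : Subgroup.normalizer (thompsonSubgroupOf p (S : Subgroup Γ) : Set Γ) = ⊤
      · by_cases hqJ : q ∣ ai (thompsonSubgroupOf p (S : Subgroup Γ))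
        · exact ⟨_, hJch, hqJ⟩
        · obtain ⟨J, hJ⟩ : ∃ J, J = thompsonSubgroupOf p (S : Subgroup Γ) := ⟨_, rfl⟩
          rw [← hJ] at hN hqJ hJch hJp hZJ
          haveI hJn : J.Normal := Subgroup.normalizer_eq_top_iff.1 hN
          haveI hCn : (Subgroup.centralizer (J : Set Γ)).Normal := inferInstance
          have hai : ai J = (Subgroup.centralizer (J : Set Γ)).index := by
            change (Subgroup.centralizer (J : Set Γ)).relIndex (Subgroup.normalizer (J : Set Γ)) = _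
            rw [hN, Subgroup.relIndex_top_right]
          rw [hai] at hqJ
          have hqC : q ∣ Nat.card (Subgroup.centralizer (J : Set Γ)) := by
            have h1 := Subgroup.card_mul_index (Subgroup.centralizer (J : Set Γ))
            rw [← h1] at hqΓ
            rcases (Nat.Prime.dvd_mul hqp).1 hqΓ with h2 | h2
            · exact h2
            · exact absurd h2 hqJ
          have hCne : Subgroup.centralizer (J : Set Γ) ≠ ⊤ := by
            intro htop
            apply hZc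
            intro z hz
            refine Subgroup.mem_center_iff.2 ?_
            intro g
            have h1 : g ∈ Subgroup.centralizer (J : Set Γ) := by
              rw [htop]; exact Subgroup.mem_top g
            exact (Subgroup.mem_centralizer_iff.1 h1 z (hZJ hz)).symm
          obtain ⟨P, hP⟩ := Cfsg.Agent.H13.exists_sylow_inf_normal S (Subgroup.centralizer (J : Set Γ))
          exact sub _ P (hlt _ hCne) hP hJch.inf_centralizer
            (core_local hs hO J _ hJp (cent_le_norm _) le_rfl (Or.inr le_rfl)) hqC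
      · exact subS _ hJch.le_normalizer hN
          (core_local hs hO _ _ hJp le_rfl (cent_le_norm _) (Or.inl Subgroup.le_normalizer)) h

end Cfsg.Agent.H20.TQ
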