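import Mathlib
import Cfsg.Prelude.Def_PLocal
import Cfsg.Prelude.Def_Local
import Cfsg.Prelude.Def_SolvableStructure
import Cfsg.Agent.Lib.H20.SP1
import Cfsg.Agent.Lib.H20.TQ2
import Cfsg.Agent.Lib.H14.BOM
import Cfsg.Agent.Lib.H08.PCoreL
import Cfsg.Agent.Lib.H03.PSolv
import Cfsg.Agent.Lib.H02.Schmidt2
import Cfsg.Agent.Lib.H25.GpTh
import Cfsg.Agent.Lib.H06.CN

/-! Step A, Step B, transport, and the automorphism from a Schmidt group. -/

set_option autoImplicit false
set_option linter.unusedVariables false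
set_option linter.style.haveILetI false
set_option linter.unusedSectionVars false
set_option linter.unusedSimpArgs false

namespace Cfsg.Agent.H20.SP

open scoped commutatorElement
open Cfsg Cfsg.Agent.H20.TQ

variable {p : ℕ} [hp : Fact p.Prime]

/-- A central subgroup `Z₁` of `C` with `S/Z₁` abelian: `S` is normal. -/
theorem normal_of_central_quot {C : Type*} [Group C] [Finite C] (hs : IsPSolvable p C) (hO : pPrimeCore p C = ⊥)
    (S : Sylow p C) (Z₁ : Subgroup C) (hZS : Z₁ ≤ S) (hZc : Z₁ ≤ Subgroup.center C)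
    (hcl : ∀ x ∈ (S : Subgroup C), ∀ y ∈ (S : Subgroup C), ⁅x, y⁆ ∈ Z₁) : (S : Subgroup C).Normal := by
  classical
  have hZ₁p : IsPGroup p Z₁ := S.2.to_le hZS
  haveI hZn : Z₁.Normal := by
    constructor
    intro z hz g
    have h1 := Subgroup.mem_center_iff.1 (hZc hz) g
    have e : g * z * g⁻¹ = z := by rw [h1]; group
    rw [e]; exact hz
  let π : C →* C ⧸ Z₁ := QuotientGroup.mk' Z₁
  have hπ : Function.Surjective π := QuotientGroup.mk'_surjective Z₁
  have hOb : pPrimeCore p (C ⧸ Z₁) = ⊥ := by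
    rw [eq_bot_iff]
    apply sSup_le
    rintro Db ⟨hDbn, hDbc⟩
    haveI hDn : (Db.comap π).Normal := Subgroup.Normal.comap hDbn π
    have hle : Z₁ ≤ Db.comap π := by
      intro z hz
      rw [Subgroup.mem_comap]
      have h1 : π z = 1 := (QuotientGroup.eq_one_iff z).2 hz
      rw [h1]
      exact Db.one_mem
    have hrel : Z₁.relIndex (Db.comap π) = Nat.card Db := by
      have h0 := Subgroup.relIndex_ker (Db.comap π) π
      have h1 : π.ker = Z₁ := QuotientGroup.ker_mk' Z₁
      rw [h1, Subgroup.map_comap_eq_self_of_surjective hπ] at h0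
      exact h0
    have h2 := Cfsg.Agent.H08.eq_of_central_sylow hO (Db.comap π) Z₁ hDn hle hZ₁p
      (fun z hz c _ => (Subgroup.mem_center_iff.1 (hZc hz) c).symm) (by rw [hrel]; exact hDbc)
    intro x hx
    obtain ⟨y, rfl⟩ := hπ x
    have h3 : y ∈ Db.comap π := hx
    rw [h2] at h3
    exact Subgroup.mem_bot.2 ((QuotientGroup.eq_one_iff y).2 h3)
  have hsb := Cfsg.Agent.H03.isPSolvable_of_surjective hπ hs
  have hcen := Cfsg.Agent.H03.centralizer_pCore_le_of_isPSolvable hsb hOb
  have hnorm : (pCore p (C ⧸ Z₁)).Normal := Cfsg.Agent.H01.pCore_normal p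
  have hcore : pCore p (C ⧸ Z₁) ≤ ((S.mapSurjective hπ : Sylow p (C ⧸ Z₁)) : Subgroup (C ⧸ Z₁)) :=
    Cfsg.Agent.H01.pCore_le_sylow p _
  rw [Sylow.coe_mapSurjective] at hcore
  have hSle : (S : Subgroup C).map π ≤ pCore p (C ⧸ Z₁) := by
    rintro _ ⟨s, hs', rfl⟩
    apply hcen
    refine Subgroup.mem_centralizer_iff.2 ?_
    intro t ht
    obtain ⟨s', hs'', rfl⟩ := hcore ht
    have h1 := hcl s' hs'' s hs'
    have h2 : π ⁅s', s⁆ = 1 := (QuotientGroup.eq_one_iff _).2 h1
    rw [map_commutatorElement, commutatorElement_eq_one_iff_commute] at h2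
    exact h2
  constructor
  intro s hs' c
  have h1 : π (c * s * c⁻¹) ∈ pCore p (C ⧸ Z₁) := by
    rw [map_mul, map_mul, map_inv]
    exact hnorm.conj_mem _ (hSle ⟨s, hs', rfl⟩) _
  obtain ⟨s', hs'', hs3⟩ := hcore h1
  have h2 : s'⁻¹ * (c * s * c⁻¹) ∈ Z₁ := by
    apply (QuotientGroup.eq_one_iff _).1
    change π _ = 1
    rw [map_mul, map_inv, hs3, inv_mul_cancel]
  have h3 := (S : Subgroup C).mul_mem hs'' (hZS h2)
  rwa [mul_inv_cancel_left] at h3

/-- Step A. -/
theorem normal_of_center_normal {Γ : Type*} [Group Γ] [Finite Γ] (hs : IsPSolvable p Γ) (hO : pPrimeCore p Γ = ⊥)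
    (S : Sylow p Γ)
    (hcl : ∀ x ∈ (S : Subgroup Γ), ∀ y ∈ (S : Subgroup Γ),
      ⁅x, y⁆ ∈ (S : Subgroup Γ) ⊓ Subgroup.centralizer ((S : Subgroup Γ) : Set Γ))
    (hZ : ((S : Subgroup Γ) ⊓ Subgroup.centralizer ((S : Subgroup Γ) : Set Γ)).Normal) : (S : Subgroup Γ).Normal := by
  classical
  obtain ⟨Z, hZd⟩ : ∃ Z, Z = (S : Subgroup Γ) ⊓ Subgroup.centralizer ((S : Subgroup Γ) : Set Γ) := ⟨_, rfl⟩
  rw [← hZd] at hcl hZ
  have hZS : Z ≤ S := by rw [hZd]; exact inf_le_left
  have hZp : IsPGroup p Z := S.2.to_le hZS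
  obtain ⟨L, hL⟩ : ∃ L, L = Subgroup.centralizer (Z : Set Γ) := ⟨_, rfl⟩
  haveI hLn : L.Normal := by rw [hL]; infer_instance
  have hOL : pPrimeCore p ↥L = ⊥ := by
    rw [hL]
    exact core_local hs hO Z _ hZp (cent_le_norm Z) le_rfl (Or.inr le_rfl)
  have hsL : IsPSolvable p ↥L := Cfsg.Agent.H14.isPSolvable_subgroup' hs L
  have hSL : (S : Subgroup Γ) ≤ L := by
    rw [hL]
    intro s hs'
    refine Subgroup.mem_centralizer_iff.2 ?_
    intro z hz
    have hz' : z ∈ Z := hz
    rw [hZd] at hz'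
    exact (Subgroup.mem_centralizer_iff.1 hz'.2 s hs').symm
  have hS₁ : ((S.subtype hSL : Sylow p ↥L) : Subgroup ↥L) = (S : Subgroup Γ).subgroupOf L := by
    rw [Sylow.coe_subtype]
  have hn := normal_of_central_quot hsL hOL (S.subtype hSL) (Z.subgroupOf L)
    (by rw [hS₁]; exact fun z hz => hZS hz)
    (by
      intro z hz
      rw [Subgroup.mem_center_iff]
      intro g
      apply Subtype.ext
      have hg : (g : Γ) ∈ Subgroup.centralizer (Z : Set Γ) := hL ▸ g.2
      exact (Subgroup.mem_centralizer_iff.1 hg z hz).symm)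
    (by
      intro x hx y hy
      rw [hS₁] at hx hy
      exact hcl x hx y hy)
  rw [hS₁] at hn
  have hnL : L ≤ Subgroup.normalizer ((S : Subgroup Γ) : Set Γ) := by
    intro l hl
    apply Cfsg.Agent.H20.mem_normalizer_of_conj_le
    intro s hs'
    have h1 : (⟨s, hSL hs'⟩ : ↥L) ∈ (S : Subgroup Γ).subgroupOf L := hs'
    have h2 := hn.conj_mem _ h1 ⟨l, hl⟩
    exact h2
  have hFr := Sylow.normalizer_sup_eq_top (S.subtype hSL)
  have h3 : ((S.subtype hSL : Sylow p ↥L) : Subgroup ↥L).map L.subtype = S := by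
    rw [hS₁, Subgroup.subgroupOf_map_subtype, inf_eq_left.2 hSL]
  rw [h3, sup_eq_left.2 hnL] at hFr
  exact Subgroup.normalizer_eq_top_iff.1 hFr

/-- Step B. -/
theorem center_normal_of_factorizable {Γ : Type*} [Group Γ] [Finite Γ] (hO : pPrimeCore p Γ = ⊥)
    (S : Sylow p Γ) (hf : IsThompsonFactorizable p Γ)
    (hZ1 : ∀ z ∈ (S : Subgroup Γ) ⊓ Subgroup.centralizer ((S : Subgroup Γ) : Set Γ), z ^ p = 1)
    (hJ : thompsonSubgroupOf p (S : Subgroup Γ) = S ∨
      thompsonSubgroupOf p (S : Subgroup Γ) ≤ (S : Subgroup Γ) ⊓ Subgroup.centralizer ((S : Subgroup Γ) : Set Γ)) :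
    ((S : Subgroup Γ) ⊓ Subgroup.centralizer ((S : Subgroup Γ) : Set Γ)).Normal := by
  classical
  have hΩ : (S : Subgroup Γ) ⊓ Subgroup.centralizer ((S : Subgroup Γ) : Set Γ) ≤
      omegaOne p ((S : Subgroup Γ) ⊓ Subgroup.centralizer ((S : Subgroup Γ) : Set Γ)) := fun z hz =>
    Subgroup.subset_closure ⟨hz, hZ1 z hz⟩
  constructor
  intro z hz g
  obtain ⟨x, hx, c, hc, n, hn, rfl⟩ := hf S g
  rw [hO] at hx
  rw [Subgroup.mem_bot.1 hx, one_mul]
  have hy : n * z * n⁻¹ ∈ (S : Subgroup Γ) ⊓ Subgroup.centralizer ((S : Subgroup Γ) : Set Γ) := by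
    rcases hJ with hJ | hJ
    · rw [hJ] at hn
      have h1 : n * z * n⁻¹ ∈ (S : Subgroup Γ) := (Subgroup.mem_normalizer_iff.1 hn z).1 hz.1
      refine ⟨h1, Subgroup.mem_centralizer_iff.2 ?_⟩
      intro s hs'
      have h2 : n⁻¹ * s * n⁻¹⁻¹ ∈ (S : Subgroup Γ) :=
        (Subgroup.mem_normalizer_iff.1 (Subgroup.inv_mem _ hn) s).1 hs'
      have h3 := Subgroup.mem_centralizer_iff.1 hz.2 _ h2
      calc s * (n * z * n⁻¹) = n * ((n⁻¹ * s * n⁻¹⁻¹) * z) * n⁻¹ := by group
        _ = n * (z * (n⁻¹ * s * n⁻¹⁻¹)) * n⁻¹ := by rw [h3]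
        _ = n * z * n⁻¹ * s := by group
    · have heq : thompsonSubgroupOf p (S : Subgroup Γ) =
          (S : Subgroup Γ) ⊓ Subgroup.centralizer ((S : Subgroup Γ) : Set Γ) :=
        le_antisymm hJ (hΩ.trans (omega_le_thompson S))
      rw [heq] at hn
      exact (Subgroup.mem_normalizer_iff.1 hn z).1 hz
  have h4 := Subgroup.mem_centralizer_iff.1 hc _ (hΩ hy)
  have e : c * n * z * (c * n)⁻¹ = n * z * n⁻¹ := by
    calc c * n * z * (c * n)⁻¹ = (c * (n * z * n⁻¹)) * c⁻¹ := by group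
      _ = (n * z * n⁻¹ * c) * c⁻¹ := by rw [← h4]
      _ = n * z * n⁻¹ := by group
  rw [e]
  exact hy

/-- Transport along an isomorphism. -/
theorem SPT.transport {q : ℕ} {T T' : Type*} [Group T] [Group T'] {α : MulAut T} (h : SPT p q T α) (f : T ≃* T') :
    ∃ α' : MulAut T', SPT p q T' α' := by
  let α' : MulAut T' := f.symm.trans (α.trans f)
  have hα : ∀ x, α' x = f (α (f.symm x)) := fun x => rfl
  have hpow : ∀ (n : ℕ) (x : T'), (α' ^ n) x = f ((α ^ n) (f.symm x)) := by
    intro n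
    induction n with
    | zero => intro x; simp
    | succ n ih =>
      intro x
      rw [pow_succ', pow_succ', MulAut.mul_apply, MulAut.mul_apply, ih, hα]
      simp
  refine ⟨α', ?_, h.hqp, ?_, ?_, ?_⟩
  · intro x
    obtain ⟨k, hk⟩ := h.hT (f.symm x)
    refine ⟨k, ?_⟩
    apply f.symm.injective
    rw [map_pow, hk, map_one]
  · intro x
    rw [hpow, h.hq1]
    simp
  · obtain ⟨x, hx⟩ := h.hne
    refine ⟨f x, ?_⟩
    rw [hα]
    intro he
    apply hx
    apply f.injective
    simpa using he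
  · intro K hK hinv x hx
    have h1 := h.hK (K.comap f.toMonoidHom) (by
      intro htop
      apply hK
      rw [eq_top_iff]
      intro y _
      have : f.symm y ∈ K.comap f.toMonoidHom := by rw [htop]; trivial
      simpa using this) (by
      intro y hy
      rw [Subgroup.mem_comap] at hy ⊢
      have h2 := hinv _ hy
      rw [hα] at h2
      simpa using h2) (f.symm x) (by simpa using hx)
    rw [hα, h1]
    simp

/-- The automorphism from a Schmidt group with normal Sylow `p`-subgroup. -/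
theorem exists_spt_of_schmidt {X : Type*} [Group X] [Finite X] (hX : IsMinimalNonNilpotent X)
    (P : Sylow p X) (hPn : (P : Subgroup X).Normal) (hP1 : (P : Subgroup X) ≠ ⊥) :
    ∃ (q : ℕ) (_ : Fact q.Prime) (α : MulAut ↥(P : Subgroup X)), SPT p q ↥(P : Subgroup X) α := by
  classical
  obtain ⟨r, s, hr, hs, hrs, R, S, hRc, hSn, hsup, hnc⟩ := Cfsg.Agent.H02.schmidt hX
  have hpp : p.Prime := hp.out
  have hrp : r.Prime := hr.out
  have hsp : s.Prime := hs.out
  have hdis : Disjoint (R : Subgroup X) (S : Subgroup X) := IsPGroup.disjoint_of_ne r s hrs (R : Subgroup X) (S : Subgroup X) R.2 S.2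
  have hcomm_of : (R : Subgroup X).Normal → False := by
    intro hRn
    apply hnc
    intro x hx y hy
    exact Subgroup.commute_of_normal_of_disjoint _ _ hRn hSn hdis x y hx hy
  have hps : p = s := by
    have hc := Cfsg.Agent.H25.card_sup_mul_inf (X := (S : Subgroup X)) (Y := (R : Subgroup X))
      (by rw [Subgroup.normalizer_eq_top_iff.2 hSn]; exact le_top)
    have htop : (S : Subgroup X) ⊔ R = ⊤ := by rw [sup_comm]; exact hsup
    rw [htop, Subgroup.card_top] at hc
    have hd1 : p ∣ Nat.card X := by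
      obtain ⟨k, hk⟩ := IsPGroup.iff_card.1 P.2
      have hk0 : k ≠ 0 := by
        rintro rfl
        rw [pow_zero] at hk
        exact hP1 (Subgroup.eq_bot_of_card_eq _ hk)
      have h1 : p ∣ Nat.card (P : Subgroup X) := by
        rw [hk]; exact dvd_pow_self p hk0
      exact h1.trans (Subgroup.card_subgroup_dvd_card _)
    have hd2 : p ∣ Nat.card (S : Subgroup X) * Nat.card (R : Subgroup X) := by
      rw [← hc]; exact hd1.mul_right _
    rcases (Nat.Prime.dvd_mul hpp).1 hd2 with h1 | h1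
    · obtain ⟨k, hk⟩ := IsPGroup.iff_card.1 S.2
      rw [hk] at h1
      exact (Nat.prime_dvd_prime_iff_eq hpp hsp).1 (hpp.dvd_of_dvd_pow h1)
    · exfalso
      obtain ⟨k, hk⟩ := IsPGroup.iff_card.1 R.2
      rw [hk] at h1
      have hpr := (Nat.prime_dvd_prime_iff_eq hpp hrp).1 (hpp.dvd_of_dvd_pow h1)
      subst hpr
      haveI : Unique (Sylow p X) := Sylow.unique_of_normal P hPn
      have : R = P := Subsingleton.elim _ _
      rw [this] at hcomm_of
      exact hcomm_of hPn
  subst hps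
  haveI : Unique (Sylow p X) := Sylow.unique_of_normal P hPn
  have hSP : S = P := Subsingleton.elim _ _
  subst hSP
  obtain ⟨g, hg⟩ := IsCyclic.exists_generator (α := ↥(R : Subgroup X))
  obtain ⟨y, hy⟩ : ∃ y : X, y = (g : X) := ⟨_, rfl⟩
  have hyR : y ∈ (R : Subgroup X) := by rw [hy]; exact g.2
  have hRy : (R : Subgroup X) = Subgroup.zpowers y := by
    apply le_antisymm
    · intro z hz
      obtain ⟨n, hn⟩ := Subgroup.mem_zpowers_iff.1 (hg ⟨z, hz⟩)
      refine Subgroup.mem_zpowers_iff.2 ⟨n, ?_⟩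
      have := congrArg Subtype.val hn
      rw [hy]
      simpa using this
    · rw [Subgroup.zpowers_le]; exact hyR
  have hcardR : Nat.card (R : Subgroup X) = orderOf y := by
    rw [hRy, Nat.card_zpowers]
  have hcop : ∀ a ∈ (S : Subgroup X), ∀ t ∈ (R : Subgroup X), (orderOf a).Coprime (orderOf t) := by
    intro a ha t ht
    obtain ⟨k, hk⟩ := S.2 ⟨a, ha⟩
    obtain ⟨m, hm⟩ := R.2 ⟨t, ht⟩
    have h1 : a ^ p ^ k = 1 := congrArg Subtype.val hk
    have h2 : t ^ r ^ m = 1 := congrArg Subtype.val hm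
    exact Nat.Coprime.coprime_dvd_left (orderOf_dvd_of_pow_eq_one h1)
      (Nat.Coprime.coprime_dvd_right (orderOf_dvd_of_pow_eq_one h2)
        (Nat.Coprime.pow _ _ ((Nat.coprime_primes hpp hrp).2 hrs.symm)))
  have hcX : Nat.card X = Nat.card (S : Subgroup X) * Nat.card (R : Subgroup X) := by
    have hc := Cfsg.Agent.H25.card_sup_mul_inf (X := (S : Subgroup X)) (Y := (R : Subgroup X))
      (by rw [Subgroup.normalizer_eq_top_iff.2 hSn]; exact le_top)
    have htop : (S : Subgroup X) ⊔ R = ⊤ := by rw [sup_comm]; exact hsup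
    have hbot : (S : Subgroup X) ⊓ R = ⊥ := by rw [inf_comm]; exact hdis.eq_bot
    rw [htop, Subgroup.card_top, hbot, Subgroup.card_bot, mul_one] at hc
    exact hc
  have hnil : ∀ (A : Subgroup X) (t : X), t ∈ (R : Subgroup X) → A ≤ S →
      Subgroup.zpowers t ≤ Subgroup.normalizer (A : Set X) → Nat.card A * orderOf t < Nat.card X →
      ∀ a ∈ A, a * t = t * a := by
    intro A t ht hAS hnorm hlt a ha
    have hc := Cfsg.Agent.H25.card_sup_mul_inf hnorm
    have hW : A ⊔ Subgroup.zpowers t ≠ ⊤ := by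
      intro htop
      rw [htop, Subgroup.card_top, Nat.card_zpowers] at hc
      have h1 : 0 < Nat.card ↥(A ⊓ Subgroup.zpowers t) := Nat.card_pos
      nlinarith
    exact Cfsg.Agent.H06.commute_of_coprime_order_sub (hX.2 _ hW) (Subgroup.mem_sup_left ha)
      (Subgroup.mem_sup_right (Subgroup.mem_zpowers t)) (hcop a (hAS ha) t ht)
  have hRpos : 0 < Nat.card (R : Subgroup X) := Nat.card_pos
  refine ⟨r, hr, MulAut.conjNormal y, ?_⟩
  have hconj : ∀ (t : X) (x : ↥(S : Subgroup X)), ((MulAut.conjNormal t x : ↥(S : Subgroup X)) : X) = t * x * t⁻¹ :=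
    fun t x => MulAut.conjNormal_apply t x
  refine ⟨S.2, hrs, ?_, ?_, ?_⟩
  · -- order
    intro x
    have hR1 : (R : Subgroup X) ≠ ⊥ := by
      rintro hb
      apply hnc
      intro a ha b hb'
      rw [hb, Subgroup.mem_bot] at ha
      rw [ha, one_mul, mul_one]
    have hrd : r ∣ orderOf y := by
      rw [← hcardR]
      obtain ⟨k, hk⟩ := IsPGroup.iff_card.1 R.2
      have hk0 : k ≠ 0 := by
        rintro rfl
        rw [pow_zero] at hk
        exact hR1 (Subgroup.eq_bot_of_card_eq _ hk)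
      rw [hk]
      exact dvd_pow_self r hk0
    have hord : orderOf (y ^ r) < orderOf y := by
      rw [orderOf_pow_of_dvd hrp.ne_zero hrd]
      exact Nat.div_lt_self (orderOf_pos y) hrp.one_lt
    have hcomm := hnil S (y ^ r) (Subgroup.pow_mem _ hyR r) le_rfl
      (by rw [Subgroup.normalizer_eq_top_iff.2 hSn]; exact le_top)
      (by
        rw [hcX, hcardR]
        exact Nat.mul_lt_mul_of_pos_left hord Nat.card_pos)
      (x : X) x.2
    apply Subtype.ext
    rw [← map_pow, hconj, ← hcomm]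
    group
  · -- nontrivial
    by_contra hall
    push Not at hall
    apply hnc
    intro a ha b hb
    have h1 : b * y = y * b := by
      have h2 := congrArg Subtype.val (hall ⟨b, hb⟩)
      rw [hconj] at h2
      change y * b * y⁻¹ = b at h2
      calc b * y = (y * b * y⁻¹) * y := by rw [h2]
        _ = y * b := by group
    rw [hRy] at ha
    obtain ⟨n, rfl⟩ := ha
    exact ((Commute.zpow_left (show Commute y b from h1.symm) n) : y ^ n * b = b * y ^ n)
  · intro K hK hinv x hx
    have hnorm : Subgroup.zpowers y ≤ Subgroup.normalizer ((K.map (S : Subgroup X).subtype : Subgroup X) : Set X) := by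
      rw [Subgroup.zpowers_le]
      apply Cfsg.Agent.H20.mem_normalizer_of_conj_le
      rintro _ ⟨k, hk, rfl⟩
      refine ⟨MulAut.conjNormal y k, hinv k hk, ?_⟩
      exact hconj y k
    have hcardK : Nat.card ↥(K.map (S : Subgroup X).subtype) = Nat.card K :=
      Subgroup.card_map_of_injective (S : Subgroup X).subtype_injective
    have hlt : Nat.card K < Nat.card ↥(S : Subgroup X) := by
      refine lt_of_le_of_ne (Subgroup.card_le_card_group K) ?_
      intro he
      exact hK (Subgroup.eq_top_of_card_eq K he)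
    have hcomm := hnil (K.map (S : Subgroup X).subtype) y hyR (by
        rintro _ ⟨k, -, rfl⟩
        exact k.2) hnorm (by
        rw [hcardK, hcX, hcardR]
        exact Nat.mul_lt_mul_of_pos_right hlt (by rw [← hcardR]; exact hRpos))
      (x : X) ⟨x, hx, rfl⟩
    apply Subtype.ext
    rw [hconj, ← hcomm]
    group

end Cfsg.Agent.H20.SP
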