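import Mathlib
import Cfsg.Agent.Lib.H20.SP2
import Cfsg.Agent.Lib.H14.BO11

/-! The failure-of-factorization data translated to the group itself. -/

set_option autoImplicit false
set_option linter.unusedVariables false
set_option linter.style.haveILetI false
set_option linter.unusedSectionVars false
set_option linter.unusedSimpArgs false

namespace Cfsg.Agent.H20.SP

open scoped commutatorElement
open Cfsg Cfsg.Agent.H14

variable {p : ℕ} [hp : Fact p.Prime]

theorem hol_interface {Γ : Type*} [Group Γ] [Finite Γ] (V : Subgroup Γ) [hVn : V.Normal]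
    (hV : IsElementaryAbelian p V) (hs : IsPSolvable p Γ)
    (hO' : ∀ M : Subgroup Γ, M.Normal → (∀ x ∈ M, ∃ k : ℕ, x ^ p ^ k ∈ Subgroup.centralizer (V : Set Γ)) →
      M ≤ Subgroup.centralizer (V : Set Γ))
    {A₁ : Subgroup Γ} (hA₁ : A₁ ∈ maxElementaryAbelianSubgroups p Γ)
    (hA₁V : ¬ A₁ ≤ Subgroup.centralizer (V : Set Γ)) :
    ∃ (a₀ u₀ w₀ g : Γ) (c : ℕ), a₀ ∈ A₁ ∧ u₀ ∈ V ∧ w₀ ∈ V ∧ g ∈ thompsonSubgroup p Γ ∧
      a₀ * w₀ * a₀⁻¹ = u₀ * w₀ ∧ g * u₀ * g⁻¹ = w₀ ^ c * u₀ ∧ u₀ ≠ 1 ∧ w₀ ≠ 1 ∧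
      (∀ k : ℕ, w₀ ^ c ≠ u₀ ^ k) ∧
      (∀ x ∈ thompsonSubgroup p Γ, ∃ i j : ℕ, x * w₀ * x⁻¹ = u₀ ^ i * w₀ ^ j) ∧
      (∀ y ∈ thompsonSubgroup p Γ, y * u₀ * y⁻¹ = u₀ → y * w₀ * y⁻¹ = w₀ →
        (∀ z ∈ V, ∃ k : ℕ, y * z * y⁻¹ * z⁻¹ = u₀ ^ k) → y ∈ Subgroup.centralizer (V : Set Γ)) ∧
      (p = 2 ∨ p = 3) := by
  classical
  have hF := hol_FFS V hV hs hO' (thompsonSubgroup p Γ)
  have hS3 := thompson_hS3 V hV hs hO'
  obtain ⟨H, hH⟩ : ∃ H, H = (thompsonSubgroup p Γ).map (holF V) := ⟨_, rfl⟩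
  rw [← hH] at hF hS3
  obtain ⟨K, hK⟩ : ∃ K, K = (pPrimeCore p ↥H).map H.subtype := ⟨_, rfl⟩
  rw [← hK] at hF
  have hB := maxea_best V hV hs hO' (Y := ⊤) hA₁
  obtain ⟨B, hBd⟩ : ∃ B, B = A₁.map (holF V) := ⟨_, rfl⟩
  rw [← hBd] at hB
  have hJH : ∀ x ∈ thompsonSubgroup p Γ, holF V x ∈ H := by
    intro x hx
    rw [hH]
    exact ⟨x, hx, rfl⟩
  have hBH : B ≤ H := by
    rw [hBd]
    rintro _ ⟨a, ha, rfl⟩
    exact hJH a ((le_sSup hA₁ : A₁ ≤ thompsonSubgroup p Γ) ha)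
  have hBV : ⁅holV V, B⁆ ≠ ⊥ := by
    intro hc
    apply hA₁V
    intro a ha
    rw [← holF_eq_one_iff V]
    have haB : holF V a ∈ B := by rw [hBd]; exact ⟨a, ha, rfl⟩
    apply hF.eq_one_of_comm_V (hBH haB)
    intro v hv
    have h1 : ⁅v, holF V a⁆ ∈ ⁅holV V, B⁆ := Subgroup.commutator_mem_commutator hv haB
    rw [hc] at h1
    exact commutatorElement_eq_one_iff_commute.1 (Subgroup.mem_bot.1 h1)
  obtain ⟨k, Bi, hBi, -, hsup⟩ := hF.decomp _ B rfl hBH hB
  have hk : k ≠ 0 := by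
    rintro rfl
    apply hBV
    rw [← hsup, iSup_of_empty]
    exact Subgroup.commutator_bot_right _
  obtain ⟨h1, h2, h3, h4⟩ := hBi ⟨0, Nat.pos_of_ne_zero hk⟩
  obtain ⟨t, hBt, htv⟩ := tv_of_min hF (h1.trans hBH) h2 h3 h4
  have htB : t ∈ B := h1 (by rw [hBt]; exact Subgroup.mem_zpowers t)
  rw [hBd] at htB
  obtain ⟨a₀, ha₀, rfl⟩ := htB
  obtain ⟨b, u, w, c, hP⟩ := exists_PD_of_tv hF htv
  obtain ⟨u', rfl⟩ := hP.uV hF
  obtain ⟨w', rfl⟩ := hP.wV hF
  have hbH := hP.tb.mem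
  rw [hH] at hbH
  obtain ⟨g, hg, rfl⟩ := hbH
  have hconj : ∀ (x : Γ) (v : ↥V), holF V x * holJ V v * (holF V x)⁻¹ =
      holJ V ⟨x * v * x⁻¹, hVn.conj_mem _ v.2 _⟩ := by
    intro x v
    rw [holF_conj]
    congr 1
  have hinj := holJ_inj V
  refine ⟨a₀, u', w', g, c, ha₀, u'.2, w'.2, hg, ?_, ?_, ?_, ?_, ?_, ?_, ?_, hP.p_cases hF⟩
  · have h5 := hP.hau
    rw [hconj, ← map_mul] at h5
    exact congrArg Subtype.val (hinj h5)
  · have h5 := hP.hbu
    rw [hconj, ← map_pow, ← map_mul] at h5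
    exact congrArg Subtype.val (hinj h5)
  · intro he
    apply hP.hu1
    have : u' = 1 := Subtype.ext he
    rw [this, map_one]
  · intro he
    apply hP.hw1
    have : w' = 1 := Subtype.ext he
    rw [this, map_one]
  · intro k₁ he
    have he' : w' ^ c = u' ^ k₁ := Subtype.ext he
    have hy1 : holJ V w' ^ c ∈ tvL (holV V) (holF V g) := by
      rw [← hP.zp_b hF]
      exact Subgroup.pow_mem _ (Subgroup.mem_zpowers _) _
    have hy2 : holJ V w' ^ c ∈ tvL (holV V) (holF V a₀) := by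
      rw [← hP.zp_a hF, ← map_pow, he', map_pow]
      exact Subgroup.pow_mem _ (Subgroup.mem_zpowers _) _
    have hy3 : holJ V w' ^ c ∈ tvL (holV V) (holF V a₀) ⊓ tvL (holV V) (holF V g) := ⟨hy2, hy1⟩
    rw [hP.inf_bot hF] at hy3
    exact hP.y_ne hF (Subgroup.mem_bot.1 hy3)
  · intro x hx
    have hX := hJH x hx
    have hnW := H_norm_wc hF hP hS3 hX
    have hwW : holJ V w' ∈ wc (holV V) K (holF V a₀) := by
      rw [hP.wc_eq hF]
      exact Subgroup.mem_sup_right hP.hw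
    have h5 := (Subgroup.mem_normalizer_iff.1 hnW _).1 hwW
    rw [hP.wc_eq hF] at h5
    obtain ⟨s, hs', r, hr, h6⟩ := Cfsg.Agent.H01.exists_mul_of_mem_sup (hP.tvL_norm hF) h5
    rw [← hP.zp_a hF] at hs'
    rw [← hP.zp_b hF] at hr
    obtain ⟨i, hi⟩ := mem_powers_iff_mem_zpowers.2 hs'
    obtain ⟨j, hj⟩ := mem_powers_iff_mem_zpowers.2 hr
    refine ⟨i, j, ?_⟩
    have hi' : holJ V u' ^ i = s := hi
    have hj' : holJ V w' ^ j = r := hj
    rw [hconj, ← hi', ← hj', ← map_pow, ← map_pow, ← map_mul] at h6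
    exact congrArg Subtype.val (hinj h6)
  · intro y hy hyu hyw hyz
    rw [← holF_eq_one_iff V]
    have hY := hJH y hy
    apply hF.eq_one_of_comm_V hY
    have hfix : ∀ v : ↥V, y * v * y⁻¹ = v → holJ V v * holF V y = holF V y * holJ V v := by
      intro v hv
      have h5 := hconj y v
      have h6 : (⟨y * v * y⁻¹, hVn.conj_mem _ v.2 _⟩ : ↥V) = v := Subtype.ext hv
      rw [h6] at h5
      calc holJ V v * holF V y = (holF V y * holJ V v * (holF V y)⁻¹) * holF V y := by rw [h5]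
        _ = holF V y * holJ V v := by group
    have hwc : ∀ m ∈ wc (holV V) K (holF V a₀), m * holF V y = holF V y * m := by
      have hle : wc (holV V) K (holF V a₀) ≤ Subgroup.centralizer ({holF V y} : Set _) := by
        rw [hP.wc_eq hF]
        refine sup_le ?_ ?_
        · rw [← hP.zp_a hF, Subgroup.zpowers_le, Subgroup.mem_centralizer_iff]
          intro e he
          rw [Set.mem_singleton_iff] at he
          rw [he]
          exact (hfix u' hyu).symm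
        · rw [← hP.zp_b hF, Subgroup.zpowers_le, Subgroup.mem_centralizer_iff]
          intro e he
          rw [Set.mem_singleton_iff] at he
          rw [he]
          exact (hfix w' hyw).symm
      intro m hm
      exact (Subgroup.mem_centralizer_iff.1 (hle hm) _ rfl).symm
    intro v hv
    obtain ⟨m, hm, z, hz, rfl⟩ := hP.split hF hv
    have hzc : z * holF V y = holF V y * z := by
      have hYz := norm_zc hF hY (H_norm_ec hF hP hS3 hY)
      have h5 := (Subgroup.mem_normalizer_iff.1 hYz z).1 hz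
      obtain ⟨z', rfl⟩ := hz.1
      have h6 : holF V y * holJ V z' * (holF V y)⁻¹ * (holJ V z')⁻¹ ∈ zc (holV V) K (holF V a₀) :=
        Subgroup.mul_mem _ h5 (Subgroup.inv_mem _ hz)
      obtain ⟨k₁, hk₁⟩ := hyz z' z'.2
      have h7 : holF V y * holJ V z' * (holF V y)⁻¹ * (holJ V z')⁻¹ = holJ V u' ^ k₁ := by
        rw [hconj, ← map_inv, ← map_mul, ← map_pow]
        congr 1
        exact Subtype.ext hk₁
      have h8 : holJ V u' ^ k₁ ∈ wc (holV V) K (holF V a₀) := by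
        rw [hP.wc_eq hF]
        apply Subgroup.mem_sup_left
        rw [← hP.zp_a hF]
        exact Subgroup.pow_mem _ (Subgroup.mem_zpowers _) _
      rw [h7] at h6
      have h9 : holJ V u' ^ k₁ ∈ wc (holV V) K (holF V a₀) ⊓ zc (holV V) K (holF V a₀) := ⟨h8, h6⟩
      rw [hP.wc_inf_zc hF] at h9
      have h10 := Subgroup.mem_bot.1 h9
      rw [← h7] at h10
      have h11 : holF V y * holJ V z' * (holF V y)⁻¹ = holJ V z' := mul_inv_eq_one.1 h10
      calc holJ V z' * holF V y = (holF V y * holJ V z' * (holF V y)⁻¹) * holF V y := by rw [h11]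
        _ = holF V y * holJ V z' := by group
    calc m * z * holF V y = m * (z * holF V y) := by group
      _ = m * (holF V y * z) := by rw [hzc]
      _ = (m * holF V y) * z := by group
      _ = (holF V y * m) * z := by rw [hwc m hm]
      _ = holF V y * (m * z) := by group

end Cfsg.Agent.H20.SP
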