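import Mathlib
import Cfsg.Agent.Lib.H20.SP3
import Cfsg.Agent.Lib.H13.Residual
import Cfsg.Agent.Lib.H14.BO13

/-! No failure of factorization for automorphism-irreducible Sylow subgroups, and normality. -/

set_option autoImplicit false
set_option linter.unusedVariables false
set_option linter.style.haveILetI false
set_option linter.unusedSectionVars false
set_option linter.unusedSimpArgs false

namespace Cfsg.Agent.H20.SP

open scoped commutatorElement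
open Cfsg Cfsg.Agent.H14

variable {p : ℕ} [hp : Fact p.Prime]

theorem no_failure {Γ : Type*} [Group Γ] [Finite Γ] {q : ℕ} [hq : Fact q.Prime]
    (hs : IsPSolvable p Γ) (hO : pPrimeCore p Γ = ⊥) (S : Sylow p Γ)
    {α : MulAut ↥(S : Subgroup Γ)} (h : SPT p q ↥(S : Subgroup Γ) α)
    (hna : ¬ ∀ x y : ↥(S : Subgroup Γ), x * y = y * x) (hnf : ¬ IsThompsonFactorizable p Γ) : False := by
  classical
  have hpp : p.Prime := hp.out
  have hV := omZ_ea hs hO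
  have hO' := omZ_core (p := p) (G := Γ)
  have hJC : ¬ thompsonSubgroup p Γ ≤ Subgroup.centralizer (omZ p Γ : Set Γ) := by
    intro hle
    apply hnf
    refine factorizable_of_le hO hle fun S => ?_
    apply Subgroup.centralizer_le
    exact le_iSup (fun S : Sylow p Γ => omegaOne p ((S : Subgroup Γ) ⊓ Subgroup.centralizer ((S : Subgroup Γ) : Set Γ))) S
  -- central elements of `S`
  have hcen : ∀ x ∈ (S : Subgroup Γ), ∀ y ∈ (S : Subgroup Γ), ∀ t ∈ (S : Subgroup Γ),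
      t * ⁅x, y⁆ = ⁅x, y⁆ * t := by
    intro x hx y hy t ht
    have := Subgroup.mem_center_iff.1 (h.comm_center (⟨x, hx⟩ : ↥(S : Subgroup Γ)) ⟨y, hy⟩) ⟨t, ht⟩
    exact congrArg Subtype.val this
  have hcenter : ∀ z (hz : z ∈ (S : Subgroup Γ)), (∀ y ∈ (S : Subgroup Γ), y * z = z * y) →
      (⟨z, hz⟩ : ↥(S : Subgroup Γ)) ∈ Subgroup.center ↥(S : Subgroup Γ) := by
    intro z hz hc
    rw [Subgroup.mem_center_iff]
    intro y
    exact Subtype.ext (hc y y.2)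
  have hZV' : ∀ z ∈ (S : Subgroup Γ), (∀ y ∈ (S : Subgroup Γ), y * z = z * y) → z ∈ omZ p Γ := by
    intro z hz hc
    have h1 := h.center_pow hna (hcenter z hz hc)
    exact mem_omZ hz hc (congrArg Subtype.val h1)
  have hVS' : omZ p Γ ≤ S :=
    (Cfsg.Agent.H01.le_pCore inferInstance (Cfsg.Agent.H02.ea_isPGroup hV)).trans
      (Cfsg.Agent.H01.pCore_le_sylow p S)
  obtain ⟨V, hVd⟩ : ∃ V, V = omZ p Γ := ⟨_, rfl⟩
  rw [← hVd] at hV hO' hJC hZV' hVS'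
  haveI hVn : V.Normal := by rw [hVd]; infer_instance
  -- a maximal elementary abelian subgroup in `S` moving `V`
  obtain ⟨A, hA, hAV⟩ : ∃ A ∈ maxElementaryAbelianSubgroups p Γ, ¬ A ≤ Subgroup.centralizer (V : Set Γ) := by
    by_contra hcon
    push Not at hcon
    exact hJC (sSup_le hcon)
  obtain ⟨Q, hAQ⟩ := (Cfsg.Agent.H02.ea_isPGroup hA.1).exists_le_sylow
  obtain ⟨g₀, hg₀⟩ := Cfsg.Agent.H20.sylow_conj Q S
  obtain ⟨A₁, hA₁d⟩ : ∃ A₁, A₁ = A.map (MulAut.conj g₀).toMonoidHom := ⟨_, rfl⟩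
  have hA₁ : A₁ ∈ maxElementaryAbelianSubgroups p Γ := by
    rw [hA₁d]; exact maxea_conj hA g₀
  have hA₁S : A₁ ≤ S := by
    rw [hA₁d]
    rintro _ ⟨a, ha, rfl⟩
    rw [hg₀]
    have e : g₀⁻¹ * ((MulAut.conj g₀).toMonoidHom a) * g₀ = a := by
      change g₀⁻¹ * (g₀ * a * g₀⁻¹) * g₀ = a
      group
    rw [e]
    exact hAQ ha
  have hA₁V : ¬ A₁ ≤ Subgroup.centralizer (V : Set Γ) := by
    intro hle
    apply hAV
    intro a ha
    have h1 : g₀ * a * g₀⁻¹ ∈ Subgroup.centralizer (V : Set Γ) := hle (by rw [hA₁d]; exact ⟨a, ha, rfl⟩)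
    have h2 := (inferInstance : (Subgroup.centralizer (V : Set Γ)).Normal).conj_mem _ h1 g₀⁻¹
    have e : g₀⁻¹ * (g₀ * a * g₀⁻¹) * g₀⁻¹⁻¹ = a := by group
    rwa [e] at h2
  -- `J(S) = S`
  have hSJ : (S : Subgroup Γ) ≤ thompsonSubgroup p Γ := by
    have hd := h.dich (K := thompsonSubgroup p ↥(S : Subgroup Γ)) (fun x hx => thompson_map α hx)
    rcases hd with hd | hd
    · intro x hx
      have h1 : (⟨x, hx⟩ : ↥(S : Subgroup Γ)) ∈ thompsonSubgroup p ↥(S : Subgroup Γ) := by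
        rw [hd]; trivial
      have hle : (thompsonSubgroup p ↥(S : Subgroup Γ)).map (S : Subgroup Γ).subtype ≤ thompsonSubgroup p Γ := by
        rw [Subgroup.map_le_iff_le_comap]
        apply sSup_le
        intro B hB y hy
        exact (le_sSup (thompsonOf_le hB) : _ ≤ thompsonSubgroup p Γ) ⟨y, hy, rfl⟩
      exact hle ⟨_, h1, rfl⟩
    · exfalso
      apply hA₁V
      -- `A₁ ≤ Z(S)`
      have hA₂ : A₁.subgroupOf (S : Subgroup Γ) ∈ maxElementaryAbelianSubgroups p ↥(S : Subgroup Γ) := by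
        have hcard : Nat.card ↥(A₁.subgroupOf (S : Subgroup Γ)) = Nat.card A₁ :=
          Nat.card_congr (Subgroup.subgroupOfEquivOfLe hA₁S).toEquiv
        refine ⟨⟨⟨⟨?_⟩⟩, ?_⟩, ?_⟩
        · rintro ⟨a, ha⟩ ⟨b, hb⟩
          apply Subtype.ext
          apply Subtype.ext
          exact Cfsg.Agent.H02.commV_of_ea hA₁.1 _ ha _ hb
        · intro a ha
          apply Subtype.ext
          exact hA₁.1.2 _ ha
        · intro B hB
          rw [hcard]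
          have hB' : IsElementaryAbelian p (B.map (S : Subgroup Γ).subtype) := by
            refine ⟨⟨⟨?_⟩⟩, ?_⟩
            · rintro ⟨_, a, ha, rfl⟩ ⟨_, b, hb, rfl⟩
              apply Subtype.ext
              have h9 := congrArg Subtype.val (Cfsg.Agent.H02.commV_of_ea hB a ha b hb)
              exact h9
            · rintro _ ⟨a, ha, rfl⟩
              exact congrArg Subtype.val (hB.2 a ha)
          have h1 := hA₁.2 _ hB'
          rwa [Subgroup.card_map_of_injective (S : Subgroup Γ).subtype_injective] at h1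
      intro a ha
      have h1 : (⟨a, hA₁S ha⟩ : ↥(S : Subgroup Γ)) ∈ thompsonSubgroup p ↥(S : Subgroup Γ) :=
        (le_sSup hA₂ : _ ≤ thompsonSubgroup p ↥(S : Subgroup Γ)) ha
      have h2 := Subgroup.mem_center_iff.1 (hd h1)
      refine Subgroup.mem_centralizer_iff.2 ?_
      intro v hv
      have h3 := h2 ⟨v, hVS' hv⟩
      exact congrArg Subtype.val h3
  -- the translated data
  obtain ⟨a₀, u₀, w₀, g, c, ha₀A, hu₀V, hw₀V, hgJ, haw, hgu, hu1, hw1, hind, hW, hfixV, h23⟩ :=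
    hol_interface V hV hs hO' hA₁ hA₁V
  have ha₀S := hA₁S ha₀A
  have hu₀S := hVS' hu₀V
  have hw₀S := hVS' hw₀V
  have hVc := Cfsg.Agent.H02.commV_of_ea hV
  have huc : ∀ y ∈ (S : Subgroup Γ), y * u₀ = u₀ * y := by
    intro y hy
    have e : u₀ = ⁅a₀, w₀⁆ := by
      rw [commutatorElement_def, haw]; group
    rw [e]
    exact hcen a₀ ha₀S w₀ hw₀S y hy
  have hup : u₀ ^ p = 1 := hV.2 _ hu₀V
  have hwp : w₀ ^ p = 1 := hV.2 _ hw₀V
  have hou : orderOf u₀ = p := orderOf_eq_prime hup hu1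
  have how : orderOf w₀ = p := orderOf_eq_prime hwp hw1
  have huw : Commute u₀ w₀ := hVc _ hu₀V _ hw₀V
  have hZV : ∀ x ∈ (S : Subgroup Γ), ∀ y ∈ (S : Subgroup Γ), ⁅x, y⁆ ∈ V := by
    intro x hx y hy
    apply hZV' _ ((S : Subgroup Γ).mul_mem ((S : Subgroup Γ).mul_mem ((S : Subgroup Γ).mul_mem hx hy)
      ((S : Subgroup Γ).inv_mem hx)) ((S : Subgroup Γ).inv_mem hy))
    exact hcen x hx y hy
  -- conjugation by `a₀` and by `x`
  have hcommV : ∀ x ∈ (S : Subgroup Γ), ∀ v ∈ V, a₀ * (x * v * x⁻¹) * a₀⁻¹ = x * (a₀ * v * a₀⁻¹) * x⁻¹ := by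
    intro x hx v hv
    have hc := hZV a₀ ha₀S x hx
    have he : x * (a₀ * v * a₀⁻¹) * x⁻¹ ∈ V := hVn.conj_mem _ (hVn.conj_mem _ hv _) _
    have h1 := hVc _ hc _ he
    calc a₀ * (x * v * x⁻¹) * a₀⁻¹ = ⁅a₀, x⁆ * (x * (a₀ * v * a₀⁻¹) * x⁻¹) * ⁅a₀, x⁆⁻¹ := by
          rw [commutatorElement_def]; group
      _ = x * (a₀ * v * a₀⁻¹) * x⁻¹ * ⁅a₀, x⁆ * ⁅a₀, x⁆⁻¹ := by rw [h1]
      _ = _ := by group
  have hcov : ∀ x ∈ (S : Subgroup Γ), ∃ n : ℕ, x * w₀ * x⁻¹ = u₀ ^ n * w₀ := by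
    intro x hx
    obtain ⟨i, j, hij⟩ := hW x (hSJ hx)
    have h1 := hcommV x hx w₀ hw₀V
    rw [hij, haw] at h1
    have e1 : a₀ * (u₀ ^ i * w₀ ^ j) * a₀⁻¹ = (a₀ * u₀ * a₀⁻¹) ^ i * (a₀ * w₀ * a₀⁻¹) ^ j := by
      rw [conj_pow, conj_pow]; group
    have e2 : a₀ * u₀ * a₀⁻¹ = u₀ := by rw [huc a₀ ha₀S]; group
    have e3 : x * (u₀ * w₀) * x⁻¹ = u₀ * (x * w₀ * x⁻¹) := by
      calc x * (u₀ * w₀) * x⁻¹ = (x * u₀) * w₀ * x⁻¹ := by group
        _ = (u₀ * x) * w₀ * x⁻¹ := by rw [huc x hx]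
        _ = _ := by group
    rw [e1, e2, haw, e3, hij, huw.mul_pow] at h1
    have h2 : u₀ ^ i * (u₀ ^ j * w₀ ^ j) = (u₀ ^ i * u₀) * w₀ ^ j := by
      rw [h1, ← mul_assoc, (Commute.self_pow u₀ i).eq]
    have h3 : u₀ ^ j = u₀ := by
      have h4 : (u₀ ^ i * u₀ ^ j) * w₀ ^ j = (u₀ ^ i * u₀) * w₀ ^ j := by
        rw [← h2]; group
      exact mul_left_cancel (mul_right_cancel h4)
    have h5 : j ≡ 1 [MOD p] := by
      rw [← hou]
      apply pow_eq_pow_iff_modEq.1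
      rw [h3, pow_one]
    have h6 : w₀ ^ j = w₀ := by
      have := pow_eq_pow_iff_modEq.2 (by rw [how]; exact h5 : j ≡ 1 [MOD orderOf w₀])
      rwa [pow_one] at this
    exact ⟨i, by rw [hij, h6]⟩
  have hw₀nc : (⟨w₀, hw₀S⟩ : ↥(S : Subgroup Γ)) ∉ Subgroup.center ↥(S : Subgroup Γ) := by
    intro hc
    have h1 := congrArg Subtype.val (Subgroup.mem_center_iff.1 hc ⟨a₀, ha₀S⟩)
    have h2 : a₀ * w₀ = w₀ * a₀ := h1
    apply hu1
    have h3 : a₀ * w₀ * a₀⁻¹ = w₀ := by rw [h2]; group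
    rw [haw] at h3
    exact mul_eq_right.1 h3
  have hse := h.se hna hw₀nc (Subgroup.zpowers (⟨u₀, hu₀S⟩ : ↥(S : Subgroup Γ))) (by
    intro y
    obtain ⟨n, hn⟩ := hcov y y.2
    have hm : (⟨u₀, hu₀S⟩ : ↥(S : Subgroup Γ)) ^ n ∈ Subgroup.zpowers (⟨u₀, hu₀S⟩ : ↥(S : Subgroup Γ)) :=
      Subgroup.pow_mem _ (Subgroup.mem_zpowers _) _
    have he : ⁅(⟨w₀, hw₀S⟩ : ↥(S : Subgroup Γ)), y⁆ = ((⟨u₀, hu₀S⟩ : ↥(S : Subgroup Γ)) ^ n)⁻¹ := by
      apply Subtype.ext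
      change w₀ * (y : Γ) * w₀⁻¹ * (y : Γ)⁻¹ = (u₀ ^ n)⁻¹
      calc w₀ * (y : Γ) * w₀⁻¹ * (y : Γ)⁻¹ = w₀ * ((y : Γ) * w₀ * (y : Γ)⁻¹)⁻¹ := by group
        _ = (u₀ ^ n)⁻¹ := by rw [hn]; group
    rw [he]
    exact Subgroup.inv_mem _ hm)
  have hZu : ∀ z ∈ (S : Subgroup Γ), (∀ y ∈ (S : Subgroup Γ), y * z = z * y) → ∃ k : ℕ, z = u₀ ^ k := by
    intro z hz hc
    have h1 := hse (hcenter z hz hc)
    obtain ⟨k, hk⟩ := mem_powers_iff_mem_zpowers.2 h1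
    have hk' : (⟨u₀, hu₀S⟩ : ↥(S : Subgroup Γ)) ^ k = ⟨z, hz⟩ := hk
    exact ⟨k, (congrArg Subtype.val hk').symm⟩
  have hcomZ : ∀ x ∈ (S : Subgroup Γ), ∀ y ∈ (S : Subgroup Γ), ∃ k : ℕ, ⁅x, y⁆ = u₀ ^ k := by
    intro x hx y hy
    apply hZu _ ((S : Subgroup Γ).mul_mem ((S : Subgroup Γ).mul_mem ((S : Subgroup Γ).mul_mem hx hy)
      ((S : Subgroup Γ).inv_mem hx)) ((S : Subgroup Γ).inv_mem hy))
    exact hcen x hx y hy
  -- `S ⊓ C(V)` is abelian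
  obtain ⟨C, hCd⟩ : ∃ C, C = Subgroup.centralizer (V : Set Γ) := ⟨_, rfl⟩
  haveI hCn : C.Normal := by rw [hCd]; infer_instance
  have hS₁ab : ∀ s ∈ (S : Subgroup Γ), s ∈ C → ∀ t ∈ (S : Subgroup Γ), t ∈ C → s * t = t * s := by
    intro s hs₁ hs₂ t ht₁ ht₂
    by_contra hne
    obtain ⟨P₁, hP₁⟩ := Cfsg.Agent.H13.exists_sylow_inf_normal S C
    have hFr := Sylow.normalizer_sup_eq_top P₁
    rw [hP₁, sup_comm] at hFr
    have hg : g ∈ C ⊔ Subgroup.normalizer (((S : Subgroup Γ) ⊓ C : Subgroup Γ) : Set Γ) := by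
      rw [hFr]; trivial
    have hnC : Subgroup.normalizer (((S : Subgroup Γ) ⊓ C : Subgroup Γ) : Set Γ) ≤ Subgroup.normalizer (C : Set Γ) := by
      rw [Subgroup.normalizer_eq_top_iff.2 hCn]; exact le_top
    obtain ⟨n₁, hn₁, c', hc', hge⟩ := Cfsg.Agent.H01.exists_mul_of_mem_sup' hnC hg
    have hc'u : c' * u₀ * c'⁻¹ = u₀ := by
      have h1 : c' ∈ Subgroup.centralizer (V : Set Γ) := hCd ▸ hc'
      have h2 := Subgroup.mem_centralizer_iff.1 h1 u₀ hu₀V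
      rw [← h2]; group
    have hn₁u : n₁ * u₀ * n₁⁻¹ = w₀ ^ c * u₀ := by
      rw [← hgu, hge]
      calc n₁ * u₀ * n₁⁻¹ = n₁ * (c' * u₀ * c'⁻¹) * n₁⁻¹ := by rw [hc'u]
        _ = _ := by group
    have hs' : n₁ * s * n₁⁻¹ ∈ (S : Subgroup Γ) ⊓ C := (Subgroup.mem_normalizer_iff.1 hn₁ s).1 ⟨hs₁, hs₂⟩
    have ht' : n₁ * t * n₁⁻¹ ∈ (S : Subgroup Γ) ⊓ C := (Subgroup.mem_normalizer_iff.1 hn₁ t).1 ⟨ht₁, ht₂⟩
    obtain ⟨k₁, hk₁⟩ := hcomZ s hs₁ t ht₁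
    obtain ⟨k₂, hk₂⟩ := hcomZ _ hs'.1 _ ht'.1
    have he1 : ⁅s, t⁆ ≠ 1 := fun he => hne (commutatorElement_eq_one_iff_mul_comm.1 he)
    have hzp : Subgroup.zpowers ⁅s, t⁆ = Subgroup.zpowers u₀ := by
      apply zpowers_eq_of_prime_card (p := p) (by rw [Nat.card_zpowers, hou])
      · rw [hk₁]; exact Subgroup.pow_mem _ (Subgroup.mem_zpowers _) _
      · exact he1
    have hum : u₀ ∈ Subgroup.zpowers ⁅s, t⁆ := by rw [hzp]; exact Subgroup.mem_zpowers _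
    obtain ⟨m, hm⟩ := mem_powers_iff_mem_zpowers.2 hum
    have hm' : ⁅s, t⁆ ^ m = u₀ := hm
    have h1 : n₁ * u₀ * n₁⁻¹ = u₀ ^ (k₂ * m) := by
      rw [pow_mul, ← hk₂, ← hm', ← conj_pow]
      congr 1
      simp only [commutatorElement_def]
      group
    rw [hn₁u] at h1
    apply hind (k₂ * m + (p - 1))
    rw [pow_add]
    have hui : u₀ ^ (p - 1) = u₀⁻¹ := by
      apply eq_inv_of_mul_eq_one_left
      rw [← pow_succ, Nat.sub_add_cancel hpp.one_le, hup]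
    rw [hui, ← h1]
    group
  -- `S = ⟨a₀⟩ (S ⊓ C)`
  have hdec : ∀ x ∈ (S : Subgroup Γ), ∃ n : ℕ, (a₀ ^ n)⁻¹ * x ∈ (S : Subgroup Γ) ∧ (a₀ ^ n)⁻¹ * x ∈ C := by
    intro x hx
    obtain ⟨n, hn⟩ := hcov x hx
    have hyS : (a₀ ^ n)⁻¹ * x ∈ (S : Subgroup Γ) :=
      (S : Subgroup Γ).mul_mem ((S : Subgroup Γ).inv_mem ((S : Subgroup Γ).pow_mem ha₀S n)) hx
    refine ⟨n, hyS, ?_⟩
    rw [hCd]
    apply hfixV _ (hSJ hyS)
    · rw [huc _ hyS]; group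
    · have h1 := Cfsg.Agent.H14.conj_pow_of_fix haw (huc a₀ ha₀S) n
      calc (a₀ ^ n)⁻¹ * x * w₀ * ((a₀ ^ n)⁻¹ * x)⁻¹ = (a₀ ^ n)⁻¹ * (x * w₀ * x⁻¹) * a₀ ^ n := by group
        _ = (a₀ ^ n)⁻¹ * (a₀ ^ n * w₀ * (a₀ ^ n)⁻¹) * a₀ ^ n := by rw [hn, h1]
        _ = w₀ := by group
    · intro z hz
      exact hcomZ _ hyS _ (hVS' hz)
  -- `S ⊓ C = ⟨w₀⟩ ⟨u₀⟩`
  have hw₀C : w₀ ∈ C := by
    rw [hCd]
    refine Subgroup.mem_centralizer_iff.2 fun v hv => hVc _ hv _ hw₀V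
  have hS₁dec : ∀ s ∈ (S : Subgroup Γ), s ∈ C → ∃ j k : ℕ, s = w₀ ^ j * u₀ ^ k := by
    intro s hs₁ hs₂
    obtain ⟨j, hj⟩ := hcomZ a₀ ha₀S s hs₁
    obtain ⟨e, he⟩ : ∃ e, e = s * (w₀ ^ j)⁻¹ := ⟨_, rfl⟩
    have heS : e ∈ (S : Subgroup Γ) := by
      rw [he]; exact (S : Subgroup Γ).mul_mem hs₁ ((S : Subgroup Γ).inv_mem ((S : Subgroup Γ).pow_mem hw₀S j))
    have heC : e ∈ C := by
      rw [he]; exact C.mul_mem hs₂ (C.inv_mem (C.pow_mem hw₀C j))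
    have hae : a₀ * e = e * a₀ := by
      have h1 : a₀ * s * a₀⁻¹ = u₀ ^ j * s := by
        rw [← hj, commutatorElement_def]; group
      have h2 : a₀ * w₀ ^ j * a₀⁻¹ = u₀ ^ j * w₀ ^ j := by
        rw [← conj_pow, haw, huw.mul_pow]
      have h3 : a₀ * e * a₀⁻¹ = e := by
        have e1 : a₀ * e * a₀⁻¹ = (a₀ * s * a₀⁻¹) * (a₀ * w₀ ^ j * a₀⁻¹)⁻¹ := by
          rw [he]; group
        rw [e1, h1, h2]
        have h4 : e * u₀ ^ j = u₀ ^ j * e := by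
          exact (Commute.pow_right (show Commute e u₀ from huc e heS) j)
        calc u₀ ^ j * s * (u₀ ^ j * w₀ ^ j)⁻¹ = u₀ ^ j * (s * (w₀ ^ j)⁻¹) * (u₀ ^ j)⁻¹ := by group
          _ = u₀ ^ j * e * (u₀ ^ j)⁻¹ := by rw [he]
          _ = e * u₀ ^ j * (u₀ ^ j)⁻¹ := by rw [h4]
          _ = e := by group
      calc a₀ * e = (a₀ * e * a₀⁻¹) * a₀ := by group
        _ = e * a₀ := by rw [h3]
    have hec : ∀ y ∈ (S : Subgroup Γ), y * e = e * y := by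
      intro y hy
      obtain ⟨n, hn₁, hn₂⟩ := hdec y hy
      have h1 : Commute (a₀ ^ n) e := Commute.pow_left hae n
      have h2 : Commute ((a₀ ^ n)⁻¹ * y) e := hS₁ab _ hn₁ hn₂ _ heS heC
      have h3 : Commute (a₀ ^ n * ((a₀ ^ n)⁻¹ * y)) e := h1.mul_left h2
      rwa [mul_inv_cancel_left] at h3
    obtain ⟨k, hk⟩ := hZu e heS hec
    refine ⟨j, k, ?_⟩
    have h5 : s = e * w₀ ^ j := by rw [he]; group
    rw [h5, hk]
    exact (huw.pow_pow k j).eq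
  have hgen : ∀ x ∈ (S : Subgroup Γ), ∃ i j k : ℕ, x = a₀ ^ i * w₀ ^ j * u₀ ^ k := by
    intro x hx
    obtain ⟨n, hn₁, hn₂⟩ := hdec x hx
    obtain ⟨j, k, hjk⟩ := hS₁dec _ hn₁ hn₂
    refine ⟨n, j, k, ?_⟩
    rw [mul_assoc, ← hjk]
    group
  -- the contradiction
  have hnz : ∀ z (hz : z ∈ (S : Subgroup Γ)) (n : ℕ), ((⟨z, hz⟩ : ↥(S : Subgroup Γ)) ^ n : ↥(S : Subgroup Γ)).1 = z ^ n :=
    fun z hz n => rfl
  refine h.final hna ⟨a₀, ha₀S⟩ ⟨w₀, hw₀S⟩ ⟨u₀, hu₀S⟩ h23 ?_ ?_ ?_ ?_ ?_ ?_ hw₀nc hse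
  · intro x
    obtain ⟨i, j, k, hijk⟩ := hgen x x.2
    exact ⟨i, j, k, Subtype.ext hijk⟩
  · exact Subtype.ext (hA₁.1.2 _ ha₀A)
  · exact Subtype.ext hwp
  · exact Subtype.ext hup
  · intro he
    exact hu1 (congrArg Subtype.val he)
  · exact hcenter u₀ hu₀S huc

theorem normal_of_spt {Γ : Type*} [Group Γ] [Finite Γ] {q : ℕ} [hq : Fact q.Prime]
    (hs : IsPSolvable p Γ) (hO : pPrimeCore p Γ = ⊥) (S : Sylow p Γ)
    {α : MulAut ↥(S : Subgroup Γ)} (h : SPT p q ↥(S : Subgroup Γ) α) : (S : Subgroup Γ).Normal := by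
  classical
  by_cases hna : ∀ x y : ↥(S : Subgroup Γ), x * y = y * x
  · -- abelian
    have hcen := Cfsg.Agent.H03.centralizer_pCore_le_of_isPSolvable hs hO
    have hcore := Cfsg.Agent.H01.pCore_le_sylow p S
    have hle : (S : Subgroup Γ) ≤ pCore p Γ := by
      intro s hs'
      apply hcen
      refine Subgroup.mem_centralizer_iff.2 ?_
      intro t ht
      exact congrArg Subtype.val (hna ⟨t, hcore ht⟩ ⟨s, hs'⟩)
    have heq : (S : Subgroup Γ) = pCore p Γ := le_antisymm hle hcore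
    rw [heq]
    exact Cfsg.Agent.H01.pCore_normal p
  · have hcen : ∀ z (hz : z ∈ (S : Subgroup Γ)), z ∈ Subgroup.centralizer ((S : Subgroup Γ) : Set Γ) ↔
        (⟨z, hz⟩ : ↥(S : Subgroup Γ)) ∈ Subgroup.center ↥(S : Subgroup Γ) := by
      intro z hz
      rw [Subgroup.mem_center_iff, Subgroup.mem_centralizer_iff]
      constructor
      · intro h1 y
        exact Subtype.ext (h1 y y.2)
      · intro h1 y hy
        exact congrArg Subtype.val (h1 ⟨y, hy⟩)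
    have hcl : ∀ x ∈ (S : Subgroup Γ), ∀ y ∈ (S : Subgroup Γ),
        ⁅x, y⁆ ∈ (S : Subgroup Γ) ⊓ Subgroup.centralizer ((S : Subgroup Γ) : Set Γ) := by
      intro x hx y hy
      have hm : ⁅x, y⁆ ∈ (S : Subgroup Γ) := (S : Subgroup Γ).mul_mem ((S : Subgroup Γ).mul_mem
        ((S : Subgroup Γ).mul_mem hx hy) ((S : Subgroup Γ).inv_mem hx)) ((S : Subgroup Γ).inv_mem hy)
      refine ⟨hm, (hcen _ hm).2 ?_⟩
      exact h.comm_center (⟨x, hx⟩ : ↥(S : Subgroup Γ)) ⟨y, hy⟩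
    by_cases hf : IsThompsonFactorizable p Γ
    · apply normal_of_center_normal hs hO S hcl
      apply center_normal_of_factorizable hO S hf
      · intro z hz
        have h1 := h.center_pow hna ((hcen z hz.1).1 hz.2)
        exact congrArg Subtype.val h1
      · have hd := h.dich (K := thompsonSubgroup p ↥(S : Subgroup Γ)) (fun x hx => thompson_map α hx)
        rcases hd with hd | hd
        · left
          unfold thompsonSubgroupOf
          rw [hd, ← MonoidHom.range_eq_map, Subgroup.range_subtype]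
        · right
          rintro _ ⟨y, hy, rfl⟩
          exact ⟨y.2, (hcen _ y.2).2 (hd hy)⟩
    · exact (no_failure hs hO S h hna hf).elim

end Cfsg.Agent.H20.SP
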