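import Mathlib

set_option autoImplicit false
set_option linter.unusedVariables false
set_option linter.unusedSectionVars false
set_option linter.style.haveILetI false

namespace Cfsg.Agent.H20.SY

open Equiv Equiv.Perm

section basics
variable {Ω : Type*} [Fintype Ω] [DecidableEq Ω]

/-- The admissibility condition on `x`: at most two fixed points, and the nontrivial cycles have
distinct lengths. -/
def Adm (x : Perm Ω) : Prop := Fintype.card Ω ≤ x.support.card + 2 ∧ x.cycleType.Nodup

theorem res_pow_coe (x : Perm Ω) (S : Finset Ω) (h : ∀ p, x p ∈ S ↔ p ∈ S) (i : ℕ) (p : S) :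
    (((x.subtypePerm h) ^ i) p : Ω) = (x ^ i) p := by
  induction i with
  | zero => rfl
  | succ n ih =>
    rw [pow_succ', pow_succ', Perm.mul_apply, Perm.mul_apply, ← ih]
    rfl

theorem cycleType_res (x : Perm Ω) (S : Finset Ω) (h : ∀ p, x p ∈ S ↔ p ∈ S) :
    ∃ l : Multiset ℕ, x.cycleType = (x.subtypePerm h).cycleType + l ∧
      l.sum ≤ Fintype.card Ω - S.card := by
  have h' : ∀ p, (x p ∉ S) ↔ (p ∉ S) := fun p => not_congr (h p)
  let y : Perm S := x.subtypePerm h
  let y' : Perm {p // p ∉ S} := x.subtypePerm h'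
  have hd : Perm.Disjoint (Perm.ofSubtype y) (Perm.ofSubtype y') := by
    intro p
    by_cases hp : p ∈ S
    · right
      exact Perm.ofSubtype_apply_of_not_mem _ (not_not.mpr hp)
    · left
      exact Perm.ofSubtype_apply_of_not_mem _ hp
  have hx : x = Perm.ofSubtype y * Perm.ofSubtype y' := by
    ext p
    rw [Perm.mul_apply]
    by_cases hp : p ∈ S
    · rw [Perm.ofSubtype_apply_of_not_mem y' (not_not.mpr hp), Perm.ofSubtype_apply_of_mem y hp]
      rfl
    · rw [Perm.ofSubtype_apply_of_mem y' hp]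
      have : ((y' ⟨p, hp⟩ : {p // p ∉ S}) : Ω) = x p := rfl
      rw [this, Perm.ofSubtype_apply_of_not_mem y ((h' p).mpr hp)]
  refine ⟨y'.cycleType, ?_, ?_⟩
  · conv_lhs => rw [hx, hd.cycleType_mul, Perm.cycleType_ofSubtype, Perm.cycleType_ofSubtype]
  · have h1 := sum_cycleType_le y'
    have h2 : Fintype.card {p // p ∉ S} = Fintype.card Ω - S.card := by
      rw [Fintype.card_subtype_compl, Fintype.card_coe]
    omega

/-- Admissibility passes to restrictions. -/
theorem Adm.res {x : Perm Ω} (hx : Adm x) (S : Finset Ω) (h : ∀ p, x p ∈ S ↔ p ∈ S) :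
    Adm (x.subtypePerm h) := by
  obtain ⟨l, hl, hl2⟩ := cycleType_res x S h
  constructor
  · have h1 := hx.1
    have h2 := sum_cycleType x
    have h3 := sum_cycleType (x.subtypePerm h)
    rw [hl, Multiset.sum_add] at h2
    have h4 : S.card ≤ Fintype.card Ω := Finset.card_le_univ S
    rw [Fintype.card_coe]
    omega
  · have := hx.2
    rw [hl] at this
    exact Multiset.nodup_of_le (Multiset.le_add_right _ _) this

theorem same_cycle_of_card {x : Perm Ω} (hx : x.cycleType.Nodup) {p q : Ω} (hp : x p ≠ p) (hq : x q ≠ q)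
    (h : (x.cycleOf p).support.card = (x.cycleOf q).support.card) : x.SameCycle p q := by
  rw [cycleType_def, Multiset.nodup_map_iff_inj_on x.cycleFactorsFinset.nodup] at hx
  have h1 := hx _ (by
    rw [← Finset.mem_def, cycleOf_mem_cycleFactorsFinset_iff, mem_support]; exact hp) _ (by
    rw [← Finset.mem_def, cycleOf_mem_cycleFactorsFinset_iff, mem_support]; exact hq) h
  have h2 : q ∈ (x.cycleOf q).support := by
    rw [mem_support_cycleOf_iff]
    exact ⟨SameCycle.refl _ _, by rwa [mem_support]⟩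
  rw [← h1, mem_support_cycleOf_iff] at h2
  exact h2.1

theorem pow_mem_of_inv {x : Perm Ω} {S : Finset Ω} (h : ∀ p, x p ∈ S ↔ p ∈ S) (i : ℕ) {p : Ω} (hp : p ∈ S) :
    (x ^ i) p ∈ S := by
  induction i with
  | zero => exact hp
  | succ n ih =>
    rw [pow_succ', Perm.mul_apply, h]
    exact ih

/-- An invariant set on which `x` is transitive is the support of the cycle through any moved point. -/
theorem support_cycleOf_of_trans {x : Perm Ω} {S : Finset Ω} (h : ∀ p, x p ∈ S ↔ p ∈ S)
    (ht : ∀ p ∈ S, ∀ q ∈ S, ∃ i : ℕ, (x ^ i) p = q) {p : Ω} (hp : p ∈ S) (hm : x p ≠ p) :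
    (x.cycleOf p).support = S := by
  ext y
  rw [mem_support_cycleOf_iff]
  constructor
  · rintro ⟨h1, -⟩
    obtain ⟨i, -, rfl⟩ := h1.exists_pow_eq'
    exact pow_mem_of_inv h i hp
  · intro hy
    obtain ⟨i, rfl⟩ := ht p hp y hy
    exact ⟨⟨i, by simp⟩, by rwa [mem_support]⟩

/-- Lemma B: an invariant set of 2-power size with at most one fixed point is a single cycle. -/
theorem single_cycle {x : Perm Ω} (hx : Adm x) {k : ℕ} (hord : orderOf x = 2 ^ k) {C : Finset Ω}
    (hinv : ∀ p, x p ∈ C ↔ p ∈ C) {a : ℕ} (hC : C.card = 2 ^ a)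
    (hfix : ∀ p ∈ C, ∀ q ∈ C, x p = p → x q = q → p = q) :
    ∀ p ∈ C, ∀ q ∈ C, ∃ i : ℕ, (x ^ i) p = q := by
  set y : Perm C := x.subtypePerm hinv with hy
  have hAdm : Adm y := hx.res C hinv
  have hyord : orderOf y ∣ 2 ^ k := by
    apply orderOf_dvd_of_pow_eq_one
    ext p
    rw [res_pow_coe, ← hord, pow_orderOf_eq_one]
    rfl
  -- the entries are powers of two
  have hpow : ∀ n ∈ y.cycleType, 2 ^ (Nat.log 2 n) = n := by
    intro n hn
    obtain ⟨j, -, rfl⟩ := (Nat.dvd_prime_pow Nat.prime_two).1 ((dvd_of_mem_cycleType hn).trans hyord)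
    rw [Nat.log_pow (by norm_num)]
  have hlog : ∀ n ∈ y.cycleType, 1 ≤ Nat.log 2 n := by
    intro n hn
    exact Nat.log_pos (by norm_num) (two_le_of_mem_cycleType hn)
  have hsum : y.cycleType.sum = y.support.card := sum_cycleType y
  -- fixed points
  have hcompl : (y.supportᶜ).card ≤ 1 := by
    rw [Finset.card_le_one]
    intro a ha b hb
    simp only [Finset.mem_compl, mem_support, not_not] at ha hb
    apply Subtype.ext
    exact hfix _ a.2 _ b.2 (congrArg Subtype.val ha) (congrArg Subtype.val hb)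
  have hcard : y.support.card + (y.supportᶜ).card = 2 ^ a := by
    rw [Finset.card_add_card_compl, Fintype.card_coe, hC]
  let E : Finset ℕ := y.cycleType.toFinset.image (Nat.log 2)
  have hEsum : ∑ i ∈ E, 2 ^ i = y.cycleType.sum := by
    rw [Finset.sum_image]
    · rw [Finset.sum_congr rfl (fun n hn => hpow n (Multiset.mem_toFinset.mp hn))]
      rw [Finset.sum_eq_multiset_sum, Multiset.toFinset_val, hAdm.2.dedup]
      simp
    · intro u hu v hv h
      have hu' := hpow u (Multiset.mem_toFinset.mp hu)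
      have hv' := hpow v (Multiset.mem_toFinset.mp hv)
      rw [← hu', ← hv']
      exact congrArg _ h
  have h0E : 0 ∉ E := by
    intro h
    obtain ⟨n, hn, hn0⟩ := Finset.mem_image.mp h
    have := hlog n (Multiset.mem_toFinset.mp hn)
    omega
  have hinj := Finset.geomSum_injective (n := 2) (le_refl 2)
  have hle : (y.supportᶜ).card = 0 ∨ (y.supportᶜ).card = 1 := by omega
  rcases hle with hε | hε
  · -- `x` has no fixed points on `C`
    have h1 : ∑ i ∈ E, 2 ^ i = ∑ i ∈ ({a} : Finset ℕ), 2 ^ i := by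
      rw [hEsum, hsum, Finset.sum_singleton]
      omega
    have hE : E = {a} := hinj h1
    have hcardl : Multiset.card y.cycleType = 1 := by
      rw [← Multiset.toFinset_card_of_nodup hAdm.2]
      apply le_antisymm
      · rw [Finset.card_le_one]
        intro u hu v hv
        have hu1 : Nat.log 2 u ∈ E := Finset.mem_image_of_mem _ hu
        have hv1 : Nat.log 2 v ∈ E := Finset.mem_image_of_mem _ hv
        rw [hE, Finset.mem_singleton] at hu1 hv1
        rw [← hpow u (Multiset.mem_toFinset.mp hu), ← hpow v (Multiset.mem_toFinset.mp hv), hu1, hv1]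
      · have : a ∈ E := by rw [hE]; exact Finset.mem_singleton_self a
        obtain ⟨n, hn, -⟩ := Finset.mem_image.mp this
        exact Finset.card_pos.mpr ⟨n, hn⟩
    have hcyc : y.IsCycle := card_cycleType_eq_one.mp hcardl
    have hall : ∀ u : C, y u ≠ u := by
      intro u
      have : u ∉ y.supportᶜ := by
        rw [Finset.card_eq_zero] at hε
        rw [hε]
        exact Finset.notMem_empty u
      simpa using this
    intro p hp q hq
    obtain ⟨i, hi⟩ := hcyc.exists_pow_eq (hall ⟨p, hp⟩) (hall ⟨q, hq⟩)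
    refine ⟨i, ?_⟩
    have := congrArg Subtype.val hi
    rwa [res_pow_coe] at this
  · have h1 : ∑ i ∈ insert 0 E, 2 ^ i = ∑ i ∈ ({a} : Finset ℕ), 2 ^ i := by
      rw [Finset.sum_insert h0E, hEsum, hsum, Finset.sum_singleton, pow_zero]
      omega
    have hE : insert 0 E = {a} := hinj h1
    have h0a : 0 ∈ ({a} : Finset ℕ) := by rw [← hE]; exact Finset.mem_insert_self _ _
    have ha : a = 0 := (Finset.mem_singleton.mp h0a).symm
    rw [ha, pow_zero] at hC
    intro p hp q hq
    exact ⟨0, (Finset.card_le_one.mp hC.le) p hp q hq⟩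

/-- Two invariant transitive sets of the same size at least two coincide. -/
theorem eq_of_trans {x : Perm Ω} (hx : x.cycleType.Nodup) {S S' : Finset Ω} (h : ∀ p, x p ∈ S ↔ p ∈ S)
    (h' : ∀ p, x p ∈ S' ↔ p ∈ S') (ht : ∀ p ∈ S, ∀ q ∈ S, ∃ i : ℕ, (x ^ i) p = q)
    (ht' : ∀ p ∈ S', ∀ q ∈ S', ∃ i : ℕ, (x ^ i) p = q) (hc : S.card = S'.card) (h2 : 2 ≤ S.card) : S = S' := by
  have hmove : ∀ {T : Finset Ω}, (∀ p ∈ T, ∀ q ∈ T, ∃ i : ℕ, (x ^ i) p = q) → 2 ≤ T.card → ∀ p ∈ T, x p ≠ p := by
    intro T hT hTc p hp hfix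
    obtain ⟨q, hq, hqp⟩ := Finset.exists_mem_ne (by omega : 1 < T.card) p
    obtain ⟨i, hi⟩ := hT p hp q hq
    apply hqp
    rw [← hi]
    have : ∀ n : ℕ, (x ^ n) p = p := by
      intro n
      induction n with
      | zero => rfl
      | succ m ih => rw [pow_succ, Perm.mul_apply, hfix, ih]
    exact this i
  obtain ⟨p, hp⟩ := Finset.card_pos.mp (by omega : 0 < S.card)
  obtain ⟨q, hq⟩ := Finset.card_pos.mp (by omega : 0 < S'.card)
  have hpm := hmove ht h2 p hp
  have hqm := hmove ht' (hc ▸ h2) q hq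
  have e1 := support_cycleOf_of_trans h ht hp hpm
  have e2 := support_cycleOf_of_trans h' ht' hq hqm
  have hs := same_cycle_of_card hx hpm hqm (by rw [e1, e2, hc])
  have hq' : q ∈ S := by
    obtain ⟨i, -, rfl⟩ := hs.exists_pow_eq'
    exact pow_mem_of_inv h i hp
  have e3 := support_cycleOf_of_trans h ht hq' hqm
  rw [← e3, e2]

end basics

end Cfsg.Agent.H20.SY
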