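import Mathlib
import Cfsg.Agent.Lib.H20.SY1
import Cfsg.Agent.Lib.H20.JK3
import Cfsg.Agent.Lib.H14.UniqueSub

set_option autoImplicit false
set_option linter.unusedVariables false
set_option linter.unusedSectionVars false
set_option linter.style.haveILetI false

namespace Cfsg.Agent.H20.SY

open Equiv Equiv.Perm
open Cfsg.Agent.H20.JK

section blocks
variable {Ω : Type*} [Fintype Ω] [DecidableEq Ω]

/-- `f` preserves `S`. -/
def Pres (f : Perm Ω) (S : Finset Ω) : Prop := ∀ p, f p ∈ S ↔ p ∈ S
/-- `f` interchanges `S` and its complement. -/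
def Swp (f : Perm Ω) (S : Finset Ω) : Prop := ∀ p, f p ∈ S ↔ p ∉ S

theorem Pres.compl {f : Perm Ω} {S : Finset Ω} (h : Pres f S) : Pres f Sᶜ := by
  intro p; rw [Finset.mem_compl, Finset.mem_compl, h p]

theorem Swp.compl {f : Perm Ω} {S : Finset Ω} (h : Swp f S) : Swp f Sᶜ := by
  intro p; rw [Finset.mem_compl, Finset.mem_compl, h p, not_not]

theorem Swp.pow {f : Perm Ω} {S : Finset Ω} (h : Swp f S) (i : ℕ) (p : Ω) :
    (f ^ i) p ∈ S ↔ (if Even i then p ∈ S else p ∉ S) := by
  induction i generalizing p with
  | zero => simp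
  | succ n ih =>
    rw [pow_succ, Perm.mul_apply, ih]
    by_cases hn : Even n
    · have hn1 : ¬ Even (n + 1) := by rw [Nat.even_add_one]; simpa using hn
      simp only [hn, hn1, if_true, if_false]
      exact h p
    · have hn1 : Even (n + 1) := by rw [Nat.even_add_one]; exact hn
      simp only [hn, hn1, if_true, if_false]
      rw [h p, not_not]

theorem Swp.no_fix {f : Perm Ω} {S : Finset Ω} (h : Swp f S) (p : Ω) : f p ≠ p := by
  intro e
  have := h p
  rw [e] at this
  tauto

theorem Pres.pow {f : Perm Ω} {S : Finset Ω} (h : Pres f S) (i : ℕ) (p : Ω) : (f ^ i) p ∈ S ↔ p ∈ S := by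
  induction i generalizing p with
  | zero => rfl
  | succ n ih => rw [pow_succ, Perm.mul_apply, ih, h p]

theorem exists_block {T : Subgroup (Perm Ω)} (hT : IsPGroup 2 T) (htrans : ∀ p q, ∃ t ∈ T, t p = q)
    (h2 : 2 ≤ Fintype.card Ω) :
    ∃ S : Finset Ω, S.Nonempty ∧ S ≠ Finset.univ ∧ ∀ t ∈ T, Pres t S ∨ Swp t S := by
  classical
  obtain ⟨p₀, q₀, hpq⟩ := Fintype.exists_pair_of_one_lt_card (by omega : 1 < Fintype.card Ω)
  have hHne : MulAction.stabilizer T p₀ ≠ ⊤ := by
    intro h
    obtain ⟨t, ht, e⟩ := htrans p₀ q₀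
    have : (⟨t, ht⟩ : T) ∈ MulAction.stabilizer T p₀ := by rw [h]; trivial
    rw [MulAction.mem_stabilizer_iff] at this
    exact hpq (this.symm.trans e)
  obtain ⟨M, hM, hHM⟩ := (eq_top_or_exists_le_coatom (MulAction.stabilizer T p₀)).resolve_left hHne
  obtain ⟨hMn, hMi⟩ := Cfsg.Agent.H14.coatom_normal_index hT hM
  let S : Finset Ω := Finset.univ.filter (fun q => ∃ m : T, m ∈ M ∧ (m : Perm Ω) p₀ = q)
  have hmemS : ∀ t : T, (t : Perm Ω) p₀ ∈ S ↔ t ∈ M := by
    intro t
    simp only [S, Finset.mem_filter, Finset.mem_univ, true_and]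
    constructor
    · rintro ⟨m, hm, e⟩
      have h3 : m⁻¹ * t ∈ MulAction.stabilizer T p₀ := by
        rw [MulAction.mem_stabilizer_iff]
        show (m : Perm Ω)⁻¹ ((t : Perm Ω) p₀) = p₀
        rw [← e]; simp
      have h4 := M.mul_mem hm (hHM h3)
      simpa using h4
    · intro h
      exact ⟨t, h, rfl⟩
  obtain ⟨t₀, ht₀⟩ : ∃ t : T, t ∉ M := by
    by_contra hcon
    push Not at hcon
    exact hM.1 (eq_top_iff.mpr (fun t _ => hcon t))
  refine ⟨S, ⟨p₀, (hmemS 1).mpr M.one_mem⟩, ?_, fun t ht => ?_⟩
  · intro h
    have := (hmemS t₀).mp (by rw [h]; exact Finset.mem_univ _)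
    exact ht₀ this
  · by_cases htM : (⟨t, ht⟩ : T) ∈ M
    · left
      intro q
      obtain ⟨t', ht', rfl⟩ := htrans p₀ q
      have e1 := hmemS ⟨t', ht'⟩
      have e2 := hmemS (⟨t, ht⟩ * ⟨t', ht'⟩)
      have e3 : ((⟨t, ht⟩ * ⟨t', ht'⟩ : T) : Perm Ω) p₀ = t (t' p₀) := rfl
      rw [e3] at e2
      simp only at e1
      rw [e2, e1, Subgroup.mul_mem_cancel_left _ htM]
    · right
      intro q
      obtain ⟨t', ht', rfl⟩ := htrans p₀ q
      have e1 := hmemS ⟨t', ht'⟩
      have e2 := hmemS (⟨t, ht⟩ * ⟨t', ht'⟩)
      have e3 : ((⟨t, ht⟩ * ⟨t', ht'⟩ : T) : Perm Ω) p₀ = t (t' p₀) := rfl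
      rw [e3] at e2
      simp only at e1
      rw [e2, e1, Subgroup.mul_mem_iff_of_index_two hMi]
      tauto

/-- Any block of a transitive group has complement of the same size. -/
theorem block_card {T : Subgroup (Perm Ω)} (htrans : ∀ p q, ∃ t ∈ T, t p = q) {S : Finset Ω}
    (hS : S.Nonempty) (hSu : S ≠ Finset.univ) (hB : ∀ t ∈ T, Pres t S ∨ Swp t S) :
    Fintype.card Ω = 2 * S.card := by
  obtain ⟨p, hp⟩ := hS
  obtain ⟨q, hq⟩ : ∃ q, q ∉ S := by
    by_contra hcon
    push Not at hcon
    exact hSu (Finset.eq_univ_of_forall hcon)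
  obtain ⟨t, ht, e⟩ := htrans p q
  have hsw : Swp t S := by
    rcases hB t ht with h | h
    · exfalso
      apply hq
      rw [← e]
      exact (h p).mpr hp
    · exact h
  have h1 : (Sᶜ).card = S.card := by
    apply le_antisymm
    · apply Finset.card_le_card_of_injOn (fun y => t y)
      · intro y hy
        have hy' : y ∉ S := by simpa using hy
        exact (hsw y).mpr hy'
      · intro a _ b _ h
        exact t.injective h
    · apply Finset.card_le_card_of_injOn (fun y => t y)
      · intro y hy
        have hy' : y ∈ S := by simpa using hy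
        have : ¬ (t y ∈ S) := by rw [hsw y]; simpa using hy'
        simpa using this
      · intro a _ b _ h
        exact t.injective h
  have h2 := Finset.card_add_card_compl S
  omega

/-- Uniqueness of the two-block system. -/
theorem block_unique {T : Subgroup (Perm Ω)} (htrans : ∀ p q, ∃ t ∈ T, t p = q) {x : Perm Ω} (hxT : x ∈ T)
    (hx : Adm x) {k : ℕ} (hord : orderOf x = 2 ^ k) {b : ℕ} (hcard : Fintype.card Ω = 2 ^ b) {S S' : Finset Ω}
    (hS : S.Nonempty) (hSu : S ≠ Finset.univ) (hB : ∀ t ∈ T, Pres t S ∨ Swp t S)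
    (hS' : S'.Nonempty) (hSu' : S' ≠ Finset.univ) (hB' : ∀ t ∈ T, Pres t S' ∨ Swp t S') :
    S' = S ∨ S' = Sᶜ := by
  have hc := block_card htrans hS hSu hB
  have hc' := block_card htrans hS' hSu' hB'
  have hSS' : S.card = S'.card := by omega
  have hSpos : 0 < S.card := Finset.card_pos.mpr hS
  -- a swap forces a full cycle
  have hfull : ∀ {U : Finset Ω}, Swp x U → ∀ p q, ∃ i : ℕ, (x ^ i) p = q := by
    intro U hU p q
    exact single_cycle hx hord (C := Finset.univ) (by simp) (a := b) (by rw [Finset.card_univ, hcard])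
      (fun p _ q _ hp _ => absurd hp (hU.no_fix p)) p (Finset.mem_univ _) q (Finset.mem_univ _)
  have hnotboth : ∀ {U V : Finset Ω}, Swp x U → Pres x V → V.Nonempty → V ≠ Finset.univ → False := by
    intro U V hU hV hne hnu
    obtain ⟨p, hp⟩ := hne
    obtain ⟨q, hq⟩ : ∃ q, q ∉ V := by
      by_contra hcon
      push Not at hcon
      exact hnu (Finset.eq_univ_of_forall hcon)
    obtain ⟨i, rfl⟩ := hfull hU p q
    exact hq ((hV.pow i p).mpr hp)
  rcases hB x hxT with hP | hW
  · rcases hB' x hxT with hP' | hW'
    · -- both preserved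
      have hfix2 : (x.supportᶜ).card ≤ 2 := by
        have h1 := hx.1
        have h2 := Finset.card_add_card_compl x.support
        omega
      have hone : ∀ {U : Finset Ω}, (∀ p ∈ U, ∀ q ∈ U, x p = p → x q = q → p = q) ∨
          (∀ p ∈ Uᶜ, ∀ q ∈ Uᶜ, x p = p → x q = q → p = q) := by
        intro U
        by_contra hcon
        push Not at hcon
        obtain ⟨⟨a, ha, a', ha', hfa, hfa', hne⟩, ⟨c, hc, c', hc', hfc, hfc', hne'⟩⟩ := hcon
        have hsub : ({a, a', c, c'} : Finset Ω) ⊆ x.supportᶜ := by
          intro y hy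
          simp only [Finset.mem_insert, Finset.mem_singleton] at hy
          simp only [Finset.mem_compl, mem_support, not_not]
          rcases hy with rfl | rfl | rfl | rfl <;> assumption
        have hcard4 : ({a, a', c, c'} : Finset Ω).card = 4 := by
          have h1 : a ≠ c := fun h => (Finset.mem_compl.mp hc) (h ▸ ha)
          have h2 : a ≠ c' := fun h => (Finset.mem_compl.mp hc') (h ▸ ha)
          have h3 : a' ≠ c := fun h => (Finset.mem_compl.mp hc) (h ▸ ha')
          have h4 : a' ≠ c' := fun h => (Finset.mem_compl.mp hc') (h ▸ ha')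
          rw [Finset.card_insert_of_notMem (by simp [hne, h1, h2]), Finset.card_insert_of_notMem (by simp [h3, h4]),
            Finset.card_pair hne']
        have := Finset.card_le_card hsub
        omega
      have htwo : ∀ {U : Finset Ω}, Pres x U → U.card = S.card → (∀ p ∈ U, ∀ q ∈ U, x p = p → x q = q → p = q) →
          ∀ p ∈ U, ∀ q ∈ U, ∃ i : ℕ, (x ^ i) p = q := by
        intro U hU hUc hUf
        -- `S.card` is a power of two
        have hb0 : b ≠ 0 := by
          rintro rfl
          omega
        obtain ⟨b', rfl⟩ := Nat.exists_eq_succ_of_ne_zero hb0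
        have hSc : S.card = 2 ^ b' := by
          rw [pow_succ] at hcard
          omega
        exact single_cycle hx hord hU (a := b') (by omega) hUf
      by_cases h2 : 2 ≤ S.card
      · have hcS : (Sᶜ).card = S.card := by
          have := Finset.card_add_card_compl S
          omega
        have hcS' : (S'ᶜ).card = S.card := by
          have := Finset.card_add_card_compl S'
          omega
        have hmain : ∀ {U V : Finset Ω}, Pres x U → Pres x V → U.card = S.card → V.card = S.card →
            (∀ p ∈ U, ∀ q ∈ U, x p = p → x q = q → p = q) → (∀ p ∈ V, ∀ q ∈ V, x p = p → x q = q → p = q) → U = V := by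
          intro U V hU hV hUc hVc hUf hVf
          exact eq_of_trans hx.2 hU hV (htwo hU hUc hUf) (htwo hV hVc hVf) (by omega) (by omega)
        rcases hone (U := S) with h1 | h1 <;> rcases hone (U := S') with h1' | h1'
        · left; exact (hmain hP hP' rfl hSS'.symm h1 h1').symm
        · right
          have := hmain hP hP'.compl rfl hcS' h1 h1'
          rw [this, compl_compl]
        · right
          exact (hmain hP.compl hP' hcS hSS'.symm h1 h1').symm
        · left
          have := hmain hP.compl hP'.compl hcS hcS' h1 h1'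
          exact (compl_injective this).symm
      · -- singletons
        have hS1 : S.card = 1 := by omega
        have hS1' : S'.card = 1 := by omega
        obtain ⟨a, rfl⟩ := Finset.card_eq_one.mp hS1
        obtain ⟨a', rfl⟩ := Finset.card_eq_one.mp hS1'
        by_cases h : a' = a
        · left; rw [h]
        · right
          apply Finset.eq_of_subset_of_card_le
          · intro y hy
            simp only [Finset.mem_singleton] at hy
            subst hy
            simpa using h
          · have := Finset.card_add_card_compl ({a} : Finset Ω)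
            omega
    · exact (hnotboth hW' hP hS hSu).elim
  · rcases hB' x hxT with hP' | hW'
    · exact (hnotboth hW hP' hS' hSu').elim
    · -- both swapped
      obtain ⟨p, hp⟩ := hS
      have key : ∀ {V : Finset Ω}, Swp x V → p ∈ V → V.card = S.card → V = S := by
        intro V hV hpV hVc
        symm
        apply Finset.eq_of_subset_of_card_le
        · intro q hq
          obtain ⟨i, rfl⟩ := hfull hW p q
          have h1 := (hW.pow i p).mp hq
          have hi : Even i := by
            by_contra hodd
            simp only [hodd, if_false] at h1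
            exact h1 hp
          rw [hV.pow i p]
          simpa [hi] using hpV
        · omega
      by_cases hpS' : p ∈ S'
      · left; exact key hW' hpS' hSS'.symm
      · right
        have h1 : S'ᶜ = S := key hW'.compl (by simpa using hpS') (by
          have := Finset.card_add_card_compl S'
          omega)
        rw [← h1, compl_compl]

end blocks

end Cfsg.Agent.H20.SY
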