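import Mathlib
import Cfsg.Agent.Lib.H20.SY2

set_option autoImplicit false
set_option linter.unusedVariables false
set_option linter.unusedSectionVars false
set_option linter.style.haveILetI false

namespace Cfsg.Agent.H20.SY

open Equiv Equiv.Perm
open Cfsg.Agent.H20.JK

section main0
variable {Ω : Type*} [Fintype Ω] [DecidableEq Ω]

theorem adm_of_trans {y : Perm Ω} (h : ∀ p q, ∃ i : ℕ, (y ^ i) p = q) : Adm y := by
  by_cases hc : 2 ≤ Fintype.card Ω
  · have hmove : ∀ p, y p ≠ p := by
      intro p hp
      obtain ⟨q, hq⟩ := Fintype.exists_ne_of_one_lt_card (by omega : 1 < Fintype.card Ω) p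
      obtain ⟨i, hi⟩ := h p q
      exact hq (by rw [← hi]; exact Function.IsFixedPt.perm_pow hp i)
    obtain ⟨p₀, -⟩ := Fintype.exists_pair_of_one_lt_card (by omega : 1 < Fintype.card Ω)
    have hcyc : y.IsCycle := by
      refine ⟨p₀, hmove p₀, fun q _ => ?_⟩
      obtain ⟨i, hi⟩ := h p₀ q
      exact ⟨i, by simpa using hi⟩
    have hsupp : y.support = Finset.univ := by
      ext z; simpa using hmove z
    constructor
    · rw [hsupp, Finset.card_univ]; omega
    · rw [hcyc.cycleType]; simp
  · have hsub : Subsingleton Ω := by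
      rw [← Fintype.card_le_one_iff_subsingleton]; omega
    have hy : y = 1 := Equiv.ext (fun p => Subsingleton.elim _ _)
    subst hy
    constructor
    · omega
    · simp

theorem two_bad {x : Perm Ω} (hx : Adm x) {U V : Finset Ω} (hUV : Disjoint U V) :
    (∀ p ∈ U, ∀ q ∈ U, x p = p → x q = q → p = q) ∨ (∀ p ∈ V, ∀ q ∈ V, x p = p → x q = q → p = q) := by
  have hfix2 : (x.supportᶜ).card ≤ 2 := by
    have h1 := hx.1
    have h2 := Finset.card_add_card_compl x.support
    omega
  by_contra hcon
  push Not at hcon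
  obtain ⟨⟨a, ha, a', ha', hfa, hfa', hne⟩, ⟨c, hc, c', hc', hfc, hfc', hne'⟩⟩ := hcon
  have hsub : ({a, a', c, c'} : Finset Ω) ⊆ x.supportᶜ := by
    intro y hy
    simp only [Finset.mem_insert, Finset.mem_singleton] at hy
    simp only [Finset.mem_compl, mem_support, not_not]
    rcases hy with rfl | rfl | rfl | rfl <;> assumption
  have hd := Finset.disjoint_left.mp hUV
  have hcard4 : ({a, a', c, c'} : Finset Ω).card = 4 := by
    have h1 : a ≠ c := fun h => hd ha (h ▸ hc)
    have h2 : a ≠ c' := fun h => hd ha (h ▸ hc')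
    have h3 : a' ≠ c := fun h => hd ha' (h ▸ hc)
    have h4 : a' ≠ c' := fun h => hd ha' (h ▸ hc')
    rw [Finset.card_insert_of_notMem (by simp [hne, h1, h2]), Finset.card_insert_of_notMem (by simp [h3, h4]),
      Finset.card_pair hne']
  have := Finset.card_le_card hsub
  omega

theorem three_orbits {x : Perm Ω} (hx : Adm x) {k : ℕ} (hord : orderOf x = 2 ^ k) {C₁ C₂ C₃ : Finset Ω}
    (h₁ : Pres x C₁) (h₂ : Pres x C₂) (h₃ : Pres x C₃) {a : ℕ} (c₁ : C₁.card = 2 ^ a) (c₂ : C₂.card = 2 ^ a)
    (c₃ : C₃.card = 2 ^ a) (d₁₂ : Disjoint C₁ C₂) (d₁₃ : Disjoint C₁ C₃) (d₂₃ : Disjoint C₂ C₃) : False := by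
  have hpos : 0 < 2 ^ a := by positivity
  by_cases ha : a = 0
  · subst ha
    rw [pow_zero] at c₁ c₂ c₃
    obtain ⟨p, rfl⟩ := Finset.card_eq_one.mp c₁
    obtain ⟨q, rfl⟩ := Finset.card_eq_one.mp c₂
    obtain ⟨r, rfl⟩ := Finset.card_eq_one.mp c₃
    have hfix : ∀ z, Pres x ({z} : Finset Ω) → x z = z := by
      intro z hz
      have := (hz z).mpr (Finset.mem_singleton_self z)
      simpa using this
    have hsub : ({p, q, r} : Finset Ω) ⊆ x.supportᶜ := by
      intro y hy
      simp only [Finset.mem_insert, Finset.mem_singleton] at hy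
      simp only [Finset.mem_compl, mem_support, not_not]
      rcases hy with rfl | rfl | rfl
      · exact hfix _ h₁
      · exact hfix _ h₂
      · exact hfix _ h₃
    have hpq : p ≠ q := by simpa using d₁₂
    have hpr : p ≠ r := by simpa using d₁₃
    have hqr : q ≠ r := by simpa using d₂₃
    have h3 : ({p, q, r} : Finset Ω).card = 3 := Finset.card_eq_three.mpr ⟨p, q, r, hpq, hpr, hqr, rfl⟩
    have h1 := hx.1
    have h2 := Finset.card_add_card_compl x.support
    have := Finset.card_le_card hsub
    omega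
  · have h2 : 2 ≤ 2 ^ a := by
      calc 2 = 2 ^ 1 := rfl
        _ ≤ 2 ^ a := Nat.pow_le_pow_right (by norm_num) (by omega)
    have main : ∀ {U V : Finset Ω}, Pres x U → Pres x V → U.card = 2 ^ a → V.card = 2 ^ a → Disjoint U V →
        (∀ p ∈ U, ∀ q ∈ U, x p = p → x q = q → p = q) → (∀ p ∈ V, ∀ q ∈ V, x p = p → x q = q → p = q) → False := by
      intro U V hU hV hUc hVc hd hUf hVf
      have he := eq_of_trans hx.2 hU hV (single_cycle hx hord hU hUc hUf) (single_cycle hx hord hV hVc hVf)
        (by omega) (by omega)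
      subst he
      have : U = ∅ := by simpa using hd
      rw [this] at hUc
      simp at hUc
      omega
    rcases two_bad hx d₁₂ with h | h
    · rcases two_bad hx d₂₃ with h' | h'
      · exact main h₁ h₂ c₁ c₂ d₁₂ h h'
      · exact main h₁ h₃ c₁ c₃ d₁₃ h h'
    · rcases two_bad hx d₁₃ with h' | h'
      · exact main h₁ h₂ c₁ c₂ d₁₂ h' h
      · exact main h₂ h₃ c₂ c₃ d₂₃ h h'

end main0

section main1

/-- Restriction to an invariant subset and application of the induction hypothesis. -/
theorem restrict_step {Ω : Type} [Fintype Ω] [DecidableEq Ω]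
    (IH : ∀ (Ω' : Type) [Fintype Ω'] [DecidableEq Ω'], Fintype.card Ω' < Fintype.card Ω →
      ∀ T' : Subgroup (Perm Ω'), IsPGroup 2 T' → ∀ x' ∈ T', Adm x' → ∀ g' : Perm Ω',
        (∀ t ∈ T', g' * t * g'⁻¹ ∈ T') → Odd (orderOf g') → g' = 1)
    {T : Subgroup (Perm Ω)} (hT : IsPGroup 2 T) {S : Finset Ω} (hcard : S.card < Fintype.card Ω)
    {x' : Perm Ω} (hx'T : x' ∈ T) (hx'S : ∀ p, x' p ∈ S ↔ p ∈ S) (hAdm : Adm (x'.subtypePerm hx'S))
    {g : Perm Ω} (hgT : ∀ t ∈ T, g * t * g⁻¹ ∈ T) (hgS : ∀ p, g p ∈ S ↔ p ∈ S) (hodd : Odd (orderOf g)) :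
    ∀ p ∈ S, g p = p := by
  let M : Subgroup (Perm Ω) := setStab T S
  have hM : ∀ l ∈ M, ∀ x, l x ∈ S ↔ x ∈ S := fun l hl => hl.2
  let r : M →* Perm S := rhoL S M hM
  have hMp : IsPGroup 2 M := hT.to_le (fun t ht => ht.1)
  have hT' : IsPGroup 2 r.range := hMp.of_surjective r.rangeRestrict r.rangeRestrict_surjective
  let g' : Perm S := g.subtypePerm hgS
  have hg'1 : g' = 1 := by
    refine IH S (by rw [Fintype.card_coe]; exact hcard) r.range hT' (x'.subtypePerm hx'S)
      ⟨⟨x', hx'T, hx'S⟩, rfl⟩ hAdm g' ?_ ?_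
    · rintro _ ⟨⟨t, htT, htS⟩, rfl⟩
      have hmem : g * t * g⁻¹ ∈ M := by
        refine ⟨hgT t htT, fun p => ?_⟩
        rw [Perm.mul_apply, Perm.mul_apply, hgS, htS]
        constructor
        · intro h
          have := (hgS (g⁻¹ p)).mpr h
          simpa using this
        · intro h
          exact (hgS (g⁻¹ p)).mp (by simpa using h)
      refine ⟨⟨_, hmem⟩, ?_⟩
      ext p
      rfl
    · apply Odd.of_dvd_nat hodd
      apply orderOf_dvd_of_pow_eq_one
      ext p
      have h1 : (g ^ orderOf g) = 1 := pow_orderOf_eq_one g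
      rw [res_pow_coe, h1]
      rfl
  intro p hp
  have := congrArg (fun f : Perm S => (f ⟨p, hp⟩ : Ω)) hg'1
  exact this

theorem main_A : ∀ (n : ℕ) (Ω : Type) [Fintype Ω] [DecidableEq Ω], Fintype.card Ω = n →
    ∀ T : Subgroup (Perm Ω), IsPGroup 2 T → ∀ x ∈ T, Adm x → ∀ g : Perm Ω,
      (∀ t ∈ T, g * t * g⁻¹ ∈ T) → Odd (orderOf g) → g = 1 := by
  intro n
  induction n using Nat.strong_induction_on with
  | _ n IHn =>
  intro Ω _ _ hn T hT x hxT hx g hgT hodd
  have IH : ∀ (Ω' : Type) [Fintype Ω'] [DecidableEq Ω'], Fintype.card Ω' < Fintype.card Ω →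
      ∀ T' : Subgroup (Perm Ω'), IsPGroup 2 T' → ∀ x' ∈ T', Adm x' → ∀ g' : Perm Ω',
        (∀ t ∈ T', g' * t * g'⁻¹ ∈ T') → Odd (orderOf g') → g' = 1 := by
    intro Ω' _ _ hc
    exact IHn _ (by omega) Ω' rfl
  have hordx : ∃ k, orderOf x = 2 ^ k := by
    obtain ⟨k, hk⟩ := IsPGroup.iff_orderOf.mp hT ⟨x, hxT⟩
    exact ⟨k, by rw [← hk, Subgroup.orderOf_mk]⟩
  obtain ⟨k, hord⟩ := hordx
  -- powers of `g` normalise `T`
  have hpow : ∀ i : ℕ, ∀ t ∈ T, g ^ i * t * (g ^ i)⁻¹ ∈ T := by
    intro i
    induction i with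
    | zero => intro t ht; simpa using ht
    | succ m ih =>
      intro t ht
      have e : g ^ (m + 1) * t * (g ^ (m + 1))⁻¹ = g * (g ^ m * t * (g ^ m)⁻¹) * g⁻¹ := by
        rw [pow_succ']; group
      rw [e]
      exact hgT _ (ih t ht)
  have hm1 : g⁻¹ = g ^ (orderOf g - 1) := by
    rw [eq_comm, ← mul_eq_one_iff_eq_inv, ← pow_succ, Nat.sub_add_cancel (orderOf_pos g), pow_orderOf_eq_one]
  have hgT' : ∀ t ∈ T, g⁻¹ * t * g ∈ T := by
    intro t ht
    have := hpow (orderOf g - 1) t ht
    rw [← hm1, inv_inv] at this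
    exact this
  have hm0 : Odd (orderOf g) := hodd
  by_cases htrans : ∀ p q, ∃ t ∈ T, t p = q
  · by_cases h2 : 2 ≤ Fintype.card Ω
    · -- the degree is a power of two
      obtain ⟨p₀, -⟩ := Fintype.exists_pair_of_one_lt_card (by omega : 1 < Fintype.card Ω)
      have hOuniv : Orb T p₀ = Set.univ := by
        ext q
        simp only [Set.mem_univ, iff_true]
        exact htrans p₀ q
      have hdvd : Fintype.card Ω ∣ Nat.card T := by
        have h1 : (MulAction.stabilizer T p₀).index ∣ Nat.card T := Subgroup.index_dvd_card _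
        rwa [index_stab, hOuniv, Set.ncard_univ, Nat.card_eq_fintype_card] at h1
      obtain ⟨s, hs⟩ := IsPGroup.iff_card.mp hT
      rw [hs] at hdvd
      obtain ⟨b, -, hb⟩ := (Nat.dvd_prime_pow Nat.prime_two).1 hdvd
      obtain ⟨S, hS, hSu, hB⟩ := exists_block hT htrans h2
      -- the image block
      let S₁ : Finset Ω := S.map g.toEmbedding
      have hS₁mem : ∀ q, q ∈ S₁ ↔ g⁻¹ q ∈ S := by
        intro q
        simp only [S₁, Finset.mem_map_equiv]
        rfl
      have hS₁ne : S₁.Nonempty := hS.map
      have hS₁u : S₁ ≠ Finset.univ := by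
        intro h
        apply hSu
        apply Finset.eq_univ_of_forall
        intro q
        have := (hS₁mem (g q)).mp (by rw [h]; exact Finset.mem_univ _)
        simpa using this
      have hB₁ : ∀ t ∈ T, Pres t S₁ ∨ Swp t S₁ := by
        intro t ht
        rcases hB _ (hgT' t ht) with h | h
        · left
          intro q
          rw [hS₁mem, hS₁mem, ← h (g⁻¹ q)]
          simp
        · right
          intro q
          rw [hS₁mem, hS₁mem, ← h (g⁻¹ q)]
          simp
      have huniq := block_unique htrans hxT hx hord hb hS hSu hB hS₁ne hS₁u hB₁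
      have hgS : Pres g S := by
        rcases huniq with h | h
        · intro p
          have := hS₁mem (g p)
          rw [h] at this
          rw [this]
          simp
        · exfalso
          have hsw : Swp g S := by
            intro p
            have := hS₁mem (g p)
            rw [h, Finset.mem_compl] at this
            have h2 : g⁻¹ (g p) = p := by simp
            rw [h2] at this
            tauto
          obtain ⟨p, hp⟩ := hS
          have h3 := hsw.pow (orderOf g) p
          rw [pow_orderOf_eq_one] at h3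
          have hne : ¬ Even (orderOf g) := by simpa using hodd
          simp only [hne, if_false] at h3
          exact h3.mp hp hp
      have hcS := block_card htrans hS hSu hB
      -- one application for each block
      have key : ∀ U : Finset Ω, U.card < Fintype.card Ω → Pres g U → (∀ t ∈ T, Pres t U ∨ Swp t U) →
          ∀ p ∈ U, g p = p := by
        intro U hUc hgU hBU
        rcases hBU x hxT with hP | hW
        · exact restrict_step IH hT hUc hxT hP (hx.res U hP) hgT hgU hodd
        · have hP2 : ∀ p, (x * x) p ∈ U ↔ p ∈ U := by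
            intro p
            rw [Perm.mul_apply, hW, hW, not_not]
          apply restrict_step IH hT hUc (T.mul_mem hxT hxT) hP2 _ hgT hgU hodd
          apply adm_of_trans
          rintro ⟨p, hp⟩ ⟨q, hq⟩
          obtain ⟨i, rfl⟩ := single_cycle hx hord (C := Finset.univ) (by simp) (a := b)
            (by rw [Finset.card_univ, hb]) (fun p _ q _ hp _ => absurd hp (hW.no_fix p)) p (Finset.mem_univ _) q
            (Finset.mem_univ _)
          have hi : Even i := by
            have h1 := (hW.pow i p).mp hq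
            by_contra hodd'
            simp only [hodd', if_false] at h1
            exact h1 hp
          obtain ⟨j, rfl⟩ := hi
          refine ⟨j, Subtype.ext ?_⟩
          rw [res_pow_coe]
          show ((x * x) ^ j) p = (x ^ (j + j)) p
          rw [← sq, ← pow_mul, two_mul]
      have hSpos := Finset.card_pos.mpr hS
      have hcc : (Sᶜ).card = S.card := by
        have := Finset.card_add_card_compl S
        omega
      have hBc : ∀ t ∈ T, Pres t Sᶜ ∨ Swp t Sᶜ := by
        intro t ht
        rcases hB t ht with h | h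
        · exact Or.inl h.compl
        · exact Or.inr h.compl
      have e1 := key S (by omega) hgS hB
      have e2 := key Sᶜ (by omega) hgS.compl hBc
      ext p
      by_cases hp : p ∈ S
      · rw [e1 p hp]; rfl
      · rw [e2 p (by simpa using hp)]; rfl
    · have hsub : Subsingleton Ω := by
        rw [← Fintype.card_le_one_iff_subsingleton]; omega
      exact Equiv.ext (fun p => Subsingleton.elim _ _)
  · -- intransitive
    -- orbits as finsets
    classical
    have hOrbcard : ∀ q, ∃ a : ℕ, (Orb T q).ncard = 2 ^ a := by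
      intro q
      have h1 : (MulAction.stabilizer T q).index ∣ Nat.card T := Subgroup.index_dvd_card _
      rw [index_stab] at h1
      obtain ⟨s, hs⟩ := IsPGroup.iff_card.mp hT
      rw [hs] at h1
      obtain ⟨a, -, ha⟩ := (Nat.dvd_prime_pow Nat.prime_two).1 h1
      exact ⟨a, ha⟩
    let F : Ω → Finset Ω := fun q => Finset.univ.filter (· ∈ Orb T q)
    have hFmem : ∀ q z, z ∈ F q ↔ z ∈ Orb T q := by
      intro q z
      simp [F]
    have hFcard : ∀ q, (F q).card = (Orb T q).ncard := by
      intro q
      rw [← Set.ncard_coe_finset]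
      congr 1
      ext z
      simp [F]
    have hFdisj : ∀ a b, b ∉ Orb T a → Disjoint (F a) (F b) := by
      intro a b hb
      rw [Finset.disjoint_left]
      intro z hza hzb
      rw [hFmem] at hza hzb
      apply hb
      have e1 := Orb_eq hza
      have e2 := Orb_eq hzb
      have : Orb T a = Orb T b := e1.symm.trans e2
      rw [this]
      exact mem_Orb_self b
    have hFinv : ∀ a, Pres x (F a) := by
      intro a z
      rw [hFmem, hFmem]
      constructor
      · intro h
        have := Orb_smul (T.inv_mem hxT) h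
        simpa using this
      · exact Orb_smul hxT
    -- `g` moves orbits to orbits
    have hgOrb : ∀ a, (Orb T (g a)).ncard = (Orb T a).ncard := by
      intro a
      have : Orb T (g a) = g '' Orb T a := by
        ext z
        constructor
        · rintro ⟨t, ht, rfl⟩
          refine ⟨(g⁻¹ * t * g) a, ⟨_, hgT' t ht, rfl⟩, ?_⟩
          simp
        · rintro ⟨_, ⟨t, ht, rfl⟩, rfl⟩
          refine ⟨g * t * g⁻¹, hgT t ht, ?_⟩
          simp
      rw [this, Set.ncard_image_of_injective _ g.injective]
    have hsame : ∀ r, g r ∈ Orb T r := by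
      intro r
      by_contra hr
      have h12 : g (g r) ∉ Orb T (g r) := by
        rintro ⟨t, ht, e⟩
        apply hr
        refine ⟨g⁻¹ * t * g, hgT' t ht, ?_⟩
        simp only [Perm.mul_apply]
        rw [e]
        simp
      have h02 : g (g r) ∉ Orb T r := by
        intro h
        -- `g²` preserves the orbit, hence so does `g`
        have hinto : ∀ z ∈ Orb T r, (g * g) z ∈ Orb T r := by
          rintro _ ⟨t, ht, rfl⟩
          have h1 : (g * g) * t * (g * g)⁻¹ ∈ T := by
            have e : (g * g) * t * (g * g)⁻¹ = g * (g * t * g⁻¹) * g⁻¹ := by group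
            rw [e]
            exact hgT _ (hgT t ht)
          have h2 : (g * g) (t r) = ((g * g) * t * (g * g)⁻¹) ((g * g) r) := by simp
          rw [h2]
          exact Orb_smul h1 h
        have hpw : ∀ j : ℕ, ((g * g) ^ j) r ∈ Orb T r := by
          intro j
          induction j with
          | zero => exact mem_Orb_self r
          | succ m ih =>
            rw [pow_succ', Perm.mul_apply]
            exact hinto _ ih
        obtain ⟨m, hm⟩ := hodd
        have h3 := hpw (m + 1)
        have h4 : (g * g) ^ (m + 1) = g := by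
          rw [← sq, ← pow_mul]
          have : 2 * (m + 1) = orderOf g + 1 := by omega
          rw [this, pow_succ, pow_orderOf_eq_one, one_mul]
        rw [h4] at h3
        exact hr h3
      obtain ⟨a, ha⟩ := hOrbcard r
      exact three_orbits hx hord (hFinv r) (hFinv (g r)) (hFinv (g (g r))) (a := a)
        (by rw [hFcard, ha]) (by rw [hFcard, hgOrb, ha]) (by rw [hFcard, hgOrb, hgOrb, ha])
        (hFdisj _ _ hr) (hFdisj _ _ h02) (hFdisj _ _ h12)
    ext r
    show g r = r
    have hgF : Pres g (F r) := by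
      have hinto : ∀ i : ℕ, ∀ z ∈ Orb T r, (g ^ i) z ∈ Orb T r := by
        intro i
        induction i with
        | zero => intro z hz; exact hz
        | succ m ih =>
          intro z hz
          rw [pow_succ', Perm.mul_apply]
          have h1 := ih z hz
          obtain ⟨t, ht, e⟩ := h1
          rw [← e]
          have h2 : g (t r) = (g * t * g⁻¹) (g r) := by simp
          rw [h2]
          exact Orb_smul (hgT t ht) (hsame r)
      intro z
      rw [hFmem, hFmem]
      constructor
      · intro h
        have := hinto (orderOf g - 1) _ h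
        rw [← hm1] at this
        simpa using this
      · intro h
        have := hinto 1 _ h
        simpa using this
    have hne : F r ≠ Finset.univ := by
      intro h
      apply htrans
      intro p q
      have hp : p ∈ Orb T r := (hFmem r p).mp (by rw [h]; exact Finset.mem_univ _)
      have hq : q ∈ Orb T r := (hFmem r q).mp (by rw [h]; exact Finset.mem_univ _)
      rw [← Orb_eq hp] at hq
      exact hq
    have hlt : (F r).card < Fintype.card Ω := by
      rw [← Finset.card_univ]
      exact Finset.card_lt_card (Finset.ssubset_univ_iff.mpr hne)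
    exact restrict_step IH hT hlt hxT (hFinv r) (hx.res _ (hFinv r)) hgT hgF hodd r ((hFmem r r).mpr (mem_Orb_self r))

/-- For `x` admissible, normalizers of 2-subgroups containing `x` are 2-groups. -/
theorem norm_pgroup {Ω : Type} [Fintype Ω] [DecidableEq Ω] {D : Subgroup (Perm Ω)} (hD : IsPGroup 2 D)
    {x : Perm Ω} (hxD : x ∈ D) (hx : Adm x) : IsPGroup 2 (Subgroup.normalizer (D : Set (Perm Ω))) := by
  rw [IsPGroup.iff_orderOf]
  rintro ⟨g, hg⟩
  rw [Subgroup.orderOf_mk]
  obtain ⟨e, o, ho, hm⟩ := Nat.exists_eq_two_pow_mul_odd (orderOf_pos g).ne'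
  have hpowmem : g ^ (2 ^ e) ∈ Subgroup.normalizer (D : Set (Perm Ω)) := Subgroup.pow_mem _ hg _
  have hh : g ^ (2 ^ e) = 1 := by
    apply main_A _ Ω rfl D hD x hxD hx
    · intro t ht
      exact (Subgroup.mem_normalizer_iff.mp hpowmem t).mp ht
    · have : orderOf (g ^ (2 ^ e)) = o := by
        rw [orderOf_pow_of_dvd (by positivity) ⟨o, hm⟩, hm]
        exact Nat.mul_div_cancel_left o (by positivity)
      rw [this]
      exact ho
  have hd : orderOf g ∣ 2 ^ e := orderOf_dvd_of_pow_eq_one hh
  obtain ⟨j, -, hj⟩ := (Nat.dvd_prime_pow Nat.prime_two).1 hd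
  exact ⟨j, hj⟩

/-- Uniqueness of the Sylow 2-subgroup containing an admissible element. -/
theorem sylow_unique {Ω : Type} [Fintype Ω] [DecidableEq Ω] {x : Perm Ω} (hx : Adm x) :
    ∀ (m : ℕ) (P Q : Sylow 2 (Perm Ω)), x ∈ (P : Subgroup (Perm Ω)) → x ∈ (Q : Subgroup (Perm Ω)) →
      Nat.card (Perm Ω) - Nat.card ((P : Subgroup (Perm Ω)) ⊓ (Q : Subgroup (Perm Ω)) : Subgroup (Perm Ω)) = m → P = Q := by
  intro m
  induction m using Nat.strong_induction_on with
  | _ m IH =>
  intro P Q hP hQ hm
  by_contra hne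
  set D : Subgroup (Perm Ω) := (P : Subgroup (Perm Ω)) ⊓ (Q : Subgroup (Perm Ω)) with hD
  have hDp : IsPGroup 2 D := P.isPGroup'.to_le inf_le_left
  have hxD : x ∈ D := ⟨hP, hQ⟩
  have hN := norm_pgroup hDp hxD hx
  obtain ⟨R, hR⟩ := hN.exists_le_sylow
  have hDR : D ≤ (R : Subgroup (Perm Ω)) := le_trans Subgroup.le_normalizer hR
  have hxR : x ∈ (R : Subgroup (Perm Ω)) := hDR hxD
  -- normalizer growth in `P` and `Q`
  have growth : ∀ (W : Sylow 2 (Perm Ω)), D ≤ (W : Subgroup (Perm Ω)) → D ≠ (W : Subgroup (Perm Ω)) →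
      D < (W : Subgroup (Perm Ω)) ⊓ (R : Subgroup (Perm Ω)) := by
    intro W hDW hne'
    have hlt : D.subgroupOf (W : Subgroup (Perm Ω)) < ⊤ := by
      refine lt_top_iff_ne_top.mpr (fun h => hne' ?_)
      apply le_antisymm hDW
      rw [Subgroup.subgroupOf_eq_top] at h
      exact h
    haveI := W.isPGroup'.isNilpotent
    have h1 := Group.normalizerCondition_of_isNilpotent (G := (W : Subgroup (Perm Ω))) _ hlt
    obtain ⟨y, hyN, hyD⟩ := SetLike.exists_of_lt h1
    refine lt_of_le_of_ne (le_inf hDW hDR) (fun e => ?_)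
    have hyW : (y : Perm Ω) ∈ (W : Subgroup (Perm Ω)) ⊓ (R : Subgroup (Perm Ω)) := by
      refine ⟨y.2, hR ?_⟩
      rw [Subgroup.mem_normalizer_iff]
      intro z
      rw [Subgroup.mem_normalizer_iff] at hyN
      constructor
      · intro hz
        have hzW : z ∈ (W : Subgroup (Perm Ω)) := hDW hz
        have := (hyN ⟨z, hzW⟩).mp hz
        exact this
      · intro hz
        have hzW : (y : Perm Ω) * z * (y : Perm Ω)⁻¹ ∈ (W : Subgroup (Perm Ω)) := hDW hz
        have hzW2 : z ∈ (W : Subgroup (Perm Ω)) := by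
          have h3 := (W : Subgroup (Perm Ω)).mul_mem ((W : Subgroup (Perm Ω)).mul_mem ((W : Subgroup (Perm Ω)).inv_mem y.2) hzW) y.2
          simpa [mul_assoc] using h3
        exact (hyN ⟨z, hzW2⟩).mpr hz
    rw [← e] at hyW
    exact hyD hyW
  have hsyl : ∀ {A B : Sylow 2 (Perm Ω)}, (A : Subgroup (Perm Ω)) ≤ (B : Subgroup (Perm Ω)) → A = B := by
    intro A B h
    apply Sylow.ext
    exact (A.is_maximal' B.isPGroup' h).symm
  have hDP : D ≠ (P : Subgroup (Perm Ω)) := by
    intro e
    apply hne
    apply hsyl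
    rw [← e]
    exact inf_le_right
  have hDQ : D ≠ (Q : Subgroup (Perm Ω)) := by
    intro e
    apply hne
    symm
    apply hsyl
    rw [← e]
    exact inf_le_left
  have g1 := growth P inf_le_left hDP
  have g2 := growth Q inf_le_right hDQ
  have hcardlt : ∀ {K : Subgroup (Perm Ω)}, D < K → Nat.card (Perm Ω) - Nat.card K < m := by
    intro K hK
    have h1 : Nat.card D < Nat.card K := by
      refine lt_of_le_of_ne (Nat.le_of_dvd Nat.card_pos (Subgroup.card_dvd_of_le hK.le)) (fun e => ?_)
      exact hK.ne (Subgroup.eq_of_le_of_card_ge hK.le e.ge)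
    have h2 : Nat.card K ≤ Nat.card (Perm Ω) := Subgroup.card_le_card_group K
    omega
  have e1 : P = R := IH _ (hcardlt g1) P R hP hxR rfl
  have e2 : Q = R := IH _ (hcardlt g2) Q R hQ hxR rfl
  exact hne (e1.trans e2.symm)

end main1

end Cfsg.Agent.H20.SY
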