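import Mathlib
import Cfsg.Prelude.Def_CaseTheorems
import Cfsg.Agent.Lib.H06.Nilp
import Cfsg.Agent.Lib.H05.Comp2
import Cfsg.Agent.Lib.H18.MaxClass2
import Cfsg.Agent.Lib.H20.Basic

/-! Normal nonabelian subgroups with centres of order two in 2-groups of sectional 2-rank at most 4. -/

set_option autoImplicit false
set_option linter.unusedVariables false
set_option linter.style.haveILetI false
set_option linter.unusedSectionVars false

namespace Cfsg.Agent.H20

open Cfsg

/-- the index of a section of exponent two is bounded by the sectional rank. -/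
theorem section_index_le {S : Type*} [Group S] {k : ℕ} (hr : Cfsg.SectionalPRankLE 2 k S) (H : Subgroup S)
    (N : Subgroup H) [N.Normal] (hs : ∀ a : H, a ^ 2 ∈ N) : N.index ≤ 2 ^ k := by
  have hsq : ∀ a : H ⧸ N, a ^ 2 = 1 := by
    intro a
    induction a using QuotientGroup.induction_on with
    | H a =>
      rw [← QuotientGroup.mk_pow]
      exact (QuotientGroup.eq_one_iff _).2 (hs a)
  have := hr H N ⊤ ⟨⟨fun a b => Subtype.ext (Cfsg.Agent.H18.comm_of_sq_eq_one hsq _ _)⟩⟩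
    (fun a _ => hsq a)
  rw [Subgroup.card_top] at this
  exact this

/-- A noncommutative 2-group: any subgroup contained in all subgroups of index two has index at
least four. -/
theorem four_le_index {G : Type*} [Group G] [Finite G] (h2 : IsPGroup 2 G)
    (hn : ∃ a b : G, a * b ≠ b * a) (Ψ : Subgroup G) (hΨ : ∀ K : Subgroup G, K.index = 2 → Ψ ≤ K) :
    4 ≤ Ψ.index := by
  classical
  haveI : Fact (Nat.Prime 2) := ⟨Nat.prime_two⟩
  by_contra hlt
  push Not at hlt
  obtain ⟨n, hn'⟩ := IsPGroup.iff_card.mp h2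
  have hdvd : Ψ.index ∣ 2 ^ n := by rw [← hn']; exact Subgroup.index_dvd_card Ψ
  obtain ⟨j, hj, hj'⟩ := (Nat.dvd_prime_pow Nat.prime_two).mp hdvd
  have hi : Ψ = ⊤ ∨ Ψ.index = 2 := by
    have hj1 : j = 0 ∨ j = 1 := by
      by_contra hc
      have hj2 : 2 ≤ j := by omega
      have := Nat.pow_le_pow_right (n := 2) (by norm_num) hj2
      omega
    rcases hj1 with rfl | rfl
    · left
      rw [← Subgroup.index_eq_one, hj', pow_zero]
    · right
      rw [hj', pow_one]
  obtain ⟨b, hb⟩ : ∃ b : G, ∀ K : Subgroup G, K.index = 2 → b ∈ K → K = ⊤ := by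
    rcases hi with h | h
    · refine ⟨1, fun K hK _ => ?_⟩
      exact top_le_iff.mp (h ▸ hΨ K hK)
    · obtain ⟨b, hb⟩ : ∃ b, b ∉ Ψ := by
        by_contra hcon
        push Not at hcon
        have : Ψ = ⊤ := eq_top_iff.mpr fun x _ => hcon x
        rw [this, Subgroup.index_top] at h
        omega
      refine ⟨b, fun K hK hbK => ?_⟩
      rw [eq_top_iff]
      intro g _
      by_cases hg : g ∈ Ψ
      · exact hΨ K hK hg
      · have h3 : b⁻¹ * g ∈ Ψ := by
          rw [Subgroup.mul_mem_iff_of_index_two h]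
          simp [hb, hg]
        have h4 := K.mul_mem hbK (hΨ K hK h3)
        simpa using h4
  have htop : Subgroup.zpowers b = ⊤ := by
    by_contra hne
    obtain ⟨m, hm⟩ : ∃ m, Nat.card (Subgroup.zpowers b) = 2 ^ m := IsPGroup.iff_card.mp (h2.to_subgroup _)
    have hmn : m < n := by
      by_contra hle
      push Not at hle
      have h5 := Subgroup.card_le_card_group (Subgroup.zpowers b)
      rw [hm, hn'] at h5
      have h6 : m = n := le_antisymm ((Nat.pow_le_pow_iff_right (by norm_num)).mp h5) hle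
      apply hne
      apply Subgroup.eq_top_of_card_eq
      rw [hm, h6, hn']
    obtain ⟨n', rfl⟩ : ∃ n', n = n' + 1 := ⟨n - 1, by omega⟩
    obtain ⟨K, hK, hbK⟩ := Sylow.exists_subgroup_card_pow_prime_le 2 (m := n')
      (by rw [hn']; exact pow_dvd_pow _ (Nat.le_succ n')) (Subgroup.zpowers b) hm (by omega)
    have hKi : K.index = 2 := by
      have h7 := Subgroup.card_mul_index K
      rw [hK, hn', pow_succ] at h7
      exact Nat.eq_of_mul_eq_mul_left (by positivity) h7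
    have h8 := hb K hKi (hbK (Subgroup.mem_zpowers b))
    rw [h8, Subgroup.index_top] at hKi
    omega
  obtain ⟨x, y, hxy⟩ := hn
  apply hxy
  have hx : x ∈ Subgroup.zpowers b := by rw [htop]; trivial
  have hy : y ∈ Subgroup.zpowers b := by rw [htop]; trivial
  obtain ⟨i, rfl⟩ := hx
  obtain ⟨j, rfl⟩ := hy
  show b ^ i * b ^ j = b ^ j * b ^ i
  rw [← zpow_add, ← zpow_add, add_comm]

/-- Data for a subgroup with nonabelian structure and centre of order two. -/
structure ZData {S : Type*} [Group S] (P : Subgroup S) (z : S) : Prop where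
  mem : z ∈ P
  ne : z ≠ 1
  sq : z ^ 2 = 1
  comm : ∀ a ∈ P, a * z = z * a
  cen : ∀ c ∈ P, (∀ a ∈ P, c * a = a * c) → c = 1 ∨ c = z
  noncomm : ∃ a ∈ P, ∃ b ∈ P, a * b ≠ b * a

theorem exists_zdata {S : Type*} [Group S] [Finite S] (P : Subgroup S) (hP : ¬ IsMulCommutative ↥P)
    (hZP : Nat.card ↥(Subgroup.center ↥P) = 2) :
    ∃ z, ZData P z ∧ (Subgroup.center ↥P).map P.subtype = Subgroup.zpowers z := by
  classical
  haveI : Fact (Nat.Prime 2) := ⟨Nat.prime_two⟩
  obtain ⟨z₀, hz₀⟩ := exists_prime_orderOf_dvd_card' (G := ↥(Subgroup.center ↥P)) 2 (by rw [hZP])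
  have hz₀c : (z₀ : ↥P) ∈ Subgroup.center ↥P := z₀.2
  set z : S := ((z₀ : ↥P) : S) with hzdef
  have hoz : orderOf z = 2 := by
    rw [hzdef, Subgroup.orderOf_coe, Subgroup.orderOf_coe, hz₀]
  have hz1 : z ≠ 1 := by
    intro h
    rw [h, orderOf_one] at hoz
    omega
  have hz2 : z ^ 2 = 1 := by rw [← hoz]; exact pow_orderOf_eq_one z
  have hzmem : z ∈ P := (z₀ : ↥P).2
  have hcenmem : ∀ c : ↥P, c ∈ Subgroup.center ↥P → (c : S) = 1 ∨ (c : S) = z := by
    intro c hc
    by_cases hc1 : (⟨c, hc⟩ : Subgroup.center ↥P) = 1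
    · left
      have := congrArg (fun w : Subgroup.center ↥P => ((w : ↥P) : S)) hc1
      simpa using this
    · right
      by_contra hne
      have hne1 : (⟨c, hc⟩ : Subgroup.center ↥P) ≠ z₀ := by
        intro h
        apply hne
        rw [hzdef, ← h]
      have hne2 : z₀ ≠ 1 := by
        intro h
        apply hz1
        rw [hzdef, h]
        rfl
      have h3 := Nat.card_eq_two_iff.mp hZP
      obtain ⟨u, v, huv, huniv⟩ := h3
      have m1 : (⟨c, hc⟩ : Subgroup.center ↥P) ∈ ({u, v} : Set _) := by rw [huniv]; trivial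
      have m2 : z₀ ∈ ({u, v} : Set _) := by rw [huniv]; trivial
      have m3 : (1 : Subgroup.center ↥P) ∈ ({u, v} : Set _) := by rw [huniv]; trivial
      simp only [Set.mem_insert_iff, Set.mem_singleton_iff] at m1 m2 m3
      rcases m1 with m1 | m1 <;> rcases m2 with m2 | m2 <;> rcases m3 with m3 | m3 <;>
        simp_all
  refine ⟨z, ⟨hzmem, hz1, hz2, ?_, ?_, ?_⟩, ?_⟩
  · intro a ha
    have := Subgroup.mem_center_iff.mp hz₀c ⟨a, ha⟩
    exact (congrArg Subtype.val this)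
  · intro c hc hcom
    apply hcenmem ⟨c, hc⟩
    rw [Subgroup.mem_center_iff]
    intro g
    apply Subtype.ext
    exact (hcom g g.2).symm
  · by_contra hcon
    push Not at hcon
    apply hP
    refine ⟨⟨fun a b => Subtype.ext ?_⟩⟩
    exact hcon a a.2 b b.2
  · apply le_antisymm
    · rintro _ ⟨c, hc, rfl⟩
      rcases hcenmem c hc with h | h
      · show (c : S) ∈ _
        rw [h]; exact Subgroup.one_mem _
      · show (c : S) ∈ _
        rw [h]; exact Subgroup.mem_zpowers _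
    · rw [Subgroup.zpowers_le]
      exact ⟨z₀, z₀.2, rfl⟩

/-- the subgroup generated by the squares of elements of `P`. -/
def sqSub {S : Type*} [Group S] (P : Subgroup S) : Subgroup S :=
  Subgroup.closure {g | ∃ a ∈ P, g = a ^ 2}

theorem sqSub_le {S : Type*} [Group S] (P : Subgroup S) : sqSub P ≤ P := by
  rw [sqSub, Subgroup.closure_le]
  rintro _ ⟨a, ha, rfl⟩
  exact P.pow_mem ha 2

theorem sq_mem_sqSub {S : Type*} [Group S] (P : Subgroup S) {a : S} (ha : a ∈ P) : a ^ 2 ∈ sqSub P :=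
  Subgroup.subset_closure ⟨a, ha, rfl⟩

theorem sqSub_conj {S : Type*} [Group S] (P : Subgroup S) (g : S)
    (hg : ∀ x ∈ P, g * x * g⁻¹ ∈ P) : ∀ y ∈ sqSub P, g * y * g⁻¹ ∈ sqSub P := by
  intro y hy
  induction hy using Subgroup.closure_induction with
  | mem x hx =>
    obtain ⟨a, ha, rfl⟩ := hx
    rw [← conj_pow]
    exact sq_mem_sqSub P (hg a ha)
  | one => simp [Subgroup.one_mem]
  | mul x y _ _ hx hy =>
    have e : g * (x * y) * g⁻¹ = (g * x * g⁻¹) * (g * y * g⁻¹) := by group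
    rw [e]
    exact Subgroup.mul_mem _ hx hy
  | inv x _ hx =>
    have e : g * x⁻¹ * g⁻¹ = (g * x * g⁻¹)⁻¹ := by group
    rw [e]
    exact Subgroup.inv_mem _ hx

theorem card_sqSub_mul_four_le {S : Type*} [Group S] [Finite S] (h2 : IsPGroup 2 S) (P : Subgroup S)
    (hn : ∃ a ∈ P, ∃ b ∈ P, a * b ≠ b * a) : 4 * Nat.card (sqSub P) ≤ Nat.card P := by
  classical
  have hle := sqSub_le P
  have h1 : 4 ≤ ((sqSub P).subgroupOf P).index := by
    apply four_le_index (h2.to_subgroup P)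
    · obtain ⟨a, ha, b, hb, hab⟩ := hn
      refine ⟨⟨a, ha⟩, ⟨b, hb⟩, fun h => hab (congrArg Subtype.val h)⟩
    · intro K hK x hx
      rw [Subgroup.mem_subgroupOf] at hx
      have h3 : sqSub P ≤ K.map P.subtype := by
        rw [sqSub, Subgroup.closure_le]
        rintro _ ⟨a, ha, rfl⟩
        exact ⟨⟨a, ha⟩ ^ 2, Subgroup.sq_mem_of_index_two hK _, rfl⟩
      obtain ⟨k, hk, hk2⟩ := h3 hx
      have : k = x := Subtype.ext hk2
      rwa [← this]
  have h3 := Subgroup.card_mul_index ((sqSub P).subgroupOf P)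
  have h4 : Nat.card ((sqSub P).subgroupOf P) = Nat.card (sqSub P) :=
    Nat.card_congr (Subgroup.subgroupOfEquivOfLe hle).toEquiv
  rw [h4] at h3
  calc 4 * Nat.card (sqSub P) = Nat.card (sqSub P) * 4 := by ring
    _ ≤ Nat.card (sqSub P) * ((sqSub P).subgroupOf P).index := Nat.mul_le_mul_left _ h1
    _ = _ := h3

theorem zdata_central {S : Type*} [Group S] {P : Subgroup S} {z g : S} (hz : ZData P z)
    (hg : ∀ x ∈ P, g * x * g⁻¹ ∈ P) (hg' : ∀ x ∈ P, g⁻¹ * x * g ∈ P) : g * z = z * g := by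
  have h1 : g * z * g⁻¹ ∈ P := hg z hz.mem
  have h2 := hz.cen _ h1 (by
    intro a ha
    have h3 := hz.comm _ (hg' a ha)
    calc g * z * g⁻¹ * a = g * (z * (g⁻¹ * a * g)) * g⁻¹ := by group
      _ = g * ((g⁻¹ * a * g) * z) * g⁻¹ := by rw [h3]
      _ = _ := by group)
  rcases h2 with h2 | h2
  · exfalso
    apply hz.ne
    have : z = g⁻¹ * (g * z * g⁻¹) * g := by group
    rw [this, h2]; group
  · exact mul_inv_eq_iff_eq_mul.mp h2

/-- A nontrivial subgroup normalized by `P` meeting `P` contains the central involution. -/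
theorem zdata_mem_of_ne_bot {S : Type*} [Group S] [Finite S] (h2 : IsPGroup 2 S) {P : Subgroup S} {z : S}
    (hz : ZData P z) (M : Subgroup S) (hM : ∀ g ∈ P, ∀ x ∈ M, g * x * g⁻¹ ∈ M) (y : S) (hyM : y ∈ M)
    (hyP : y ∈ P) (hy1 : y ≠ 1) : z ∈ M := by
  haveI : Group.IsNilpotent P := (h2.to_subgroup P).isNilpotent
  have hn : (M.subgroupOf P).Normal := by
    refine ⟨fun n hn g => ?_⟩
    rw [Subgroup.mem_subgroupOf] at hn ⊢
    exact hM g g.2 n hn
  have hne : M.subgroupOf P ≠ ⊥ := by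
    intro h
    have : (⟨y, hyP⟩ : P) ∈ M.subgroupOf P := by
      rw [Subgroup.mem_subgroupOf]; exact hyM
    rw [h, Subgroup.mem_bot] at this
    exact hy1 (congrArg Subtype.val this)
  obtain ⟨u, hu, hu1, huc⟩ := Cfsg.Agent.H06.exists_central_of_normal hn hne
  rw [Subgroup.mem_subgroupOf] at hu
  have h3 := hz.cen (u : S) u.2 (by
    intro a ha
    have := Subgroup.mem_center_iff.mp huc ⟨a, ha⟩
    exact (congrArg Subtype.val this).symm)
  rcases h3 with h3 | h3
  · exact absurd (Subtype.ext h3) hu1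
  · rwa [← h3]

theorem zdata_mem_sqSub {S : Type*} [Group S] [Finite S] (h2 : IsPGroup 2 S) {P : Subgroup S} {z : S}
    (hz : ZData P z) : z ∈ sqSub P := by
  obtain ⟨a, ha, b, hb, hab⟩ := hz.noncomm
  have e : a * b * a⁻¹ * b⁻¹ = (a * b) ^ 2 * (b⁻¹) ^ 2 * (b * a⁻¹ * b⁻¹) ^ 2 := by
    simp only [sq]; group
  have hc : a * b * a⁻¹ * b⁻¹ ∈ sqSub P := by
    rw [e]
    refine Subgroup.mul_mem _ (Subgroup.mul_mem _ ?_ ?_) ?_
    · exact sq_mem_sqSub P (P.mul_mem ha hb)
    · exact sq_mem_sqSub P (P.inv_mem hb)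
    · exact sq_mem_sqSub P (P.mul_mem (P.mul_mem hb (P.inv_mem ha)) (P.inv_mem hb))
  refine zdata_mem_of_ne_bot h2 hz (sqSub P) (fun g hg x hx => ?_) _ hc (sqSub_le P hc) ?_
  · exact sqSub_conj P g (fun w hw => P.mul_mem (P.mul_mem hg hw) (P.inv_mem hg)) x hx
  · intro h
    apply hab
    have h3 : a * b * a⁻¹ = b := mul_inv_eq_one.mp h
    exact mul_inv_eq_iff_eq_mul.mp h3

/-- A power of `c` outside `D` whose square lies in `D`. -/
theorem exists_last_power {S : Type*} [Group S] [Finite S] (h2 : IsPGroup 2 S) (D : Subgroup S) (c : S)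
    (hc : c ∉ D) : ∃ k : ℕ, c ^ (2 ^ k) ∉ D ∧ (c ^ (2 ^ k)) ^ 2 ∈ D := by
  classical
  have hb : ∃ k : ℕ, c ^ (2 ^ k) ∈ D := by
    obtain ⟨k, hk⟩ := IsPGroup.iff_orderOf.mp h2 c
    refine ⟨k, ?_⟩
    rw [← hk, pow_orderOf_eq_one]
    exact D.one_mem
  rcases hk : Nat.find hb with _ | k
  · exfalso
    have := Nat.find_spec hb
    rw [hk, pow_zero, pow_one] at this
    exact hc this
  · refine ⟨k, Nat.find_min hb (by omega), ?_⟩
    have := Nat.find_spec hb
    rw [hk, pow_succ, pow_mul] at this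
    exact this

theorem card_sup_le' {G : Type*} [Group G] {A B : Subgroup G} (h : A ≤ Subgroup.normalizer (B : Set G))
    [Finite G] : Nat.card (A ⊔ B : Subgroup G) ≤ Nat.card A * Nat.card B := by
  have hc := Subgroup.coe_mul_of_left_le_normalizer_right A B h
  let f : A × B → (A ⊔ B : Subgroup G) := fun x =>
    ⟨x.1 * x.2, Subgroup.mul_mem _ (Subgroup.mem_sup_left x.1.2) (Subgroup.mem_sup_right x.2.2)⟩
  have hf : Function.Surjective f := by
    rintro ⟨y, hy⟩
    have hy' : y ∈ ((A ⊔ B : Subgroup G) : Set G) := hy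
    rw [hc] at hy'
    obtain ⟨a, ha, b, hb, rfl⟩ := hy'
    exact ⟨(⟨a, ha⟩, ⟨b, hb⟩), rfl⟩
  have := Nat.card_le_card_of_surjective f hf
  rwa [Nat.card_prod] at this

theorem mem_norm_of_comm {G : Type*} [Group G] {A : Subgroup G} {x : G} (h : ∀ b ∈ A, x * b = b * x) :
    x ∈ Subgroup.normalizer (A : Set G) := by
  rw [Subgroup.mem_normalizer_iff]
  intro a
  constructor
  · intro ha
    rw [h a ha, mul_inv_cancel_right]
    exact ha
  · intro ha
    have h1 : x⁻¹ * (x * a * x⁻¹) * x = a := by group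
    have h2 := h _ ha
    have h3 : x * a * x⁻¹ * x⁻¹ * x = x * a * x⁻¹ := by group
    have h4 : x * (x * a * x⁻¹) * x⁻¹ = x * a * x⁻¹ := by
      rw [h2, mul_inv_cancel_right]
    have h5 : x * a * x⁻¹ = a := by
      have h6 := mul_left_cancel (a := x) (b := (x * a * x⁻¹) * x⁻¹) (c := a * x⁻¹) (by
        rw [← mul_assoc, h4]; group)
      exact mul_right_cancel h6
    rwa [h5] at ha

/-- Main lemma: commuting of the two subgroups, trivial intersection, and self-centralizing join. -/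
theorem sect4_core {S : Type*} [Group S] [Finite S] (h2 : IsPGroup 2 S)
    (hr : Cfsg.SectionalPRankLE 2 4 S) (A P Q : Subgroup S) (hPA : P ≤ A) (hQA : Q ≤ A)
    (hPn : ∀ g ∈ A, ∀ x ∈ P, g * x * g⁻¹ ∈ P) (hQn : ∀ g ∈ A, ∀ x ∈ Q, g * x * g⁻¹ ∈ Q)
    (z w : S) (hz : ZData P z) (hw : ZData Q w) (hne : z ≠ w) :
    (∀ a ∈ P, ∀ b ∈ Q, a * b = b * a) ∧ P ⊓ Q = ⊥ ∧
      ∀ c ∈ A, (∀ r ∈ P, c * r = r * c) → (∀ r ∈ Q, c * r = r * c) → c ∈ P ⊔ Q := by
  classical
  have hzc : ∀ g ∈ A, g * z = z * g := fun g hg =>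
    zdata_central hz (hPn g hg) (hPn g⁻¹ (A.inv_mem hg) |> fun h x hx => by simpa using h x hx)
  have hinf : P ⊓ Q = ⊥ := by
    rw [eq_bot_iff]
    rintro y ⟨hyP, hyQ⟩
    by_contra hy1
    have hy1' : y ≠ 1 := hy1
    have hzQ : z ∈ Q := zdata_mem_of_ne_bot h2 hz Q (fun g hg x hx => hQn g (hPA hg) x hx) y hyQ hyP hy1'
    have h3 := hw.cen z hzQ (by
      intro a ha
      exact (hzc a (hQA ha)).symm)
    rcases h3 with h3 | h3
    · exact hz.ne h3
    · exact hne h3
  have hcomm : ∀ a ∈ P, ∀ b ∈ Q, a * b = b * a := by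
    intro a ha b hb
    have h1 : a * b * a⁻¹ * b⁻¹ ∈ P ⊓ Q := by
      constructor
      · have e : a * b * a⁻¹ * b⁻¹ = a * (b * a⁻¹ * b⁻¹) := by group
        rw [e]
        exact P.mul_mem ha (hPn b (hQA hb) _ (P.inv_mem ha))
      · exact Q.mul_mem (hQn a (hPA ha) b hb) (Q.inv_mem hb)
    rw [hinf, Subgroup.mem_bot] at h1
    have h3 : a * b * a⁻¹ = b := mul_inv_eq_one.mp h1
    exact mul_inv_eq_iff_eq_mul.mp h3
  refine ⟨hcomm, hinf, ?_⟩
  intro c hcA hcP hcQ
  by_contra hcD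
  set D : Subgroup S := P ⊔ Q with hDdef
  obtain ⟨k, hxD, hx2⟩ := exists_last_power h2 D c hcD
  set x := c ^ (2 ^ k) with hxdef
  have hxP : ∀ r ∈ P, x * r = r * x := fun r hr' => (Commute.pow_left (hcP r hr') _)
  have hxQ : ∀ r ∈ Q, x * r = r * x := fun r hr' => (Commute.pow_left (hcQ r hr') _)
  have hPQnorm : ∀ p ∈ P, p ∈ Subgroup.normalizer (Q : Set S) := fun p hp =>
    Cfsg.Agent.H20.mem_norm_of_comm (hcomm p hp)
  -- cardinality of D
  have hDform : ∀ d ∈ D, ∃ p ∈ P, ∃ q ∈ Q, d = p * q := fun d hd =>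
    Cfsg.Agent.H05.mem_sup_of_commute hcomm hd
  have hDcard : Nat.card D = Nat.card P * Nat.card Q := by
    rw [← Nat.card_prod]
    symm
    let f : P × Q → D := fun u => ⟨(u.1 : S) * u.2, D.mul_mem (Subgroup.mem_sup_left u.1.2) (Subgroup.mem_sup_right u.2.2)⟩
    apply Nat.card_congr (Equiv.ofBijective f ⟨?_, ?_⟩)
    · rintro ⟨⟨a, ha⟩, ⟨b, hb⟩⟩ ⟨⟨a', ha'⟩, ⟨b', hb'⟩⟩ h
      have h1 : a * b = a' * b' := congrArg Subtype.val h
      have h3 : a'⁻¹ * a ∈ P ⊓ Q := by
        refine ⟨P.mul_mem (P.inv_mem ha') ha, ?_⟩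
        have e : a'⁻¹ * a = b' * b⁻¹ := by
          rw [inv_mul_eq_iff_eq_mul, ← mul_assoc, ← h1]; group
        rw [e]
        exact Q.mul_mem hb' (Q.inv_mem hb)
      rw [hinf, Subgroup.mem_bot] at h3
      have h4 : a = a' := by
        rw [inv_mul_eq_one] at h3
        exact h3.symm
      subst h4
      have h5 : b = b' := mul_left_cancel h1
      subst h5
      rfl
    · rintro ⟨d, hd⟩
      obtain ⟨p, hp, q, hq, rfl⟩ := hDform d hd
      exact ⟨(⟨p, hp⟩, ⟨q, hq⟩), rfl⟩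
  -- the subgroups
  set ΩP := sqSub P with hΩP
  set ΩQ := sqSub Q with hΩQ
  have hΩPP : ΩP ≤ P := sqSub_le P
  have hΩQQ : ΩQ ≤ Q := sqSub_le Q
  let N : Subgroup S := ΩP ⊔ ΩQ
  have hΩcomm : ∀ a ∈ ΩP, ∀ b ∈ ΩQ, a * b = b * a := fun a ha b hb => hcomm a (hΩPP ha) b (hΩQQ hb)
  have hNform : ∀ n ∈ N, ∃ a ∈ ΩP, ∃ b ∈ ΩQ, n = a * b := fun n hn =>
    Cfsg.Agent.H05.mem_sup_of_commute hΩcomm hn
  have hNcard : Nat.card N ≤ Nat.card ΩP * Nat.card ΩQ := by
    apply card_sup_le'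
    intro p hp
    exact Cfsg.Agent.H20.mem_norm_of_comm (hΩcomm p hp)
  have h4P := card_sqSub_mul_four_le h2 P hz.noncomm
  have h4Q := card_sqSub_mul_four_le h2 Q hw.noncomm
  let W : Subgroup S := D ⊔ Subgroup.zpowers x
  have hDW : D ≤ W := le_sup_left
  have hxW : x ∈ W := Subgroup.mem_sup_right (Subgroup.mem_zpowers x)
  have hNW : N ≤ W := by
    refine le_trans (sup_le ?_ ?_) hDW
    · exact hΩPP.trans le_sup_left
    · exact hΩQQ.trans le_sup_right
  have hWcard : 2 * Nat.card D ≤ Nat.card W := by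
    obtain ⟨m, hm⟩ := Subgroup.card_dvd_of_le hDW
    have hm0 : m ≠ 0 := by
      rintro rfl
      have : 0 < Nat.card W := Nat.card_pos
      omega
    have hm1 : m ≠ 1 := by
      rintro rfl
      apply hxD
      have : D = W := Subgroup.eq_of_le_of_card_ge hDW (by rw [hm]; simp)
      rw [this]
      exact hxW
    have hm2 : 2 ≤ m := by omega
    rw [hm, mul_comm]
    exact Nat.mul_le_mul_left _ hm2
  -- form of elements of W
  have hxcomD : ∀ d ∈ D, x * d = d * x := by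
    intro d hd
    obtain ⟨p, hp, q, hq, rfl⟩ := hDform d hd
    calc x * (p * q) = (x * p) * q := by group
      _ = p * (x * q) := by rw [hxP p hp]; group
      _ = p * (q * x) := by rw [hxQ q hq]
      _ = _ := by group
  have hWform : ∀ g ∈ W, ∃ d ∈ D, ∃ i : ℤ, g = d * x ^ i := by
    intro g hg
    have hx : D ≤ Subgroup.normalizer ((Subgroup.zpowers x : Subgroup S) : Set S) := by
      intro d hd
      apply Cfsg.Agent.H20.mem_norm_of_comm
      rintro _ ⟨i, rfl⟩
      exact (Commute.zpow_right ((hxcomD d hd).symm) i)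
    have h1 : g ∈ (↑(D ⊔ Subgroup.zpowers x) : Set S) := hg
    rw [Subgroup.coe_mul_of_left_le_normalizer_right D _ hx] at h1
    obtain ⟨d, hd, _, ⟨i, rfl⟩, rfl⟩ := h1
    exact ⟨d, hd, i, rfl⟩
  -- x² lies in N
  have hx2N : x ^ 2 ∈ N := by
    obtain ⟨p₀, hp₀, q₀, hq₀, he⟩ := hDform _ hx2
    have hc1 : ∀ r ∈ P, x ^ 2 * r = r * x ^ 2 := fun r hr' => Commute.pow_left (hxP r hr') 2
    have hc2 : ∀ r ∈ Q, x ^ 2 * r = r * x ^ 2 := fun r hr' => Commute.pow_left (hxQ r hr') 2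
    have hp₀c : ∀ r ∈ P, p₀ * r = r * p₀ := by
      intro r hr'
      have h1 := hc1 r hr'
      rw [he] at h1
      have h3 : q₀ * r = r * q₀ := (hcomm r hr' q₀ hq₀).symm
      have h5 : p₀ * r * q₀ = r * p₀ * q₀ := by
        calc p₀ * r * q₀ = p₀ * (r * q₀) := by group
          _ = p₀ * (q₀ * r) := by rw [h3]
          _ = p₀ * q₀ * r := by group
          _ = r * (p₀ * q₀) := h1
          _ = _ := by group
      exact mul_right_cancel h5
    have hq₀c : ∀ r ∈ Q, q₀ * r = r * q₀ := by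
      intro r hr'
      have h1 := hc2 r hr'
      rw [he] at h1
      have h3 : p₀ * r = r * p₀ := hcomm p₀ hp₀ r hr'
      have h5 : p₀ * (q₀ * r) = p₀ * (r * q₀) := by
        calc p₀ * (q₀ * r) = p₀ * q₀ * r := by group
          _ = r * (p₀ * q₀) := h1
          _ = (r * p₀) * q₀ := by group
          _ = (p₀ * r) * q₀ := by rw [h3]
          _ = _ := by group
      exact mul_left_cancel h5
    have hp₀Ω : p₀ ∈ ΩP := by
      rcases hz.cen p₀ hp₀ hp₀c with h | h
      · rw [h]; exact Subgroup.one_mem _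
      · rw [h]; exact zdata_mem_sqSub h2 hz
    have hq₀Ω : q₀ ∈ ΩQ := by
      rcases hw.cen q₀ hq₀ hq₀c with h | h
      · rw [h]; exact Subgroup.one_mem _
      · rw [h]; exact zdata_mem_sqSub h2 hw
    rw [he]
    exact N.mul_mem (Subgroup.mem_sup_left hp₀Ω) (Subgroup.mem_sup_right hq₀Ω)
  -- squares of W
  have hWsq : ∀ g ∈ W, g ^ 2 ∈ N := by
    intro g hg
    obtain ⟨d, hd, i, rfl⟩ := hWform g hg
    obtain ⟨p, hp, q, hq, rfl⟩ := hDform d hd
    have hpq := hcomm p hp q hq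
    have e1 : Commute (p * q) (x ^ i) := (Commute.zpow_right ((hxcomD _ (D.mul_mem (Subgroup.mem_sup_left hp) (Subgroup.mem_sup_right hq))).symm) i)
    have e2 : Commute p q := hpq
    rw [e1.mul_pow, e2.mul_pow]
    refine N.mul_mem (N.mul_mem (Subgroup.mem_sup_left (sq_mem_sqSub P hp))
      (Subgroup.mem_sup_right (sq_mem_sqSub Q hq))) ?_
    have e3 : (x ^ i) ^ 2 = (x ^ 2) ^ i := by
      rw [← zpow_natCast, ← zpow_mul, ← zpow_natCast, ← zpow_mul, mul_comm]
    rw [e3]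
    exact N.zpow_mem hx2N i
  -- normality of N in W
  have hNnorm : ∀ g ∈ W, ∀ n ∈ N, g * n * g⁻¹ ∈ N := by
    have hPN : ∀ p ∈ P, ∀ n ∈ N, p * n * p⁻¹ ∈ N := by
      intro p hp n hn
      obtain ⟨a, ha, b, hb, rfl⟩ := hNform n hn
      have e : p * (a * b) * p⁻¹ = (p * a * p⁻¹) * b := by
        have := hcomm p hp b (hΩQQ hb)
        calc p * (a * b) * p⁻¹ = p * a * (b * p⁻¹) := by group
          _ = p * a * (p⁻¹ * b) := by
            have h3 : b * p⁻¹ = p⁻¹ * b := by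
              have := hcomm p⁻¹ (P.inv_mem hp) b (hΩQQ hb)
              exact this.symm
            rw [h3]
          _ = _ := by group
      rw [e]
      refine N.mul_mem (Subgroup.mem_sup_left ?_) (Subgroup.mem_sup_right hb)
      exact sqSub_conj P p (fun w hw => P.mul_mem (P.mul_mem hp hw) (P.inv_mem hp)) a ha
    have hQN : ∀ q ∈ Q, ∀ n ∈ N, q * n * q⁻¹ ∈ N := by
      intro q hq n hn
      obtain ⟨a, ha, b, hb, rfl⟩ := hNform n hn
      have e : q * (a * b) * q⁻¹ = a * (q * b * q⁻¹) := by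
        have h3 : q * a = a * q := (hcomm a (hΩPP ha) q hq).symm
        calc q * (a * b) * q⁻¹ = (q * a) * b * q⁻¹ := by group
          _ = (a * q) * b * q⁻¹ := by rw [h3]
          _ = _ := by group
      rw [e]
      refine N.mul_mem (Subgroup.mem_sup_left ha) (Subgroup.mem_sup_right ?_)
      exact sqSub_conj Q q (fun w hw => Q.mul_mem (Q.mul_mem hq hw) (Q.inv_mem hq)) b hb
    have hxN : ∀ (i : ℤ), ∀ n ∈ N, x ^ i * n * (x ^ i)⁻¹ = n := by
      intro i n hn
      obtain ⟨a, ha, b, hb, rfl⟩ := hNform n hn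
      have hn' : x * (a * b) = (a * b) * x := hxcomD _ (D.mul_mem (Subgroup.mem_sup_left (hΩPP ha)) (Subgroup.mem_sup_right (hΩQQ hb)))
      have h3 : Commute (x ^ i) (a * b) := Commute.zpow_left hn' i
      rw [h3.eq, mul_inv_cancel_right]
    intro g hg n hn
    obtain ⟨d, hd, i, rfl⟩ := hWform g hg
    obtain ⟨p, hp, q, hq, rfl⟩ := hDform d hd
    have e : p * q * x ^ i * n * (p * q * x ^ i)⁻¹ = p * (q * (x ^ i * n * (x ^ i)⁻¹) * q⁻¹) * p⁻¹ := by group
    rw [e, hxN i n hn]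
    exact hPN p hp _ (hQN q hq n hn)
  -- the section
  haveI hN₀ : (N.subgroupOf W).Normal := by
    refine ⟨fun n hn g => ?_⟩
    rw [Subgroup.mem_subgroupOf] at hn ⊢
    exact hNnorm g g.2 n hn
  have hidx := section_index_le hr W (N.subgroupOf W) (by
    intro a
    rw [Subgroup.mem_subgroupOf]
    exact hWsq a a.2)
  have hc3 := Subgroup.card_mul_index (N.subgroupOf W)
  have hc4 : Nat.card (N.subgroupOf W) = Nat.card N :=
    Nat.card_congr (Subgroup.subgroupOfEquivOfLe hNW).toEquiv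
  rw [hc4] at hc3
  have hNpos : 0 < Nat.card N := Nat.card_pos
  have hfin : 32 * Nat.card N ≤ Nat.card W := by
    calc 32 * Nat.card N ≤ 32 * (Nat.card ΩP * Nat.card ΩQ) := Nat.mul_le_mul_left _ hNcard
      _ = 2 * ((4 * Nat.card ΩP) * (4 * Nat.card ΩQ)) := by ring
      _ ≤ 2 * (Nat.card P * Nat.card Q) := Nat.mul_le_mul_left _ (Nat.mul_le_mul h4P h4Q)
      _ = 2 * Nat.card D := by rw [hDcard]
      _ ≤ _ := hWcard
  rw [← hc3] at hfin
  have h16 : Nat.card N * (N.subgroupOf W).index ≤ Nat.card N * 16 := Nat.mul_le_mul_left _ (by simpa using hidx)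
  omega

end Cfsg.Agent.H20
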