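import Mathlib

/-! Frobenius identities for splitting automorphisms (helper20):
the product identity behind Thompson's and Kegel's theorems. -/

set_option autoImplicit false
set_option linter.unusedVariables false
set_option linter.style.haveILetI false

namespace Cfsg.Agent.H20

section Orb

variable {V : Type*} [Group V]

/-- The orbit product `v · τ v ⋯ τ^{n-1} v`, written without commutativity. -/
def orbProd (τ : MulAut V) (v : V) : ℕ → V
  | 0 => 1
  | n + 1 => v * τ (orbProd τ v n)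

theorem orbProd_eq_prod {V : Type*} [CommGroup V] (τ : MulAut V) (v : V) (n : ℕ) :
    orbProd τ v n = ∏ i ∈ Finset.range n, (τ ^ i) v := by
  induction n with
  | zero => simp [orbProd]
  | succ n ih =>
    rw [orbProd, ih, map_prod, Finset.prod_range_succ', pow_zero, MulAut.one_apply, mul_comm]
    congr 1
    apply Finset.prod_congr rfl
    intro i _
    rw [pow_succ']
    rfl

end Orb

section Periodic

variable {V : Type*}

theorem pow_apply_eq_mod [Group V] (β : MulAut V) {p : ℕ} (hβ : β ^ p = 1) (n : ℕ) (w : V) :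
    (β ^ n) w = (β ^ (n % p)) w := by
  rw [pow_eq_pow_mod n hβ]

theorem prod_range_mul_reindex [CommGroup V] {p : ℕ} (hp : p.Prime) (β : MulAut V)
    (hβ : β ^ p = 1) (w : V) {i : ℕ} (hi0 : 0 < i) (hip : i < p) :
    ∏ j ∈ Finset.range p, (β ^ (j * i)) w = ∏ j ∈ Finset.range p, (β ^ j) w := by
  have hcop : Nat.Coprime i p := Nat.Coprime.symm ((Nat.Prime.coprime_iff_not_dvd hp).mpr
    (fun h => absurd (Nat.le_of_dvd hi0 h) (by omega)))
  have hinj : Set.InjOn (fun j => (j * i) % p) (Finset.range p : Set ℕ) := by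
    intro a ha b hb hab
    have ha' : a < p := Finset.mem_range.mp ha
    have hb' : b < p := Finset.mem_range.mp hb
    have h1 : a * i ≡ b * i [MOD p] := hab
    have h2 : a ≡ b [MOD p] := Nat.ModEq.cancel_right_of_coprime (Nat.coprime_comm.mp hcop) h1
    have h3 := Nat.ModEq.eq_of_lt_of_lt h2 ha' hb'
    exact h3
  have hmaps : ∀ a ∈ Finset.range p, (fun j => (j * i) % p) a ∈ Finset.range p := by
    intro a _
    exact Finset.mem_range.mpr (Nat.mod_lt _ hp.pos)
  have hsurj : Set.SurjOn (fun j => (j * i) % p) (Finset.range p : Set ℕ) (Finset.range p : Set ℕ) :=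
    Finset.surjOn_of_injOn_of_card_le _ hmaps hinj le_rfl
  exact Finset.prod_nbij (fun j => (j * i) % p) hmaps hinj hsurj
    (fun a _ => pow_apply_eq_mod β hβ _ _)

theorem prod_telescope [CommGroup V] (β : MulAut V) (v : V) (n : ℕ) :
    ∏ j ∈ Finset.range n, (β ^ j) (v⁻¹ * β v) = v⁻¹ * (β ^ n) v := by
  induction n with
  | zero => simp
  | succ n ih =>
    rw [Finset.prod_range_succ, ih, map_mul, map_inv]
    have : (β ^ n) (β v) = (β ^ (n + 1)) v := by
      rw [pow_succ]; rfl
    rw [this]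
    group

theorem prod_orbit_fixed [CommGroup V] {p : ℕ} (hp : 0 < p) (γ : MulAut V) (hγ : γ ^ p = 1) (w : V) :
    γ (∏ i ∈ Finset.range p, (γ ^ i) w) = ∏ i ∈ Finset.range p, (γ ^ i) w := by
  obtain ⟨m, rfl⟩ : ∃ m, p = m + 1 := ⟨p - 1, by omega⟩
  rw [map_prod, Finset.prod_range_succ, Finset.prod_range_succ' (fun i => (γ ^ i) w)]
  have h1 : ∀ i, γ ((γ ^ i) w) = (γ ^ (i + 1)) w := by
    intro i
    rw [pow_succ']
    rfl
  simp only [h1]
  rw [hγ, pow_zero]

end Periodic

section Two

variable {V : Type*} [Group V] [Finite V]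

/-- `Z_p × Z_p` cannot act with all `α β^j` fixed point free unless `β` is trivial
(abelian coprime case). -/
theorem two_gen_abelian (hV : ∀ a b : V, a * b = b * a) {p : ℕ} (hp : p.Prime)
    (hcop : (Nat.card V).Coprime p) (α β : MulAut V) (hc : α * β = β * α)
    (hα : α ^ p = 1) (hβ : β ^ p = 1) (hfpf : ∀ (j : ℕ) (v : V), (α * β ^ j) v = v → v = 1) :
    ∀ v, β v = v := by
  classical
  letI : CommGroup V := { (inferInstance : Group V) with mul_comm := hV }
  intro v
  set w : V := v⁻¹ * β v with hw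
  have hcomm : Commute α β := hc
  have hA : ∀ j : ℕ, ∏ i ∈ Finset.range p, ((α * β ^ j) ^ i) w = 1 := by
    intro j
    have hγ : (α * β ^ j) ^ p = 1 := by
      rw [(hcomm.pow_right j).mul_pow, hα, ← pow_mul, mul_comm, pow_mul, hβ, one_pow, one_mul]
    exact hfpf j _ (prod_orbit_fixed hp.pos _ hγ w)
  have hB : ∏ j ∈ Finset.range p, ∏ i ∈ Finset.range p, ((α * β ^ j) ^ i) w = 1 :=
    Finset.prod_eq_one (fun j _ => hA j)
  rw [Finset.prod_comm] at hB
  have hC : ∀ i ∈ Finset.range p, ∏ j ∈ Finset.range p, ((α * β ^ j) ^ i) w =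
      (α ^ i) (∏ j ∈ Finset.range p, (β ^ (j * i)) w) := by
    intro i _
    rw [map_prod]
    apply Finset.prod_congr rfl
    intro j _
    rw [(hcomm.pow_right j).mul_pow, ← pow_mul]
    rfl
  rw [Finset.prod_congr rfl hC] at hB
  have hT : ∏ j ∈ Finset.range p, (β ^ j) w = 1 := by
    rw [hw, prod_telescope, hβ]
    simp
  obtain ⟨m, hm⟩ : ∃ m, p = m + 1 := ⟨p - 1, by have := hp.pos; omega⟩
  have hD : ∀ i ∈ Finset.range m, (α ^ (i + 1)) (∏ j ∈ Finset.range p, (β ^ (j * (i + 1))) w) = 1 := by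
    intro i hi
    have hi' : i < m := Finset.mem_range.mp hi
    rw [prod_range_mul_reindex hp β hβ w (by omega) (by omega), hT, map_one]
  rw [hm, Finset.prod_range_succ', ← hm, Finset.prod_eq_one hD, one_mul, pow_zero] at hB
  simp only [mul_zero, pow_zero, MulAut.one_apply, Finset.prod_const, Finset.card_range] at hB
  have hwp : w = 1 := by
    have h1 := orderOf_dvd_of_pow_eq_one hB
    have h2 := orderOf_dvd_natCard w
    have h3 : orderOf w = 1 := Nat.eq_one_of_dvd_coprimes hcop h2 h1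
    exact orderOf_eq_one_iff.mp h3
  have : v⁻¹ * β v = 1 := hwp
  exact (inv_mul_eq_one.mp this).symm

end Two

section Frob

variable {K V : Type*} [Group K] [Finite K] [Group V] [Finite V]

theorem fpf_pow {σ : MulAut K} {r : ℕ} (hr : r.Prime) (hσr : σ ^ r = 1)
    (hfpf : ∀ k, σ k = k → k = 1) {j : ℕ} (hj0 : 0 < j) (hjr : j < r) {k : K} (hk : (σ ^ j) k = k) :
    k = 1 := by
  apply hfpf
  have hcop : Nat.Coprime j r := Nat.Coprime.symm ((Nat.Prime.coprime_iff_not_dvd hr).mpr
    (fun h => absurd (Nat.le_of_dvd hj0 h) (by omega)))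
  obtain ⟨n, -, hn⟩ := Nat.exists_mul_mod_eq_one_of_coprime hcop hr.one_lt
  have h1 : σ = (σ ^ j) ^ n := by
    rw [← pow_mul, pow_eq_pow_mod (j * n) hσr, hn, pow_one]
  have h2 : ∀ m : ℕ, ((σ ^ j) ^ m) k = k := by
    intro m
    induction m with
    | zero => simp
    | succ m ih =>
      rw [pow_succ]
      show ((σ ^ j) ^ m) ((σ ^ j) k) = k
      rw [hk, ih]
  rw [h1]
  exact h2 n

/-- **Frobenius identity.** If `K ⋊ ⟨σ⟩` acts on an abelian group `V` of coprime order,
`σ` acts fixed point freely on `K` and the orbit products of `τ` on `V` are trivial, then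
`K` acts trivially on `V`. -/
theorem frob_identity (hV : ∀ a b : V, a * b = b * a) {r : ℕ} (hr : r.Prime)
    (ρ : K →* MulAut V) (σ : MulAut K) (τ : MulAut V) (hσr : σ ^ r = 1)
    (hrel : ∀ k v, τ (ρ k v) = ρ (σ k) (τ v)) (hfpf : ∀ k, σ k = k → k = 1)
    (hT : ∀ v, orbProd τ v r = 1) (hcop : (Nat.card V).Coprime (Nat.card K)) :
    ∀ k v, ρ k v = v := by
  classical
  haveI : Fintype K := Fintype.ofFinite K
  letI : CommGroup V := { (inferInstance : Group V) with mul_comm := hV }
  have hrelp : ∀ (j : ℕ) k v, (τ ^ j) (ρ k v) = ρ ((σ ^ j) k) ((τ ^ j) v) := by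
    intro j
    induction j with
    | zero => intro k v; simp
    | succ j ih =>
      intro k v
      rw [pow_succ', pow_succ']
      show τ ((τ ^ j) (ρ k v)) = ρ (σ ((σ ^ j) k)) (τ ((τ ^ j) v))
      rw [ih, hrel]
  let S : V → V := fun w => ∏ y : K, ρ y w
  have hSinv : ∀ w, S w⁻¹ = (S w)⁻¹ := by
    intro w
    simp only [S, map_inv, Finset.prod_inv_distrib]
  have hSprod : ∀ (s : Finset ℕ) (f : ℕ → V), ∏ i ∈ s, S (f i) = S (∏ i ∈ s, f i) := by
    intro s f
    simp only [S, map_prod]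
    exact Finset.prod_comm
  have hmain : ∀ v, S v = v ^ Nat.card K := by
    intro v
    obtain ⟨m, hm⟩ : ∃ m, r = m + 1 := ⟨r - 1, by have := hr.pos; omega⟩
    have h1 : ∀ k : K, ∏ i ∈ Finset.range r, ρ k ((τ ^ i) (ρ k⁻¹ v)) = 1 := by
      intro k
      rw [← map_prod, ← orbProd_eq_prod, hT, map_one]
    have h2 : ∏ k : K, ∏ i ∈ Finset.range r, ρ k ((τ ^ i) (ρ k⁻¹ v)) = 1 :=
      Finset.prod_eq_one (fun k _ => h1 k)
    rw [Finset.prod_comm] at h2
    have h3 : ∀ i ∈ Finset.range m, ∏ k : K, ρ k ((τ ^ (i + 1)) (ρ k⁻¹ v)) = S ((τ ^ (i + 1)) v) := by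
      intro i hi
      have hi' : i < m := Finset.mem_range.mp hi
      let f : K → K := fun k => k * ((σ ^ (i + 1)) k)⁻¹
      have hfinj : Function.Injective f := by
        intro a b hab
        have hab' : a * ((σ ^ (i + 1)) a)⁻¹ = b * ((σ ^ (i + 1)) b)⁻¹ := hab
        have : (σ ^ (i + 1)) (b⁻¹ * a) = b⁻¹ * a := by
          rw [map_mul, map_inv]
          have h5 : a = b * ((σ ^ (i + 1)) b)⁻¹ * (σ ^ (i + 1)) a := by
            rw [← hab']; group
          calc ((σ ^ (i + 1)) b)⁻¹ * (σ ^ (i + 1)) a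
              = b⁻¹ * (b * ((σ ^ (i + 1)) b)⁻¹ * (σ ^ (i + 1)) a) := by group
            _ = b⁻¹ * a := by rw [← h5]
        have h6 := fpf_pow hr hσr hfpf (by omega) (by omega) this
        exact (inv_mul_eq_one.mp h6).symm
      have hfbij : Function.Bijective f := Finite.injective_iff_bijective.mp hfinj
      have : ∀ k : K, ρ k ((τ ^ (i + 1)) (ρ k⁻¹ v)) = ρ (f k) ((τ ^ (i + 1)) v) := by
        intro k
        rw [hrelp]
        simp only [f, map_mul, map_inv]
        rfl
      simp only [this]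
      exact hfbij.prod_comp (fun y => ρ y ((τ ^ (i + 1)) v))
    rw [hm, Finset.prod_range_succ', Finset.prod_congr rfl h3, hSprod] at h2
    have h4 : ∏ k : K, ρ k ((τ ^ 0) (ρ k⁻¹ v)) = v ^ Nat.card K := by
      have : ∀ k : K, ρ k ((τ ^ 0) (ρ k⁻¹ v)) = v := by
        intro k
        simp only [pow_zero, MulAut.one_apply, map_inv]
        exact MulEquiv.apply_symm_apply (ρ k) v
      simp only [this, Finset.prod_const, Finset.card_univ, Nat.card_eq_fintype_card]
    rw [h4] at h2
    have h5 : ∏ i ∈ Finset.range m, (τ ^ (i + 1)) v = v⁻¹ := by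
      have := hT v
      rw [orbProd_eq_prod, hm, Finset.prod_range_succ', pow_zero, MulAut.one_apply] at this
      exact eq_inv_of_mul_eq_one_left this
    rw [h5, hSinv] at h2
    exact (inv_mul_eq_one.mp h2)
  have hfix : ∀ (l : K) (v : V), ρ l (S v) = S v := by
    intro l v
    simp only [S, map_prod]
    have : ∀ y : K, ρ l (ρ y v) = ρ (l * y) v := by
      intro y
      rw [map_mul]
      rfl
    simp only [this]
    exact Equiv.prod_comp (Equiv.mulLeft l) (fun y => ρ y v)
  intro k v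
  obtain ⟨u, rfl⟩ : ∃ u : V, u ^ Nat.card K = v := ⟨(powCoprime hcop).symm v, (powCoprime hcop).apply_symm_apply v⟩
  rw [← hmain]
  exact hfix k u

end Frob

end Cfsg.Agent.H20
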