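import Cfsg.Agent.Lib.H14.BO11
import Cfsg.Agent.Lib.H01.Coprime4
import Cfsg.Agent.Lib.H20.Basic
import Cfsg.Agent.Lib.H08.PCoreL
import Mathlib

/-! Automizer indices, characteristic subgroups in an ambient group, local subgroups of `p`-constrained groups. -/

set_option autoImplicit false
set_option linter.unusedVariables false
set_option linter.style.haveILetI false
set_option linter.unusedSectionVars false

namespace Cfsg.Agent.H20.TQ

open Cfsg

universe u

/-- The automizer index `|N(K) : C(K)|`. -/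
noncomputable abbrev ai {G : Type*} [Group G] (K : Subgroup G) : ℕ :=
  ((Subgroup.centralizer (K : Set G)).subgroupOf (Subgroup.normalizer (K : Set G))).index

section ai

variable {G₁ G₂ : Type*} [Group G₁] [Group G₂] [Finite G₁] [Finite G₂]

instance ai_normal (K : Subgroup G₂) :
    ((Subgroup.centralizer (K : Set G₂)).subgroupOf (Subgroup.normalizer (K : Set G₂))).Normal := by
  infer_instance

/-- Functoriality, first form. -/
theorem ai_dvd_of_hom (f : G₁ →* G₂) (K₁ : Subgroup G₁) (K₂ : Subgroup G₂)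
    (ha : ∀ y ∈ Subgroup.normalizer (K₁ : Set G₁), f y ∈ Subgroup.normalizer (K₂ : Set G₂))
    (hb : ∀ y ∈ Subgroup.normalizer (K₁ : Set G₁), f y ∈ Subgroup.centralizer (K₂ : Set G₂) →
      y ∈ Subgroup.centralizer (K₁ : Set G₁)) :
    ai K₁ ∣ ai K₂ := by
  let f' : ↥(Subgroup.normalizer (K₁ : Set G₁)) →* ↥(Subgroup.normalizer (K₂ : Set G₂)) :=
    (f.comp (Subgroup.normalizer (K₁ : Set G₁)).subtype).codRestrict _ (fun y => ha y y.2)
  obtain ⟨C₂, hC₂⟩ : ∃ C₂, C₂ = (Subgroup.centralizer (K₂ : Set G₂)).subgroupOf (Subgroup.normalizer (K₂ : Set G₂)) :=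
    ⟨_, rfl⟩
  have h1 : C₂.comap f' ≤ (Subgroup.centralizer (K₁ : Set G₁)).subgroupOf (Subgroup.normalizer (K₁ : Set G₁)) := by
    intro y hy
    rw [Subgroup.mem_comap, hC₂, Subgroup.mem_subgroupOf] at hy
    exact Subgroup.mem_subgroupOf.2 (hb y y.2 hy)
  have h2 := Subgroup.index_dvd_of_le h1
  have h3 : (C₂.comap f').index ∣ C₂.index := by
    rw [Subgroup.index_comap]
    rw [hC₂]
    exact Subgroup.relIndex_dvd_index_of_normal _ _
  rw [hC₂] at h3
  simp only [ai]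
  rw [hC₂] at h2
  exact h2.trans h3

/-- Functoriality, second form. -/
theorem ai_dvd_of_surj (f : G₁ →* G₂) (K₁ : Subgroup G₁) (K₂ : Subgroup G₂)
    (ha : ∀ y ∈ Subgroup.normalizer (K₁ : Set G₁), f y ∈ Subgroup.normalizer (K₂ : Set G₂))
    (hb : ∀ y ∈ Subgroup.normalizer (K₁ : Set G₁), y ∈ Subgroup.centralizer (K₁ : Set G₁) →
      f y ∈ Subgroup.centralizer (K₂ : Set G₂))
    (hc : ∀ z ∈ Subgroup.normalizer (K₂ : Set G₂), ∃ y ∈ Subgroup.normalizer (K₁ : Set G₁), f y = z) :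
    ai K₂ ∣ ai K₁ := by
  let f' : ↥(Subgroup.normalizer (K₁ : Set G₁)) →* ↥(Subgroup.normalizer (K₂ : Set G₂)) :=
    (f.comp (Subgroup.normalizer (K₁ : Set G₁)).subtype).codRestrict _ (fun y => ha y y.2)
  have hf' : Function.Surjective f' := by
    rintro ⟨z, hz⟩
    obtain ⟨y, hy, rfl⟩ := hc z hz
    exact ⟨⟨y, hy⟩, rfl⟩
  obtain ⟨C₂, hC₂⟩ : ∃ C₂, C₂ = (Subgroup.centralizer (K₂ : Set G₂)).subgroupOf (Subgroup.normalizer (K₂ : Set G₂)) :=
    ⟨_, rfl⟩
  have h1 : (Subgroup.centralizer (K₁ : Set G₁)).subgroupOf (Subgroup.normalizer (K₁ : Set G₁)) ≤ C₂.comap f' := by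
    intro y hy
    rw [Subgroup.mem_comap, hC₂, Subgroup.mem_subgroupOf]
    exact hb y y.2 (Subgroup.mem_subgroupOf.1 hy)
  have h2 := Subgroup.index_dvd_of_le h1
  rw [Subgroup.index_comap_of_surjective _ hf', hC₂] at h2
  exact h2

/-- Automizers grow in overgroups. -/
theorem ai_subgroup_dvd {G : Type*} [Group G] [Finite G] (L : Subgroup G) (K : Subgroup L) :
    ai K ∣ ai (K.map L.subtype) := by
  apply ai_dvd_of_hom L.subtype
  · intro y hy
    rw [Subgroup.mem_normalizer_iff] at hy ⊢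
    intro x
    constructor
    · rintro ⟨k, hk, rfl⟩
      exact ⟨y * k * y⁻¹, (hy k).1 hk, rfl⟩
    · rintro ⟨k, hk, hkx⟩
      have e : (k : G) = y * x * y⁻¹ := hkx
      refine ⟨y⁻¹ * k * y, ?_, ?_⟩
      · have := (hy (y⁻¹ * k * y)).2 (by
          have e2 : y * (y⁻¹ * k * y) * y⁻¹ = k := by group
          rw [e2]; exact hk)
        exact this
      · show (y : G)⁻¹ * (k : G) * (y : G) = x
        rw [e]; simp only [InvMemClass.coe_inv]; group
  · intro y hy hc
    rw [Subgroup.mem_centralizer_iff] at hc ⊢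
    intro k hk
    apply Subtype.ext
    exact hc k ⟨k, hk, rfl⟩

/-- Conjugation invariance. -/
theorem ai_conj {G : Type*} [Group G] [Finite G] (g : G) (K K' : Subgroup G)
    (hK' : K' = K.map (MulAut.conj g).toMonoidHom) :
    ai K ∣ ai K' := by
  subst hK'
  apply ai_dvd_of_hom (MulAut.conj g).toMonoidHom
  · intro y hy
    rw [Subgroup.mem_normalizer_iff] at hy ⊢
    intro x
    constructor
    · rintro ⟨k, hk, rfl⟩
      refine ⟨y * k * y⁻¹, (hy k).1 hk, ?_⟩
      simp only [MulEquiv.toMonoidHom_eq_coe, MonoidHom.coe_coe, MulAut.conj_apply]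
      group
    · rintro ⟨k, hk, hkx⟩
      have e : g * k * g⁻¹ = (g * y * g⁻¹) * x * (g * y * g⁻¹)⁻¹ := by
        simpa [MulAut.conj_apply] using hkx
      refine ⟨y⁻¹ * k * y, ?_, ?_⟩
      · apply (hy _).2
        have e2 : y * (y⁻¹ * k * y) * y⁻¹ = k := by group
        rw [e2]; exact hk
      · simp only [MulEquiv.toMonoidHom_eq_coe, MonoidHom.coe_coe, MulAut.conj_apply]
        have : x = (g * y * g⁻¹)⁻¹ * (g * k * g⁻¹) * (g * y * g⁻¹) := by rw [e]; group
        rw [this]; group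
  · intro y hy hc
    rw [Subgroup.mem_centralizer_iff] at hc ⊢
    intro k hk
    have h1 := hc (g * k * g⁻¹) ⟨k, hk, by simp [MulAut.conj_apply]⟩
    simp only [MulEquiv.toMonoidHom_eq_coe, MonoidHom.coe_coe, MulAut.conj_apply] at h1
    have h2 : g * (k * y) * g⁻¹ = g * (y * k) * g⁻¹ := by
      calc g * (k * y) * g⁻¹ = g * k * g⁻¹ * (g * y * g⁻¹) := by group
        _ = g * y * g⁻¹ * (g * k * g⁻¹) := h1
        _ = g * (y * k) * g⁻¹ := by group
    have h3 : k * y = y * k := by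
      have := mul_left_cancel (mul_right_cancel h2)
      exact this
    exact h3

end ai

section ch

/-- `K` is a characteristic subgroup of `S`, inside an ambient group. -/
def IsCh {G : Type*} [Group G] (S K : Subgroup G) : Prop :=
  K ≤ S ∧ ∀ (φ : ↥S ≃* ↥S) (x : ↥S), (x : G) ∈ K → ((φ x : ↥S) : G) ∈ K

variable {G G' : Type*} [Group G] [Group G']

/-- An automorphism restricted to an invariant subgroup. -/
def resAut {S S₁ : Subgroup G} (hS : S₁ ≤ S) (h : ∀ (φ : ↥S ≃* ↥S) (x : ↥S), (x : G) ∈ S₁ → ((φ x : ↥S) : G) ∈ S₁)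
    (φ : ↥S ≃* ↥S) : ↥S₁ ≃* ↥S₁ where
  toFun x := ⟨φ ⟨x, hS x.2⟩, h φ ⟨x, hS x.2⟩ x.2⟩
  invFun x := ⟨φ.symm ⟨x, hS x.2⟩, h φ.symm ⟨x, hS x.2⟩ x.2⟩
  left_inv x := by
    apply Subtype.ext
    simp
  right_inv x := by
    apply Subtype.ext
    simp
  map_mul' x y := by
    apply Subtype.ext
    have : (⟨((x * y : ↥S₁) : G), hS (x * y).2⟩ : ↥S) = ⟨x, hS x.2⟩ * ⟨y, hS y.2⟩ := rfl
    simp only [this, map_mul]
    rfl

theorem IsCh.trans {S S₁ K : Subgroup G} (h1 : IsCh S S₁) (h2 : IsCh S₁ K) : IsCh S K := by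
  refine ⟨h2.1.trans h1.1, fun φ x hx => ?_⟩
  have h3 := h2.2 (resAut h1.1 h1.2 φ) ⟨x, h2.1 hx⟩ hx
  exact h3

theorem IsCh.refl (S : Subgroup G) : IsCh S S := ⟨le_rfl, fun φ x _ => (φ x).2⟩

/-- Transport along an injective hom. -/
theorem IsCh.map {S K : Subgroup G} (h : IsCh S K) (f : G →* G') (hf : Function.Injective f) :
    IsCh (S.map f) (K.map f) := by
  refine ⟨Subgroup.map_mono h.1, fun φ x hx => ?_⟩
  let e : ↥S ≃* ↥(S.map f) := Subgroup.equivMapOfInjective S f hf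
  obtain ⟨k, hk, hkx⟩ := hx
  have hkS : k ∈ S := h.1 hk
  have hex : x = e ⟨k, hkS⟩ := Subtype.ext hkx.symm
  have h3 := h.2 (e.trans (φ.trans e.symm)) ⟨k, hkS⟩ hk
  refine ⟨_, h3, ?_⟩
  have h4 : e ((e.trans (φ.trans e.symm)) ⟨k, hkS⟩) = φ x := by
    simp [hex]
  have h5 := congrArg Subtype.val h4
  exact h5

/-- The centralizer in `S` of a characteristic subgroup. -/
theorem IsCh.inf_centralizer {S K : Subgroup G} (h : IsCh S K) :
    IsCh S (S ⊓ Subgroup.centralizer (K : Set G)) := by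
  refine ⟨inf_le_left, fun φ x hx => ⟨(φ x).2, ?_⟩⟩
  refine Subgroup.mem_centralizer_iff.2 ?_
  intro k hk
  have hkS : k ∈ S := h.1 hk
  have h1 : ((φ.symm ⟨k, hkS⟩ : ↥S) : G) ∈ K := h.2 φ.symm ⟨k, hkS⟩ hk
  have h2 := Subgroup.mem_centralizer_iff.1 hx.2 _ h1
  have h3 : φ.symm ⟨k, hkS⟩ * x = x * φ.symm ⟨k, hkS⟩ := Subtype.ext h2
  have h4 := congrArg φ h3
  simp only [map_mul, MulEquiv.apply_symm_apply] at h4
  exact congrArg Subtype.val h4

/-- Preimages under a surjection with characteristic kernel. -/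
theorem IsCh.comap {S : Subgroup G} (π : G →* G') (hπ : Function.Surjective π) (hk : IsCh S π.ker)
    {K : Subgroup G'} (h : IsCh (S.map π) K) : IsCh S (K.comap π) := by
  classical
  have hle : K.comap π ≤ S := by
    intro x hx
    obtain ⟨s, hs, hsx⟩ := h.1 hx
    have h1 : s⁻¹ * x ∈ π.ker := by
      rw [MonoidHom.mem_ker, map_mul, map_inv, hsx]; group
    have e : x = s * (s⁻¹ * x) := by group
    rw [e]
    exact S.mul_mem hs (hk.1 h1)
  refine ⟨hle, fun φ x hx => ?_⟩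
  -- the induced map
  let r : ↥S →* ↥(S.map π) := π.subgroupMap S
  have hr : Function.Surjective r := π.subgroupMap_surjective S
  have hker : ∀ (ψ : ↥S ≃* ↥S), r.ker ≤ (r.comp ψ.toMonoidHom).ker := by
    intro ψ y hy
    rw [MonoidHom.mem_ker] at hy ⊢
    have hy' : π (y : G) = 1 := congrArg Subtype.val hy
    have h1 : ((ψ y : ↥S) : G) ∈ π.ker := hk.2 ψ y hy'
    apply Subtype.ext
    exact h1
  let Φ : ↥(S.map π) →* ↥(S.map π) := (r.liftOfSurjective hr) ⟨r.comp φ.toMonoidHom, hker φ⟩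
  let Ψ : ↥(S.map π) →* ↥(S.map π) := (r.liftOfSurjective hr) ⟨r.comp φ.symm.toMonoidHom, hker φ.symm⟩
  have hΦ : ∀ y : ↥S, Φ (r y) = r (φ y) := fun y =>
    MonoidHom.liftOfRightInverse_comp_apply _ _ _ _ y
  have hΨ : ∀ y : ↥S, Ψ (r y) = r (φ.symm y) := fun y =>
    MonoidHom.liftOfRightInverse_comp_apply _ _ _ _ y
  let ε : ↥(S.map π) ≃* ↥(S.map π) :=
    { toFun := Φ
      invFun := Ψ
      left_inv := by
        intro z
        obtain ⟨y, rfl⟩ := hr z
        rw [hΦ, hΨ]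
        simp
      right_inv := by
        intro z
        obtain ⟨y, rfl⟩ := hr z
        rw [hΨ, hΦ]
        simp
      map_mul' := Φ.map_mul }
  have h1 : π (x : G) ∈ K := hx
  have h2 := h.2 ε (r x) h1
  have h3 : ε (r x) = r (φ x) := hΦ x
  rw [h3] at h2
  exact h2

variable [Finite G] {p : ℕ} [Fact p.Prime]

theorem isCh_omega (S : Subgroup G) :
    IsCh S (omegaOne p (S ⊓ Subgroup.centralizer (S : Set G))) := by
  have hle : omegaOne p (S ⊓ Subgroup.centralizer (S : Set G)) ≤ S := by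
    apply (Subgroup.closure_le _).2
    rintro x ⟨hx, -⟩
    exact hx.1
  refine ⟨hle, ?_⟩
  -- the subgroup of `S` is invariant under automorphisms
  intro φ x hx
  have hcomap : omegaOne p (S ⊓ Subgroup.centralizer (S : Set G)) ≤
      ((omegaOne p (S ⊓ Subgroup.centralizer (S : Set G))).comap (S.subtype.comp φ.toMonoidHom)).map S.subtype := by
    apply (Subgroup.closure_le _).2
    rintro y ⟨⟨hyS, hyc⟩, hyp⟩
    refine ⟨⟨y, hyS⟩, ?_, rfl⟩
    apply Subgroup.subset_closure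
    refine ⟨⟨(φ ⟨y, hyS⟩).2, ?_⟩, ?_⟩
    · refine Subgroup.mem_centralizer_iff.2 ?_
      intro k hk
      have h1 := Subgroup.mem_centralizer_iff.1 hyc _ (φ.symm ⟨k, hk⟩).2
      have h3 : φ.symm ⟨k, hk⟩ * ⟨y, hyS⟩ = ⟨y, hyS⟩ * φ.symm ⟨k, hk⟩ := Subtype.ext h1
      have h4 := congrArg φ h3
      simp only [map_mul, MulEquiv.apply_symm_apply] at h4
      exact congrArg Subtype.val h4
    · have h1 : (⟨y, hyS⟩ : ↥S) ^ p = 1 := Subtype.ext hyp
      have h2 := congrArg φ h1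
      rw [map_pow, map_one] at h2
      exact congrArg Subtype.val h2
  obtain ⟨w, hw, hwx⟩ := hcomap hx
  have e : w = x := Subtype.ext hwx
  rw [e] at hw
  exact hw

theorem isCh_thompson (S : Subgroup G) : IsCh S (thompsonSubgroupOf p S) := by
  have hle : thompsonSubgroupOf p S ≤ S := by
    rintro _ ⟨y, -, rfl⟩
    exact y.2
  refine ⟨hle, ?_⟩
  intro φ x hx
  have hmem : x ∈ thompsonSubgroup p ↥S := by
    obtain ⟨y, hy, hyx⟩ := hx
    have e : y = x := Subtype.ext hyx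
    rwa [e] at hy
  have hcomap : thompsonSubgroup p ↥S ≤ (thompsonSubgroup p ↥S).comap φ.toMonoidHom := by
    apply sSup_le
    intro A hA y hy
    rw [Subgroup.mem_comap]
    have hA' : A.map φ.toMonoidHom ∈ maxElementaryAbelianSubgroups p ↥S := by
      obtain ⟨hAe, hAm⟩ := hA
      have hcard : Nat.card (A.map φ.toMonoidHom) = Nat.card A :=
        (Nat.card_congr (Subgroup.equivMapOfInjective A _ φ.injective).toEquiv).symm
      refine ⟨?_, fun B hB => ?_⟩
      · have hcA := Cfsg.Agent.H02.commV_of_ea hAe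
        refine ⟨⟨⟨?_⟩⟩, ?_⟩
        · rintro ⟨_, a, ha, rfl⟩ ⟨_, b, hb, rfl⟩
          apply Subtype.ext
          change φ a * φ b = φ b * φ a
          rw [← map_mul, ← map_mul, hcA a ha b hb]
        · rintro _ ⟨a, ha, rfl⟩
          change φ a ^ p = 1
          rw [← map_pow, hAe.2 a ha, map_one]
      · rw [hcard]
        exact hAm B hB
    exact (le_sSup hA' : _ ≤ thompsonSubgroup p ↥S) ⟨y, hy, rfl⟩
  exact ⟨_, hcomap hmem, rfl⟩

end ch

section local_core

variable {Γ : Type*} [Group Γ] [Finite Γ] {p : ℕ} [hp : Fact p.Prime]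

/-- `O_{p'}` is trivial in the centralizer or normalizer of a `p`-subgroup, if it is in the whole group. -/
theorem core_local (hs : IsPSolvable p Γ) (hO : pPrimeCore p Γ = ⊥) (T L : Subgroup Γ) (hT : IsPGroup p T)
    (hL : L ≤ Subgroup.normalizer (T : Set Γ)) (hCL : Subgroup.centralizer (T : Set Γ) ≤ L)
    (hdich : T ≤ L ∨ L ≤ Subgroup.centralizer (T : Set Γ)) : pPrimeCore p ↥L = ⊥ := by
  classical
  have hpp : p.Prime := hp.out
  obtain ⟨E₀, hE₀⟩ : ∃ E₀, E₀ = pPrimeCore p ↥L := ⟨_, rfl⟩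
  rw [← hE₀]
  haveI hE₀n : E₀.Normal := by
    rw [hE₀]; exact Cfsg.Agent.H03.pPrimeCore_normal'
  have hE₀c : (Nat.card E₀).Coprime p := by
    rw [hE₀]; exact Cfsg.Agent.H06.coprime_card_pPrimeCore p
  obtain ⟨E, hE⟩ : ∃ E, E = E₀.map L.subtype := ⟨_, rfl⟩
  have hEc : (Nat.card E).Coprime p := by
    rw [hE, ← Nat.card_congr (Subgroup.equivMapOfInjective E₀ _ L.subtype_injective).toEquiv]
    exact hE₀c
  have hEL : E ≤ L := by
    rw [hE]
    rintro _ ⟨y, -, rfl⟩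
    exact y.2
  -- `p`-groups and `p'`-groups meet trivially
  have hdisj : ∀ (A B : Subgroup Γ), IsPGroup p A → (Nat.card B).Coprime p → ∀ x, x ∈ A → x ∈ B → x = 1 := by
    intro A B hA hB x hxA hxB
    obtain ⟨n, hn⟩ := IsPGroup.iff_card.1 hA
    have h1 : orderOf x ∣ Nat.card A := Subgroup.orderOf_dvd_natCard A hxA
    have h2 : orderOf x ∣ Nat.card B := Subgroup.orderOf_dvd_natCard B hxB
    have h3 : (Nat.card A).Coprime (Nat.card B) := by
      rw [hn]; exact Nat.Coprime.pow_left n hB.symm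
    have h4 := Nat.Coprime.eq_one_of_dvd (h3.coprime_dvd_left h1) h2
    exact orderOf_eq_one_iff.1 h4
  -- `E` centralizes `T`
  have hETc : E ≤ Subgroup.centralizer (T : Set Γ) := by
    rcases hdich with hTL | hLC
    · rw [hE]
      rintro _ ⟨e, he, rfl⟩
      refine Subgroup.mem_centralizer_iff.2 ?_
      intro t ht
      -- `[e,t] ∈ E ∩ T`
      have h1 : e * ⟨t, hTL ht⟩ * e⁻¹ * (⟨t, hTL ht⟩ : ↥L)⁻¹ ∈ E₀ := by
        have h2 := hE₀n.conj_mem e⁻¹ (E₀.inv_mem he) ⟨t, hTL ht⟩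
        have e2 : e * ⟨t, hTL ht⟩ * e⁻¹ * (⟨t, hTL ht⟩ : ↥L)⁻¹ = e * ((⟨t, hTL ht⟩ : ↥L) * e⁻¹ * (⟨t, hTL ht⟩ : ↥L)⁻¹) := by
          group
        rw [e2]
        exact E₀.mul_mem he h2
      have h3 : (e : Γ) * t * (e : Γ)⁻¹ * t⁻¹ ∈ E := by
        rw [hE]
        exact ⟨_, h1, rfl⟩
      have h4 : (e : Γ) * t * (e : Γ)⁻¹ * t⁻¹ ∈ T := by
        have h5 : (e : Γ) * t * (e : Γ)⁻¹ ∈ T := (Subgroup.mem_normalizer_iff.1 (hL e.2) t).1 ht
        exact T.mul_mem h5 (T.inv_mem ht)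
      have h6 := hdisj T E hT hEc _ h4 h3
      have h7 : (e : Γ) * t * (e : Γ)⁻¹ = t := by
        rw [mul_inv_eq_one] at h6
        exact h6
      calc t * (e : Γ) = ((e : Γ) * t * (e : Γ)⁻¹) * (e : Γ) := by rw [h7]
        _ = (e : Γ) * t := by group
    · exact hEL.trans hLC
  obtain ⟨B, hB⟩ : ∃ B, B = pCore p Γ := ⟨_, rfl⟩
  haveI hBn : B.Normal := by
    rw [hB]; exact Cfsg.Agent.H01.pCore_normal p
  have hBp : IsPGroup p B := by
    rw [hB]; exact Cfsg.Agent.H01.pCore_isPGroup p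
  -- `E` centralizes `C_B(T)`
  have hC : B ⊓ Subgroup.centralizer (T : Set Γ) ≤ Subgroup.centralizer (E : Set Γ) := by
    rintro b ⟨hbB, hbC⟩
    refine Subgroup.mem_centralizer_iff.2 ?_
    intro e he
    have heL := hEL he
    have hbL := hCL hbC
    have hBCp : IsPGroup p (B ⊓ Subgroup.centralizer (T : Set Γ) : Subgroup Γ) := hBp.to_le inf_le_left
    -- `[e,b] ∈ E ∩ C_B(T)`
    have h1 : e * b * e⁻¹ * b⁻¹ ∈ E := by
      rw [hE]
      obtain ⟨e₀, he₀, rfl⟩ : ∃ e₀ ∈ E₀, L.subtype e₀ = e := by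
        rw [hE] at he
        exact he
      have h2 := hE₀n.conj_mem e₀⁻¹ (E₀.inv_mem he₀) ⟨b, hbL⟩
      have h3 : e₀ * (⟨b, hbL⟩ * e₀⁻¹ * (⟨b, hbL⟩ : ↥L)⁻¹) ∈ E₀ := E₀.mul_mem he₀ h2
      refine ⟨_, h3, ?_⟩
      simp only [Subgroup.subtype_apply, Subgroup.coe_mul, InvMemClass.coe_inv]
      group
    have h2 : e * b * e⁻¹ * b⁻¹ ∈ (B ⊓ Subgroup.centralizer (T : Set Γ) : Subgroup Γ) := by
      refine ⟨B.mul_mem (hBn.conj_mem b hbB e) (B.inv_mem hbB), ?_⟩
      apply Subgroup.mul_mem _ _ ((Subgroup.centralizer (T : Set Γ)).inv_mem hbC)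
      refine Subgroup.mem_centralizer_iff.2 ?_
      intro t ht
      have h3 := Subgroup.mem_centralizer_iff.1 (hETc he) t ht
      have h4 := Subgroup.mem_centralizer_iff.1 hbC t ht
      calc t * (e * b * e⁻¹) = (t * e) * b * e⁻¹ := by group
        _ = (e * t) * b * e⁻¹ := by rw [h3]
        _ = e * (t * b) * e⁻¹ := by group
        _ = e * (b * t) * e⁻¹ := by rw [h4]
        _ = (e * b) * (t * e⁻¹) := by group
        _ = (e * b) * (e⁻¹ * t) := by
          congr 1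
          have h5 : t * e⁻¹ = e⁻¹ * t := by
            rw [eq_inv_mul_iff_mul_eq, ← mul_assoc, ← h3]; group
          exact h5
        _ = e * b * e⁻¹ * t := by group
    have h6 := hdisj _ E hBCp hEc _ h2 h1
    have h7 : e * b * e⁻¹ = b := by
      rw [mul_inv_eq_one] at h6
      exact h6
    calc e * b = (e * b * e⁻¹) * e := by group
      _ = b * e := by rw [h7]
  have h1 := Cfsg.Agent.H01.thompson_PxQ p T E B hT hEc hBp
    ((Subgroup.le_centralizer_iff).1 hETc)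
    (fun t _ => by
      rw [Subgroup.mem_normalizer_iff]
      intro x
      constructor
      · intro hx
        exact hBn.conj_mem x hx t
      · intro hx
        have := hBn.conj_mem _ hx t⁻¹
        simpa [mul_assoc] using this)
    (fun t _ => by
      rw [Subgroup.mem_normalizer_iff]
      intro x
      constructor
      · intro hx
        exact hBn.conj_mem x hx t
      · intro hx
        have := hBn.conj_mem _ hx t⁻¹
        simpa [mul_assoc] using this)
    hC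
  have h2 := Cfsg.Agent.H03.centralizer_pCore_le_of_isPSolvable hs hO
  rw [← hB] at h2
  rw [eq_bot_iff]
  intro e he
  have h3 : (e : Γ) ∈ E := by
    rw [hE]
    exact ⟨e, he, rfl⟩
  have h4 : (e : Γ) ∈ B := h2 (h1 h3)
  have h5 := hdisj B E hBp hEc _ h4 h3
  exact Subgroup.mem_bot.2 (Subtype.ext h5)

end local_core

end Cfsg.Agent.H20.TQ
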