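import Mathlib
import Cfsg.Agent.Lib.H20.Basic
import Cfsg.Agent.Lib.H18.Syl
import Cfsg.Agent.Lib.H19.CyclicSylow
import Cfsg.Agent.Lib.H20.SylowNumber

/-! Simple groups with `2p + 1` Sylow `p`-subgroups (helper20). -/

set_option autoImplicit false
set_option linter.style.haveILetI false
set_option linter.unusedSectionVars false

namespace Cfsg.Agent.H20

open Subgroup

section
variable {S : Type*} [Group S] [Finite S] {p : ℕ} [Fact p.Prime]

/-- Membership in the conjugate of a Sylow subgroup. -/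
lemma mem_sylow_smul (g x : S) (Q : Sylow p S) :
    x ∈ ((g • Q : Sylow p S) : Subgroup S) ↔ g⁻¹ * x * g ∈ (Q : Subgroup S) := by
  rw [Sylow.coe_subgroup_smul, Subgroup.mem_pointwise_smul_iff_inv_smul_mem]
  simp [MulAut.smul_def]

lemma smul_eq_iff' {g : S} {Q : Sylow p S} :
    g • Q = Q ↔ g ∈ normalizer ((Q : Subgroup S) : Set S) :=
  Sylow.smul_eq_iff_mem_normalizer

lemma smul_self_of_mem {g : S} {Q : Sylow p S} (h : g ∈ (Q : Subgroup S)) : g • Q = Q :=
  smul_eq_iff'.mpr (Subgroup.le_normalizer h)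

lemma mem_of_smul_eq {g : S} {P Q : Sylow p S} (hP : g ∈ (P : Subgroup S)) (h : g • Q = Q) :
    g ∈ (Q : Subgroup S) := by
  have h1 : g ∈ (P : Subgroup S) ⊓ normalizer ((Q : Subgroup S) : Set S) := ⟨hP, smul_eq_iff'.mp h⟩
  have h2 : (P : Subgroup S) ⊓ normalizer ((Q : Subgroup S) : Set S) = (P : Subgroup S) ⊓ Q :=
    P.isPGroup'.inf_normalizer_sylow Q
  rw [h2] at h1
  exact h1.2

/-- Orbit under a Sylow subgroup. -/
lemma card_orbit_sylow (P Q : Sylow p S) :
    (MulAction.orbit (P : Subgroup S) Q).ncard = (Q : Subgroup S).relIndex (P : Subgroup S) := by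
  rw [← MulAction.index_stabilizer, Subgroup.relIndex]
  congr 1
  ext u
  rw [MulAction.mem_stabilizer_iff, Subgroup.mem_subgroupOf]
  show (u : S) • Q = Q ↔ _
  constructor
  · intro h
    exact mem_of_smul_eq u.2 h
  · intro h
    exact smul_self_of_mem h

lemma mem_orbit_iff' {P Q R : Sylow p S} :
    R ∈ MulAction.orbit (P : Subgroup S) Q ↔ ∃ u ∈ (P : Subgroup S), u • Q = R := by
  constructor
  · rintro ⟨u, rfl⟩
    exact ⟨u, u.2, rfl⟩
  · rintro ⟨u, hu, rfl⟩
    exact ⟨⟨u, hu⟩, rfl⟩

lemma sylow_eq_of_le' {P Q : Sylow p S} (h : (P : Subgroup S) ≤ Q) : P = Q := by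
  apply Sylow.ext
  exact le_antisymm h (P.3 Q.isPGroup' h).le

lemma card_sylow_eq_card (P Q : Sylow p S) :
    Nat.card (P : Subgroup S) = Nat.card (Q : Subgroup S) := by
  rw [P.card_eq_multiplicity, Q.card_eq_multiplicity]

lemma orbit_disjoint {X Q₁ Q₂ : Sylow p S} (h : Q₂ ∉ MulAction.orbit (X : Subgroup S) Q₁) :
    Disjoint (MulAction.orbit (X : Subgroup S) Q₁) (MulAction.orbit (X : Subgroup S) Q₂) := by
  rw [Set.disjoint_left]
  intro R h1 h2
  obtain ⟨u, hu, rfl⟩ := mem_orbit_iff'.mp h1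
  obtain ⟨v, hv, hv2⟩ := mem_orbit_iff'.mp h2
  apply h
  rw [mem_orbit_iff']
  refine ⟨v⁻¹ * u, (X : Subgroup S).mul_mem ((X : Subgroup S).inv_mem hv) hu, ?_⟩
  rw [mul_smul, ← hv2, inv_smul_smul]

end

section simple

variable {S : Type*} [Group S] [Finite S] {p : ℕ} [Fact p.Prime]
  (hS : IsSimpleGroup S) (hab : ¬ ∀ a b : S, a * b = b * a)

include hS hab

lemma simple_not_pgroup (q : ℕ) [Fact q.Prime] : ¬ IsPGroup q S := by
  intro h
  haveI := hS.toNontrivial
  have h1 := h.center_nontrivial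
  have h2 : Subgroup.center S = ⊤ :=
    (hS.eq_bot_or_eq_top_of_normal _ inferInstance).resolve_left
      (fun h3 => by
        rw [h3] at h1
        exact (Subgroup.nontrivial_iff_ne_bot _).mp h1 rfl)
  apply hab
  intro a b
  have : b ∈ Subgroup.center S := by rw [h2]; trivial
  exact (Subgroup.mem_center_iff.mp this a)

lemma eq_bot_of_le_all_sylow (A : Subgroup S) (hA : ∀ Q : Sylow p S, A ≤ Q) : A = ⊥ := by
  classical
  let N : Subgroup S := ⨅ Q : Sylow p S, (Q : Subgroup S)
  have hN : N.Normal := by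
    refine ⟨fun x hx g => ?_⟩
    rw [Subgroup.mem_iInf] at hx ⊢
    intro Q
    have h1 := hx (g⁻¹ • Q)
    rw [mem_sylow_smul] at h1
    simpa using h1
  have hle : A ≤ N := le_iInf hA
  rcases hS.eq_bot_or_eq_top_of_normal N hN with h | h
  · rw [h] at hle; exact le_bot_iff.mp hle
  · exfalso
    let Q : Sylow p S := default
    have h1 : (Q : Subgroup S) = ⊤ := by
      rw [eq_top_iff, ← h]
      exact iInf_le _ Q
    apply simple_not_pgroup hS hab p
    have h2 := Q.isPGroup'
    rw [h1] at h2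
    exact (IsPGroup.of_surjective h2 (Subgroup.topEquiv.toMonoidHom) (MulEquiv.surjective _))

lemma simple_smul_faithful (hn : Nat.card (Sylow p S) ≠ 1) (g : S)
    (hg : ∀ Q : Sylow p S, g • Q = Q) : g = 1 := by
  classical
  let N : Subgroup S := ⨅ Q : Sylow p S, normalizer ((Q : Subgroup S) : Set S)
  have hN : N.Normal := by
    refine ⟨fun x hx g => ?_⟩
    rw [Subgroup.mem_iInf] at hx ⊢
    intro Q
    have h1 := hx (g⁻¹ • Q)
    rw [← smul_eq_iff'] at h1 ⊢
    rw [mul_smul, mul_smul, h1, smul_inv_smul]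
  have hgN : g ∈ N := by
    rw [Subgroup.mem_iInf]
    intro Q
    exact smul_eq_iff'.mp (hg Q)
  rcases hS.eq_bot_or_eq_top_of_normal N hN with h | h
  · rw [h, Subgroup.mem_bot] at hgN; exact hgN
  · exfalso
    apply hn
    let Q : Sylow p S := default
    have h1 : normalizer ((Q : Subgroup S) : Set S) = ⊤ := by
      rw [eq_top_iff, ← h]
      exact iInf_le _ Q
    haveI : (Q : Subgroup S).Normal := Subgroup.normalizer_eq_top_iff.mp h1
    haveI : Unique (Sylow p S) := Sylow.unique_of_normal Q inferInstance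
    exact Nat.card_unique

omit hS hab in
lemma ncard_ne (hcard : Nat.card (Sylow p S) = 2 * p + 1) (P : Sylow p S) :
    ({R | R ≠ P} : Set (Sylow p S)).ncard = 2 * p := by
  classical
  have h1 : ({R | R ≠ P} : Set (Sylow p S)) = {P}ᶜ := by
    ext R; simp
  rw [h1, Set.ncard_compl, hcard, Set.ncard_singleton]
  omega

omit hS hab in
lemma orbit_subset_ne {P Q : Sylow p S} (h : Q ≠ P) :
    MulAction.orbit (P : Subgroup S) Q ⊆ {R | R ≠ P} := by
  intro R hR hRP
  obtain ⟨u, hu, rfl⟩ := mem_orbit_iff'.mp hR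
  apply h
  have h2 : u⁻¹ • P = P := smul_self_of_mem ((P : Subgroup S).inv_mem hu)
  rw [← h2, ← hRP, inv_smul_smul]

variable (hp2 : p ≠ 2) (hcard : Nat.card (Sylow p S) = 2 * p + 1)

omit hS hab in
include hp2 hcard in
lemma relIndex_eq_prime {P Q : Sylow p S} (h : Q ≠ P) :
    (Q : Subgroup S).relIndex (P : Subgroup S) = p := by
  have hp : p.Prime := Fact.out
  have hp3 : 3 ≤ p := by
    have := hp.two_le
    omega
  obtain ⟨k, hk⟩ := P.isPGroup'.index ((Q : Subgroup S).subgroupOf (P : Subgroup S))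
  have hk' : (Q : Subgroup S).relIndex (P : Subgroup S) = p ^ k := hk
  have h1 := Set.ncard_le_ncard (orbit_subset_ne h) (Set.toFinite _)
  rw [card_orbit_sylow, ncard_ne hcard, hk'] at h1
  match k, hk', h1 with
  | 0, hk', _ =>
    exfalso
    rw [pow_zero, Subgroup.relIndex_eq_one] at hk'
    exact h (sylow_eq_of_le' hk').symm
  | 1, hk', _ => simpa using hk'
  | (n + 2), _, h2 =>
    exfalso
    have h3 : p ^ 2 ≤ p ^ (n + 2) := Nat.pow_le_pow_right hp.pos (by omega)
    nlinarith

omit hS hab in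
include hp2 hcard in
lemma normal_of_ne {P Q : Sylow p S} (h : Q ≠ P) :
    ((Q : Subgroup S).subgroupOf (P : Subgroup S)).Normal := by
  have hp : p.Prime := Fact.out
  have hidx : ((Q : Subgroup S).subgroupOf (P : Subgroup S)).index = p := relIndex_eq_prime hp2 hcard h
  have hco : IsCoatom ((Q : Subgroup S).subgroupOf (P : Subgroup S)) :=
    H20.isCoatom_of_index_prime _ (by rw [hidx]; exact hp)
  haveI : Group.IsNilpotent (P : Subgroup S) := P.isPGroup'.isNilpotent
  exact Subgroup.NormalizerCondition.normal_of_coatom _ Group.normalizerCondition_of_isNilpotent hco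

omit hS hab in
include hp2 hcard in
/-- Conjugation by an element of `X` does not change `X ∩ Q`. -/
lemma inf_smul_eq {X Q : Sylow p S} (h : Q ≠ X) {u : S} (hu : u ∈ (X : Subgroup S)) :
    (X : Subgroup S) ⊓ ((u • Q : Sylow p S) : Subgroup S) = (X : Subgroup S) ⊓ Q := by
  have hn := normal_of_ne hp2 hcard h
  ext x
  simp only [Subgroup.mem_inf]
  constructor
  · rintro ⟨hx, hx2⟩
    refine ⟨hx, ?_⟩
    rw [mem_sylow_smul] at hx2
    have h1 : (⟨u⁻¹ * x * u, (X : Subgroup S).mul_mem
        ((X : Subgroup S).mul_mem ((X : Subgroup S).inv_mem hu) hx) hu⟩ : (X : Subgroup S)) ∈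
        (Q : Subgroup S).subgroupOf (X : Subgroup S) := hx2
    have h2 := hn.conj_mem _ h1 ⟨u, hu⟩
    rw [Subgroup.mem_subgroupOf] at h2
    simpa [mul_assoc] using h2
  · rintro ⟨hx, hx2⟩
    refine ⟨hx, ?_⟩
    rw [mem_sylow_smul]
    have h1 : (⟨x, hx⟩ : (X : Subgroup S)) ∈ (Q : Subgroup S).subgroupOf (X : Subgroup S) := hx2
    have h2 := hn.conj_mem _ h1 ⟨u⁻¹, (X : Subgroup S).inv_mem hu⟩
    rw [Subgroup.mem_subgroupOf] at h2
    simpa using h2

omit hS hab in
include hp2 hcard in
lemma three_orbits {X Q₁ Q₂ Q₃ : Sylow p S} (h1 : Q₁ ≠ X) (h2 : Q₂ ≠ X) (h3 : Q₃ ≠ X)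
    (h12 : Q₂ ∉ MulAction.orbit (X : Subgroup S) Q₁)
    (h13 : Q₃ ∉ MulAction.orbit (X : Subgroup S) Q₁)
    (h23 : Q₃ ∉ MulAction.orbit (X : Subgroup S) Q₂) : False := by
  have hp : p.Prime := Fact.out
  have c1 := card_orbit_sylow X Q₁
  have c2 := card_orbit_sylow X Q₂
  have c3 := card_orbit_sylow X Q₃
  rw [relIndex_eq_prime hp2 hcard h1] at c1
  rw [relIndex_eq_prime hp2 hcard h2] at c2
  rw [relIndex_eq_prime hp2 hcard h3] at c3
  have d12 := orbit_disjoint h12
  have d13 := orbit_disjoint h13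
  have d23 := orbit_disjoint h23
  have hu : (MulAction.orbit (X : Subgroup S) Q₁ ∪ MulAction.orbit (X : Subgroup S) Q₂) ∪
      MulAction.orbit (X : Subgroup S) Q₃ ⊆ {R | R ≠ X} :=
    Set.union_subset (Set.union_subset (orbit_subset_ne h1) (orbit_subset_ne h2)) (orbit_subset_ne h3)
  have hc := Set.ncard_le_ncard hu (Set.toFinite _)
  rw [ncard_ne hcard X, Set.ncard_union_eq (Set.disjoint_union_left.mpr ⟨d13, d23⟩) (Set.toFinite _)
    (Set.toFinite _), Set.ncard_union_eq d12 (Set.toFinite _) (Set.toFinite _), c1, c2, c3] at hc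
  have := hp.pos
  omega

omit hS hab in
include hp2 hcard in
lemma not_mem_orbit_of_inf_ne {X Q₁ Q₂ : Sylow p S} (h1 : Q₁ ≠ X)
    (h : (X : Subgroup S) ⊓ Q₁ ≠ (X : Subgroup S) ⊓ Q₂) : Q₂ ∉ MulAction.orbit (X : Subgroup S) Q₁ := by
  intro hmem
  obtain ⟨u, hu, rfl⟩ := mem_orbit_iff'.mp hmem
  exact h (inf_smul_eq hp2 hcard h1 hu).symm

omit hS hab in
include hp2 hcard in
lemma card_inf_mul (R R' : Sylow p S) (h : R ≠ R') :
    Nat.card ((R : Subgroup S) ⊓ R' : Subgroup S) * p = Nat.card (R : Subgroup S) := by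
  have := H18.card_inf_mul_relIndex (R' : Subgroup S) (R : Subgroup S)
  rw [relIndex_eq_prime hp2 hcard h.symm, inf_comm] at this
  exact this

omit hS hab in
include hp2 hcard in
lemma eq_inf_of_le_of_card (R R' : Sylow p S) (h : R ≠ R') (B : Subgroup S)
    (h1 : B ≤ R) (h2 : B ≤ R') (hB : Nat.card B * p = Nat.card (R : Subgroup S)) :
    B = (R : Subgroup S) ⊓ R' := by
  have hp : p.Prime := Fact.out
  apply Subgroup.eq_of_le_of_card_ge (le_inf h1 h2)
  have := card_inf_mul hp2 hcard R R' h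
  rw [← hB] at this
  exact (Nat.eq_of_mul_eq_mul_right hp.pos this).le

include hp2 hcard in
lemma inf_eq_bot' {P Q : Sylow p S} (h : P ≠ Q) : (P : Subgroup S) ⊓ Q = ⊥ := by
  by_contra hne
  set A : Subgroup S := (P : Subgroup S) ⊓ Q with hA
  have hp : p.Prime := Fact.out
  have hp3 : 3 ≤ p := by
    have := hp.two_le
    omega
  obtain ⟨X, hX⟩ : ∃ X : Sylow p S, ¬ A ≤ X := by
    by_contra hcon
    push Not at hcon
    exact hne (eq_bot_of_le_all_sylow hS hab A hcon)
  -- orbit of `P` under `Q`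
  have horb := card_orbit_sylow Q P
  rw [relIndex_eq_prime hp2 hcard h] at horb
  have h2lt : 2 < (MulAction.orbit (Q : Subgroup S) P).ncard := by omega
  obtain ⟨R₁, R₂, R₃, h₁, h₂, h₃, h12, h13, h23⟩ := (Set.two_lt_ncard_iff (Set.toFinite _)).mp h2lt
  have hAcont : ∀ R ∈ MulAction.orbit (Q : Subgroup S) P, A ≤ (R : Subgroup S) := by
    intro R hR
    obtain ⟨u, hu, rfl⟩ := mem_orbit_iff'.mp hR
    intro x hx
    rw [mem_sylow_smul]
    have hn := normal_of_ne hp2 hcard h
    have h1 : (⟨x, hx.2⟩ : (Q : Subgroup S)) ∈ (P : Subgroup S).subgroupOf (Q : Subgroup S) := hx.1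
    have h2 := hn.conj_mem _ h1 ⟨u⁻¹, (Q : Subgroup S).inv_mem hu⟩
    rw [Subgroup.mem_subgroupOf] at h2
    simpa using h2
  have hne' : ∀ R ∈ MulAction.orbit (Q : Subgroup S) P, R ≠ X := by
    intro R hR hRX
    apply hX
    rw [← hRX]
    exact hAcont R hR
  have hcardA : Nat.card A * p = Nat.card (P : Subgroup S) := card_inf_mul hp2 hcard P Q h
  have key : ∀ R R' : Sylow p S, R ∈ MulAction.orbit (Q : Subgroup S) P →
      R' ∈ MulAction.orbit (Q : Subgroup S) P → R ≠ R' →
      (X : Subgroup S) ⊓ R ≠ (X : Subgroup S) ⊓ R' := by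
    intro R R' hR hR' hRR' heq
    have e1 : A = (R : Subgroup S) ⊓ R' := eq_inf_of_le_of_card hp2 hcard R R' hRR' A (hAcont R hR)
      (hAcont R' hR') (by rw [hcardA]; exact card_sylow_eq_card P R)
    have hcardB : Nat.card ((X : Subgroup S) ⊓ R : Subgroup S) * p = Nat.card (X : Subgroup S) :=
      card_inf_mul hp2 hcard X R (hne' R hR).symm
    have e2 : (X : Subgroup S) ⊓ R = (R : Subgroup S) ⊓ R' :=
      eq_inf_of_le_of_card hp2 hcard R R' hRR' _ inf_le_right (by rw [heq]; exact inf_le_right)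
        (by rw [hcardB]; exact card_sylow_eq_card X R)
    apply hX
    rw [e1, ← e2]
    exact inf_le_left
  exact three_orbits hp2 hcard (hne' R₁ h₁) (hne' R₂ h₂) (hne' R₃ h₃)
    (not_mem_orbit_of_inf_ne hp2 hcard (hne' R₁ h₁) (key R₁ R₂ h₁ h₂ h12))
    (not_mem_orbit_of_inf_ne hp2 hcard (hne' R₁ h₁) (key R₁ R₃ h₁ h₃ h13))
    (not_mem_orbit_of_inf_ne hp2 hcard (hne' R₂ h₂) (key R₂ R₃ h₂ h₃ h23))

omit hab hS in
lemma exists_ne_sylow (hcard : Nat.card (Sylow p S) = 2 * p + 1) (P : Sylow p S) :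
    ∃ Q : Sylow p S, Q ≠ P := by
  have hp : p.Prime := Fact.out
  by_contra hcon
  push Not at hcon
  have : Subsingleton (Sylow p S) := ⟨fun a b => by rw [hcon a, hcon b]⟩
  have h1 : Nat.card (Sylow p S) = 1 := by
    haveI : Nonempty (Sylow p S) := ⟨P⟩
    exact Nat.card_of_subsingleton P
  have := hp.pos
  rw [h1] at hcard
  omega

include hp2 hcard in
lemma card_sylow_eq_prime (P : Sylow p S) : Nat.card (P : Subgroup S) = p := by
  obtain ⟨Q, hQ⟩ := exists_ne_sylow hcard P
  have h1 := card_inf_mul hp2 hcard P Q hQ.symm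
  rw [inf_eq_bot' hS hab hp2 hcard hQ.symm, Subgroup.card_bot, one_mul] at h1
  exact h1.symm

omit hp2 hcard in
lemma hom_comm_trivial {A : Type*} [CommGroup A] (f : S →* A) (x : S) : f x = 1 := by
  rcases hS.eq_bot_or_eq_top_of_normal f.ker inferInstance with h | h
  · exfalso
    apply hab
    intro a b
    have hinj : Function.Injective f := (MonoidHom.ker_eq_bot_iff f).mp h
    apply hinj
    rw [map_mul, map_mul, mul_comm]
  · have : x ∈ f.ker := by rw [h]; trivial
    exact this

include hp2 hcard in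
/-- An element of `p'`-order in `C(P)` fixing (up to `P`) a point fixes it. -/
lemma fix_of_mem_orbit {P Q : Sylow p S} (hQ : Q ≠ P) {h : S}
    (hc : h ∈ centralizer ((P : Subgroup S) : Set S)) {m : ℕ} (hm : h ^ m = 1)
    (hcop : Nat.Coprime m p) (hmem : h • Q ∈ MulAction.orbit (P : Subgroup S) Q) : h • Q = Q := by
  obtain ⟨u, hu, huQ⟩ := mem_orbit_iff'.mp hmem
  have hcomm : ∀ n : ℕ, h ^ n * u = u * h ^ n := by
    intro n
    have : h * u = u * h := (Subgroup.mem_centralizer_iff.mp hc u hu).symm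
    exact ((Commute.pow_left this n))
  have hn : ∀ n : ℕ, h ^ n • Q = u ^ n • Q := by
    intro n
    induction n with
    | zero => simp
    | succ n ih =>
      rw [pow_succ, mul_smul, ← huQ, ← mul_smul, hcomm n, mul_smul, ih, ← mul_smul, ← pow_succ']
  have h1 : u ^ m • Q = Q := by rw [← hn m, hm, one_smul]
  have hum : u ^ m ∈ (P : Subgroup S) := (P : Subgroup S).pow_mem hu m
  have h2 : u ^ m ∈ (Q : Subgroup S) := mem_of_smul_eq hum h1
  have h3 : u ^ m ∈ (P : Subgroup S) ⊓ Q := ⟨hum, h2⟩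
  rw [inf_eq_bot' hS hab hp2 hcard hQ.symm, Subgroup.mem_bot] at h3
  have h4 : u ^ p = 1 := by
    have h5 : (⟨u, hu⟩ : (P : Subgroup S)) ^ Nat.card (P : Subgroup S) = 1 := pow_card_eq_one'
    rw [card_sylow_eq_prime hS hab hp2 hcard P] at h5
    have h6 := congrArg Subtype.val h5
    simpa using h6
  have h7 : u = 1 := by
    have h8 := Nat.dvd_gcd (orderOf_dvd_of_pow_eq_one h3) (orderOf_dvd_of_pow_eq_one h4)
    rw [hcop] at h8
    exact orderOf_eq_one_iff.mp (Nat.dvd_one.mp h8)
  rw [← huQ, h7, one_smul]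

include hp2 hcard in
lemma eq_one_of_fix {P Q : Sylow p S} (hQ : Q ≠ P) {h : S}
    (hc : h ∈ centralizer ((P : Subgroup S) : Set S)) {m : ℕ} (hm : h ^ m = 1)
    (hcop : Nat.Coprime m p) (hmem : h • Q ∈ MulAction.orbit (P : Subgroup S) Q) : h = 1 := by
  have hp : p.Prime := Fact.out
  have hfix := fix_of_mem_orbit hS hab hp2 hcard hQ hc hm hcop hmem
  have hPfix : h • P = P := by
    rw [smul_eq_iff']
    exact Subgroup.centralizer_le_normalizer _ hc
  have hcu : ∀ u ∈ (P : Subgroup S), h * u = u * h := fun u hu =>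
    (Subgroup.mem_centralizer_iff.mp hc u hu).symm
  have hne : Nat.card (Sylow p S) ≠ 1 := by
    rw [hcard]
    have := hp.pos
    omega
  apply simple_smul_faithful hS hab hne
  intro R
  by_cases hRP : R = P
  · rw [hRP]; exact hPfix
  by_cases hRO : R ∈ MulAction.orbit (P : Subgroup S) Q
  · obtain ⟨u, hu, rfl⟩ := mem_orbit_iff'.mp hRO
    rw [← mul_smul, hcu u hu, mul_smul, hfix]
  · apply fix_of_mem_orbit hS hab hp2 hcard hRP hc hm hcop
    by_contra hcon
    have hhR : h • R ≠ P := by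
      intro h1
      apply hRP
      rw [← inv_smul_smul h R, h1, ← hPfix, inv_smul_smul, hPfix]
    refine three_orbits hp2 hcard hQ hRP hhR hRO ?_ hcon
    intro h1
    obtain ⟨u, hu, hu2⟩ := mem_orbit_iff'.mp h1
    apply hRO
    rw [mem_orbit_iff']
    refine ⟨u, hu, ?_⟩
    have h3 : h • (u • Q) = h • R := by
      rw [← mul_smul, hcu u hu, mul_smul, hfix, hu2]
    exact smul_left_cancel h h3

include hp2 hcard in
theorem centralizer_elem_eq_one (P : Sylow p S) {h : S}
    (hc : h ∈ centralizer ((P : Subgroup S) : Set S)) {m : ℕ} (hm : h ^ m = 1)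
    (hcop : Nat.Coprime m p) : h = 1 := by
  classical
  have hp : p.Prime := Fact.out
  obtain ⟨Q, hQ⟩ := exists_ne_sylow hcard P
  have hPfix : ∀ k : S, k ∈ centralizer ((P : Subgroup S) : Set S) → k • P = P := by
    intro k hk
    rw [smul_eq_iff']
    exact Subgroup.centralizer_le_normalizer _ hk
  have hne : ∀ (k : S) (R : Sylow p S), k ∈ centralizer ((P : Subgroup S) : Set S) → R ≠ P →
      k • R ≠ P := by
    intro k R hk hR h1
    apply hR
    rw [← inv_smul_smul k R, h1, ← hPfix k hk, inv_smul_smul, hPfix k hk]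
  by_contra hh1
  -- `h` moves every other point to a different orbit
  have horb : ∀ R : Sylow p S, R ≠ P → h • R ∉ MulAction.orbit (P : Subgroup S) R := by
    intro R hR hmem
    exact hh1 (eq_one_of_fix hS hab hp2 hcard hR hc hm hcop hmem)
  have hc2 : h * h ∈ centralizer ((P : Subgroup S) : Set S) :=
    (centralizer _).mul_mem hc hc
  have hcu : ∀ u ∈ (P : Subgroup S), h * u = u * h := fun u hu =>
    (Subgroup.mem_centralizer_iff.mp hc u hu).symm
  have hm2 : (h * h) ^ m = 1 := by
    rw [(Commute.refl h).mul_pow, hm, one_mul]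
  have h2mem : (h * h) • Q ∈ MulAction.orbit (P : Subgroup S) Q := by
    by_contra hcon
    rw [mul_smul] at hcon
    refine three_orbits hp2 hcard hQ (hne h Q hc hQ) (hne h _ hc (hne h Q hc hQ)) (horb Q hQ) hcon ?_
    intro h1
    obtain ⟨u, hu, hu2⟩ := mem_orbit_iff'.mp h1
    apply horb Q hQ
    rw [mem_orbit_iff']
    refine ⟨u, hu, ?_⟩
    have h3 : h • (u • Q) = h • (h • Q) := by
      rw [← mul_smul, hcu u hu, mul_smul, hu2]
    exact smul_left_cancel h h3
  have hsq : h * h = 1 := eq_one_of_fix hS hab hp2 hcard hQ hc2 hm2 hcop h2mem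
  -- sign computation
  let σ : Equiv.Perm (Sylow p S) := MulAction.toPermHom S (Sylow p S) h
  have hσ : σ ^ 2 = 1 := by
    have : σ ^ 2 = MulAction.toPermHom S (Sylow p S) (h * h) := by
      rw [map_mul, pow_two]
    rw [this, hsq, map_one]
  haveI : Fintype (Sylow p S) := Fintype.ofFinite _
  have hfix : Function.fixedPoints σ = {P} := by
    ext R
    simp only [Function.mem_fixedPoints, Set.mem_singleton_iff]
    constructor
    · intro h1
      by_contra hRP
      apply horb R hRP
      have h2 : h • R = R := h1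
      rw [h2]
      exact MulAction.mem_orbit_self R
    · rintro rfl
      exact hPfix h hc
  have hcardfix : Fintype.card (Function.fixedPoints σ) = 1 := by
    have : Nat.card (Function.fixedPoints σ) = 1 := by
      rw [hfix]; simp
    rw [← Nat.card_eq_fintype_card]; exact this
  have hsign := Equiv.Perm.sign_of_pow_two_eq_one hσ
  rw [hcardfix, ← Nat.card_eq_fintype_card, hcard] at hsign
  have h5 : (2 * p + 1 - 1) / 2 = p := by omega
  rw [h5] at hsign
  have hodd : Odd p := hp.odd_of_ne_two hp2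
  rw [hodd.neg_one_pow] at hsign
  have htriv := hom_comm_trivial hS hab (Equiv.Perm.sign.comp (MulAction.toPermHom S (Sylow p S))) h
  have : Equiv.Perm.sign σ = 1 := htriv
  rw [hsign] at this
  exact absurd this (by decide)

include hp2 hcard in
theorem centralizer_le_sylow (P : Sylow p S) :
    centralizer ((P : Subgroup S) : Set S) ≤ (P : Subgroup S) := by
  have hp : p.Prime := Fact.out
  have hcardP := card_sylow_eq_prime hS hab hp2 hcard P
  have hpg : IsPGroup p (centralizer ((P : Subgroup S) : Set S)) := by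
    intro x
    have hord : orderOf (x : S) ≠ 0 := (orderOf_pos (x : S)).ne'
    refine ⟨(orderOf (x : S)).factorization p, ?_⟩
    apply Subtype.ext
    push_cast
    apply centralizer_elem_eq_one hS hab hp2 hcard P
      ((centralizer _).pow_mem x.2 _) (m := orderOf (x : S) / p ^ (orderOf (x : S)).factorization p)
    · rw [← pow_mul, Nat.ordProj_mul_ordCompl_eq_self, pow_orderOf_eq_one]
    · exact (Nat.coprime_ordCompl hp hord).symm
  haveI : IsCyclic (P : Subgroup S) := isCyclic_of_prime_card hcardP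
  have hle : (P : Subgroup S) ≤ centralizer ((P : Subgroup S) : Set S) := by
    intro x hx
    rw [Subgroup.mem_centralizer_iff]
    intro y hy
    have := (IsCyclic.isMulCommutative (α := (P : Subgroup S))).is_comm.comm ⟨x, hx⟩ ⟨y, hy⟩
    have h2 := congrArg Subtype.val this
    exact h2.symm
  exact (P.3 hpg hle).le

omit hp2 hcard in
omit hS hab in
lemma relIndex_centralizer_normalizer_dvd (H : Subgroup S) :
    (centralizer (H : Set S)).relIndex (normalizer (H : Set S)) ∣ Nat.card (MulAut H) := by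
  have h1 : (centralizer (H : Set S)).relIndex (normalizer (H : Set S)) =
      (H.normalizerMonoidHom).ker.index := by
    rw [Subgroup.normalizerMonoidHom_ker]; rfl
  rw [h1, Subgroup.index_ker]
  exact Subgroup.card_subgroup_dvd_card _

omit hp2 hcard in
/-- Burnside's transfer: a cyclic Sylow `q`-subgroup with coprimality. -/
lemma cyclic_sylow_bz {q : ℕ} [Fact q.Prime] (R : Sylow q S) (hR : (R : Subgroup S) ≠ ⊥)
    [IsCyclic (R : Subgroup S)]
    (hcop : Nat.Coprime ((R : Subgroup S).relIndex (normalizer ((R : Subgroup S) : Set S)))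
      (Nat.card (MulAut (R : Subgroup S)))) : False := by
  have hle : (R : Subgroup S) ≤ centralizer ((R : Subgroup S) : Set S) := by
    intro x hx
    rw [Subgroup.mem_centralizer_iff]
    intro y hy
    have := (IsCyclic.isMulCommutative (α := (R : Subgroup S))).is_comm.comm ⟨x, hx⟩ ⟨y, hy⟩
    have h2 := congrArg Subtype.val this
    exact h2.symm
  have h1 := Subgroup.relIndex_dvd_of_le_left (normalizer ((R : Subgroup S) : Set S)) hle
  have h2 := relIndex_centralizer_normalizer_dvd (R : Subgroup S)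
  have h3 : (centralizer ((R : Subgroup S) : Set S)).relIndex
      (normalizer ((R : Subgroup S) : Set S)) = 1 :=
    Nat.eq_one_of_dvd_coprimes hcop h1 h2
  have h4 : normalizer ((R : Subgroup S) : Set S) ≤ centralizer ((R : Subgroup S) : Set S) :=
    Subgroup.relIndex_eq_one.mp h3
  obtain ⟨K, hK, hcomp⟩ := H19.burnside_complement R h4
  rcases hS.eq_bot_or_eq_top_of_normal K hK with h | h
  · subst h
    have hR2 : (R : Subgroup S) = ⊤ := by
      have := hcomp.card_mul_card
      rw [Subgroup.card_bot, one_mul] at this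
      exact Subgroup.eq_top_of_card_eq _ this
    apply simple_not_pgroup hS hab q
    have h2 := R.isPGroup'
    rw [hR2] at h2
    exact (IsPGroup.of_surjective h2 (Subgroup.topEquiv.toMonoidHom) (MulEquiv.surjective _))
  · subst h
    apply hR
    have := hcomp.card_mul_card
    rw [Subgroup.card_top] at this
    have h5 : Nat.card (R : Subgroup S) = 1 := by
      have hpos : 0 < Nat.card S := Nat.card_pos
      exact Nat.eq_of_mul_eq_mul_left hpos (by rw [this, mul_one])
    exact Subgroup.eq_bot_of_card_eq _ h5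

omit hp2 hcard in
omit hS hab in
lemma relIndex_normalizer_dvd_card (R : Subgroup S) :
    R.relIndex (normalizer (R : Set S)) ∣ R.index :=
  Dvd.intro _ (Subgroup.relIndex_mul_index (Subgroup.le_normalizer))

include hp2 hcard in
lemma centralizer_eq_sylow (P : Sylow p S) :
    centralizer ((P : Subgroup S) : Set S) = (P : Subgroup S) := by
  have hcardP := card_sylow_eq_prime hS hab hp2 hcard P
  have hp : p.Prime := Fact.out
  haveI : Fact (Nat.card (P : Subgroup S)).Prime := ⟨by rw [hcardP]; exact hp⟩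
  haveI : IsCyclic (P : Subgroup S) := isCyclic_of_prime_card rfl
  refine le_antisymm (centralizer_le_sylow hS hab hp2 hcard P) ?_
  intro x hx
  rw [Subgroup.mem_centralizer_iff]
  intro y hy
  have := (IsCyclic.isMulCommutative (α := (P : Subgroup S))).is_comm.comm ⟨x, hx⟩ ⟨y, hy⟩
  have h2 := congrArg Subtype.val this
  exact h2.symm

include hp2 hcard in
lemma card_eq_formula (P : Sylow p S) :
    ∃ r, r ∣ p - 1 ∧ Nat.card S = (2 * p + 1) * (p * r) := by
  have hp : p.Prime := Fact.out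
  have hcardP := card_sylow_eq_prime hS hab hp2 hcard P
  haveI : Fact (Nat.card (P : Subgroup S)).Prime := ⟨by rw [hcardP]; exact hp⟩
  haveI : IsCyclic (P : Subgroup S) := isCyclic_of_prime_card rfl
  have h1 : Nat.card (Sylow p S) = (normalizer ((P : Subgroup S) : Set S)).index :=
    P.card_eq_index_normalizer
  rw [hcard] at h1
  refine ⟨(P : Subgroup S).relIndex (normalizer ((P : Subgroup S) : Set S)), ?_, ?_⟩
  · have h2 := relIndex_centralizer_normalizer_dvd (P : Subgroup S)
    rw [centralizer_eq_sylow hS hab hp2 hcard P, IsCyclic.card_mulAut, hcardP,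
      Nat.totient_prime hp] at h2
    exact h2
  · have h2 := H18.card_inf_mul_relIndex (P : Subgroup S) (normalizer ((P : Subgroup S) : Set S))
    rw [inf_eq_left.mpr Subgroup.le_normalizer, hcardP] at h2
    rw [← (normalizer ((P : Subgroup S) : Set S)).index_mul_card, ← h1, h2]

omit hS hab hp2 hcard in
lemma mulAut_cyclic_of_card_prime (Q : Subgroup S) (h : Nat.card Q = p) [IsCyclic Q] :
    IsCyclic (MulAut Q) := by
  have h1 : IsCyclic (ZMod (Nat.card Q))ˣ := by
    rw [h]; infer_instance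
  exact isCyclic_of_injective (IsCyclic.mulAutMulEquiv Q).toMonoidHom (MulEquiv.injective _)

include hp2 hcard in
theorem not_two_dvd_card : ¬ 2 ∣ Nat.card S := by
  intro h2
  have hp : p.Prime := Fact.out
  haveI : Fact (Nat.Prime 2) := ⟨Nat.prime_two⟩
  let T : Sylow 2 S := default
  have hT : (T : Subgroup S) ≠ ⊥ := T.ne_bot_of_dvd_card h2
  obtain ⟨Q, hQ⟩ : ∃ Q : Sylow p S, ∀ t ∈ (T : Subgroup S), t • Q = Q := by
    have h3 := T.isPGroup'.card_modEq_card_fixedPoints (Sylow p S)
    rw [hcard] at h3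
    by_contra hcon
    push Not at hcon
    have h4 : IsEmpty (MulAction.fixedPoints (T : Subgroup S) (Sylow p S)) := by
      refine ⟨fun x => ?_⟩
      obtain ⟨t, ht, ht2⟩ := hcon x.1
      exact ht2 (x.2 ⟨t, ht⟩)
    rw [Nat.card_of_isEmpty] at h3
    have h5 : (2 * p + 1) % 2 = 0 := h3
    omega
  have hTN : (T : Subgroup S) ≤ normalizer ((Q : Subgroup S) : Set S) :=
    fun t ht => smul_eq_iff'.mp (hQ t ht)
  have hcardQ := card_sylow_eq_prime hS hab hp2 hcard Q
  haveI : Fact (Nat.card (Q : Subgroup S)).Prime := ⟨by rw [hcardQ]; exact hp⟩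
  haveI : IsCyclic (Q : Subgroup S) := isCyclic_of_prime_card rfl
  let f : (T : Subgroup S) →* MulAut (Q : Subgroup S) :=
    ((Q : Subgroup S).normalizerMonoidHom).comp (Subgroup.inclusion hTN)
  have hf : Function.Injective f := by
    rw [injective_iff_map_eq_one]
    intro t ht
    have h3 : Subgroup.inclusion hTN t ∈ ((Q : Subgroup S).normalizerMonoidHom).ker := ht
    rw [Subgroup.normalizerMonoidHom_ker, Subgroup.mem_subgroupOf,
      centralizer_eq_sylow hS hab hp2 hcard Q] at h3
    have h4 : (t : S) ∈ (Q : Subgroup S) := h3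
    have hco : Nat.Coprime (orderOf (t : S)) 2 := by
      have h5 : orderOf (t : S) ∣ p := by
        have h6 := Subgroup.orderOf_dvd_natCard (Q : Subgroup S) h4
        rwa [hcardQ] at h6
      have h7 : Nat.Coprime p 2 := (Nat.coprime_primes hp Nat.prime_two).mpr hp2
      exact Nat.Coprime.coprime_dvd_left h5 h7
    have h8 : orderOf (t : S) ∣ 2 ^ Nat.card (T : Subgroup S) := by
      obtain ⟨k, hk⟩ := IsPGroup.iff_card.mp T.isPGroup'
      have h9 := Subgroup.orderOf_dvd_natCard (T : Subgroup S) t.2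
      rw [hk] at h9
      exact h9.trans (pow_dvd_pow 2 (by rw [hk]; exact (Nat.lt_two_pow_self).le))
    have h10 : orderOf (t : S) = 1 :=
      Nat.eq_one_of_dvd_coprimes (hco.pow_right _) (dvd_refl _) h8
    apply Subtype.ext
    exact orderOf_eq_one_iff.mp h10
  haveI : IsCyclic (MulAut (Q : Subgroup S)) := mulAut_cyclic_of_card_prime (p := p) _ hcardQ
  haveI : IsCyclic (T : Subgroup S) := isCyclic_of_injective f hf
  apply cyclic_sylow_bz hS hab T hT
  rw [IsCyclic.card_mulAut]
  obtain ⟨k, hk⟩ := IsPGroup.iff_card.mp T.isPGroup'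
  rw [hk]
  have hk0 : k ≠ 0 := by
    rintro rfl
    apply hT
    apply Subgroup.eq_bot_of_card_eq
    rw [hk, pow_zero]
  rw [Nat.totient_prime_pow Nat.prime_two (Nat.pos_of_ne_zero hk0)]
  have h11 : ¬ 2 ∣ (T : Subgroup S).relIndex (normalizer ((T : Subgroup S) : Set S)) := fun h =>
    T.not_dvd_index (h.trans (relIndex_normalizer_dvd_card (T : Subgroup S)))
  have h12 : Nat.Coprime ((T : Subgroup S).relIndex (normalizer ((T : Subgroup S) : Set S))) 2 :=
    ((Nat.Prime.coprime_iff_not_dvd Nat.prime_two).mpr h11).symm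
  simpa using h12.pow_right (k - 1)

include hp2 hcard in
theorem false_of_five (h5 : 5 ∣ 2 * p + 1) (h25 : ¬ 25 ∣ 2 * p + 1) (hp5 : p ≠ 5)
    (hp1 : ¬ 5 ∣ p - 1) : False := by
  have hp : p.Prime := Fact.out
  have h5p : Nat.Prime 5 := by norm_num
  haveI : Fact (Nat.Prime 5) := ⟨h5p⟩
  obtain ⟨P⟩ : Nonempty (Sylow p S) := inferInstance
  obtain ⟨r, hr, hSc⟩ := card_eq_formula hS hab hp2 hcard P
  have hodd := not_two_dvd_card hS hab hp2 hcard
  let R : Sylow 5 S := default
  have h5S : 5 ∣ Nat.card S := by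
    rw [hSc]; exact h5.mul_right _
  have hR : (R : Subgroup S) ≠ ⊥ := R.ne_bot_of_dvd_card h5S
  have hcop : Nat.Coprime 5 (p * r) := by
    apply Nat.Coprime.mul_right
    · exact (Nat.coprime_primes h5p hp).mpr hp5.symm
    · rw [Nat.Prime.coprime_iff_not_dvd h5p]
      exact fun h => hp1 (h.trans hr)
  have h25S : ¬ 25 ∣ Nat.card S := by
    rw [hSc]
    intro h
    apply h25
    have h6 : Nat.Coprime 25 (p * r) := by
      have := hcop.pow_left 2
      simpa using this
    exact h6.dvd_of_dvd_mul_right h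
  obtain ⟨k, hk⟩ := IsPGroup.iff_card.mp R.isPGroup'
  have hk1 : k = 1 := by
    have hk0 : k ≠ 0 := by
      rintro rfl
      apply hR
      apply Subgroup.eq_bot_of_card_eq
      rw [hk, pow_zero]
    by_contra hk2
    apply h25S
    have h7 : 5 ^ k ∣ Nat.card S := by
      rw [← hk]; exact Subgroup.card_subgroup_dvd_card _
    have h8 : 5 ^ 2 ∣ 5 ^ k := pow_dvd_pow 5 (by omega)
    exact (by simpa using h8.trans h7)
  subst hk1
  rw [pow_one] at hk
  haveI : Fact (Nat.card (R : Subgroup S)).Prime := ⟨by rw [hk]; exact h5p⟩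
  haveI : IsCyclic (R : Subgroup S) := isCyclic_of_prime_card rfl
  apply cyclic_sylow_bz hS hab R hR
  rw [IsCyclic.card_mulAut, hk, Nat.totient_prime h5p]
  have h11 : ¬ 2 ∣ (R : Subgroup S).relIndex (normalizer ((R : Subgroup S) : Set S)) := by
    intro h
    apply hodd
    refine h.trans ((relIndex_normalizer_dvd_card (R : Subgroup S)).trans ?_)
    exact Subgroup.index_dvd_card _
  have h12 : Nat.Coprime ((R : Subgroup S).relIndex (normalizer ((R : Subgroup S) : Set S))) 2 :=
    ((Nat.Prime.coprime_iff_not_dvd Nat.prime_two).mpr h11).symm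
  simpa using h12.pow_right 2

end simple

/-- The general count: no finite group has `2p + 1` Sylow `p`-subgroups under arithmetic conditions. -/
theorem no_sylow_count.{u} (p : ℕ) [Fact p.Prime] (hp2 : p ≠ 2) (h5 : 5 ∣ 2 * p + 1)
    (h25 : ¬ 25 ∣ 2 * p + 1) (hp5 : p ≠ 5) (hp1 : ¬ 5 ∣ p - 1)
    (hfac : ∀ a b : ℕ, a ≡ 1 [MOD p] → b ≡ 1 [MOD p] → a * b = 2 * p + 1 → a = 1 ∨ b = 1)
    (hpow : ∀ q e : ℕ, q.Prime → q ^ e ≠ 2 * p + 1)
    (G : Type u) [Group G] [Finite G] : Nat.card (Sylow p G) ≠ 2 * p + 1 := by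
  have hp : p.Prime := Fact.out
  have hne1 : (1 : ℕ) ≠ 2 * p + 1 := by
    have := hp.pos
    omega
  have key := sylow_number_induction p (fun _ _ => True) (fun _ _ _ _ => trivial)
    (fun _ _ _ _ _ => trivial) (fun m => m ≡ 1 [MOD p] ∧ m ≠ 2 * p + 1)
    ⟨rfl, hne1⟩
    (fun a b ha hb => ⟨by simpa using ha.1.mul hb.1, fun h => by
      rcases hfac a b ha.1 hb.1 h with h1 | h1
      · rw [h1, one_mul] at h; exact hb.2 h
      · rw [h1, mul_one] at h; exact ha.2 h⟩)
    (fun q e hq hm => ⟨hm, hpow q e hq⟩)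
    (fun S _ _ hS _ => by
      refine ⟨card_sylow_modEq_one p S, fun h => ?_⟩
      by_cases hab : ∀ a b : S, a * b = b * a
      · obtain ⟨P⟩ : Nonempty (Sylow p S) := inferInstance
        have hN : (P : Subgroup S).Normal := by
          refine ⟨fun x hx g => ?_⟩
          rw [hab g x, mul_inv_cancel_right]
          exact hx
        haveI : Unique (Sylow p S) := Sylow.unique_of_normal P hN
        rw [Nat.card_unique] at h
        exact hne1 h
      · exact false_of_five hS hab hp2 h h5 h25 hp5 hp1)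
  exact (key _ G rfl trivial).2

end Cfsg.Agent.H20
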